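import Mathlib
import Cfsg.Agent.Lib.Char.DefectOneFamilies

/-!
Cyclotomic numbers of a subgroup `R` of the units modulo `p`, and their expression by the periods.
-/

set_option autoImplicit false
set_option linter.unusedSectionVars false

namespace Cfsg.Agent.Block.SmallFaith

open scoped ComplexConjugate
open Cfsg.Agent.Char.DefectOne Finset

variable {p : ℕ} [hp : Fact p.Prime] (R : Subgroup (ZMod p)ˣ)

/-- The class of `-1`. -/
noncomputable def negQ (q : (ZMod p)ˣ ⧸ R) : (ZMod p)ˣ ⧸ R :=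
  ((-1 : (ZMod p)ˣ) : (ZMod p)ˣ ⧸ R) * q

open scoped Classical in
/-- The number of the ways to write `1` as a sum from two classes. -/
noncomputable def N2 (a b : (ZMod p)ˣ ⧸ R) : ℕ :=
  (univ.filter fun v : (ZMod p)ˣ × (ZMod p)ˣ =>
    ((v.1 : (ZMod p)ˣ ⧸ R) = a ∧ (v.2 : (ZMod p)ˣ ⧸ R) = b) ∧
      (v.1 : ZMod p) + (v.2 : ZMod p) = 1).card

/-- The number of the ways to write an element of `q` as a sum from `a` and `b`. -/
noncomputable def tri (a b q : (ZMod p)ˣ ⧸ R) : ℕ := N2 R (a / q) (b / q)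

theorem negQ_negQ (q : (ZMod p)ˣ ⧸ R) : negQ R (negQ R q) = q := by
  rw [negQ, negQ, ← mul_assoc, ← QuotientGroup.mk_mul, neg_mul_neg, one_mul, QuotientGroup.mk_one,
    one_mul]

theorem negQ_of_mem (h : (-1 : (ZMod p)ˣ) ∈ R) (q : (ZMod p)ˣ ⧸ R) : negQ R q = q := by
  rw [negQ, (QuotientGroup.eq_one_iff _).2 h, one_mul]

theorem cosum_neg (q : (ZMod p)ˣ ⧸ R) (i : ZMod p) : cosum R q (-i) = cosum R (negQ R q) i := by
  have h := cosum_smul R q (-1) i
  rwa [Units.val_neg, Units.val_one, mul_neg_one] at h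

theorem conj_cosum (q : (ZMod p)ˣ ⧸ R) (i : ZMod p) :
    conj (cosum R q i) = cosum R (negQ R q) i := by
  classical
  rw [← cosum_neg]
  simp only [cosum, map_sum, apply_ite (starRingEnd ℂ), map_zero, ψc_conj, neg_mul]

theorem cosum_zero (q : (ZMod p)ˣ ⧸ R) : cosum R q (0 : ZMod p) = (Nat.card R : ℂ) := by
  classical
  simp only [cosum, zero_mul, AddChar.map_zero_eq_one, sum_boole]
  congr 1
  rw [Nat.card_eq_fintype_card, ← card_univ]
  symm
  refine card_bij (fun (r : R) _ => q.out * (r : (ZMod p)ˣ)) (fun r _ => ?_)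
    (fun r _ r' _ h => Subtype.ext (mul_left_cancel h)) fun j hj => ?_
  · refine mem_filter.2 ⟨mem_univ _, ?_⟩
    rw [QuotientGroup.mk_mul_of_mem _ r.2, QuotientGroup.out_eq']
  · refine ⟨⟨q.out⁻¹ * j, ?_⟩, mem_univ _, mul_inv_cancel_left _ _⟩
    rw [← QuotientGroup.eq, QuotientGroup.out_eq', (mem_filter.1 hj).2]

theorem sum_cosum (q : (ZMod p)ˣ ⧸ R) : ∑ i : ZMod p, cosum R q i = 0 := by
  classical
  simp only [cosum]
  rw [sum_comm]
  refine sum_eq_zero fun j _ => ?_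
  split
  · rw [ψc_sum, if_neg j.ne_zero]
  · exact sum_const_zero

/-- The sum over the non-zero exponents. -/
theorem sum_cosum_erase (q : (ZMod p)ˣ ⧸ R) :
    ∑ i ∈ univ.erase (0 : ZMod p), cosum R q i = -(Nat.card R : ℂ) := by
  rw [sum_erase_eq_sub (mem_univ _), sum_cosum, cosum_zero, zero_sub]

theorem sum_classes [Fintype ((ZMod p)ˣ ⧸ R)] {i : ZMod p} (hi : i ≠ 0) :
    ∑ q, cosum R q i = -1 := by
  classical
  simp only [cosum]
  rw [sum_comm]
  simp only [sum_ite_eq, mem_univ, if_true]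
  have h3 : ∑ j : (ZMod p)ˣ, ψc (i * (j : ZMod p)) =
      ∑ z ∈ univ.erase (0 : ZMod p), ψc (z * i) := by
    refine sum_bij (fun (j : (ZMod p)ˣ) _ => (j : ZMod p)) (fun j _ => by simp)
      (fun j _ j' _ e1 => Units.ext e1) (fun z hz => ?_) fun j _ => by rw [mul_comm]
    exact ⟨Units.mk0 z (ne_of_mem_erase hz), mem_univ _, rfl⟩
  rw [h3, sum_erase_eq_sub (mem_univ _), ψc_sum, if_neg hi, zero_mul, AddChar.map_zero_eq_one]
  ring

open scoped Classical in
theorem card_class (q : (ZMod p)ˣ ⧸ R) :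
    (univ.filter fun j : (ZMod p)ˣ => (j : (ZMod p)ˣ ⧸ R) = q).card = Nat.card R := by
  have h := cosum_zero R q
  simp only [cosum, zero_mul, AddChar.map_zero_eq_one, sum_boole] at h
  exact Nat.cast_injective h

/-- A product of two periods, summed over all exponents. -/
theorem sum_two (a b : (ZMod p)ˣ ⧸ R) [Decidable (b = negQ R a)] :
    ∑ i : ZMod p, cosum R a i * cosum R b i =
      if b = negQ R a then (p : ℂ) * Nat.card R else 0 := by
  classical
  simp only [cosum, sum_mul_sum]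
  rw [sum_comm]
  have h : ∀ j k : (ZMod p)ˣ, ∑ i : ZMod p,
      (if (j : (ZMod p)ˣ ⧸ R) = a then ψc (i * (j : ZMod p)) else 0) *
        (if (k : (ZMod p)ˣ ⧸ R) = b then ψc (i * (k : ZMod p)) else 0) =
      if (j : (ZMod p)ˣ ⧸ R) = a ∧ (k : (ZMod p)ˣ ⧸ R) = b ∧ k = -j then (p : ℂ) else 0 := by
    intro j k
    by_cases hj : (j : (ZMod p)ˣ ⧸ R) = a
    · by_cases hk : (k : (ZMod p)ˣ ⧸ R) = b
      · simp only [hj, hk, true_and, if_true]
        rw [sum_congr rfl (g := fun i => ψc (i * ((j : ZMod p) + (k : ZMod p)))) fun i _ => by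
          rw [mul_add, AddChar.map_add_eq_mul], ψc_sum]
        refine if_congr ⟨fun e => Units.ext ?_, fun e => ?_⟩ rfl rfl
        · rw [Units.val_neg]
          linear_combination e
        · rw [e, Units.val_neg, add_neg_cancel]
      · simp [hk]
    · simp [hj]
  rw [sum_congr rfl fun j _ => sum_comm.trans (sum_congr rfl fun k _ => h j k)]
  have h2 : ∀ j : (ZMod p)ˣ, ∑ k : (ZMod p)ˣ,
      (if (j : (ZMod p)ˣ ⧸ R) = a ∧ (k : (ZMod p)ˣ ⧸ R) = b ∧ k = -j then (p : ℂ) else 0) =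
      if (j : (ZMod p)ˣ ⧸ R) = a then (if b = negQ R a then (p : ℂ) else 0) else 0 := by
    intro j
    rw [sum_eq_single (-j) (fun k _ hk => if_neg fun e => hk e.2.2)
      (fun e => absurd (mem_univ _) e)]
    have e : ((-j : (ZMod p)ˣ) : (ZMod p)ˣ ⧸ R) = negQ R (j : (ZMod p)ˣ ⧸ R) := by
      rw [negQ, ← QuotientGroup.mk_mul, neg_one_mul]
    by_cases hj : (j : (ZMod p)ˣ ⧸ R) = a
    · simp [hj, e, eq_comm]
    · simp [hj]
  rw [sum_congr rfl fun j _ => h2 j, ← sum_filter, sum_const, card_class, nsmul_eq_mul]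
  split <;> ring

/-- The cyclotomic numbers as a sum of periods. -/
theorem sum_three (a b q : (ZMod p)ˣ ⧸ R) :
    ∑ i : ZMod p, cosum R a i * cosum R b i * conj (cosum R q i) =
      (p : ℂ) * Nat.card R * tri R a b q := by
  classical
  have h0 : ∀ i : ZMod p, cosum R a i * cosum R b i * conj (cosum R q i) =
      ∑ j : (ZMod p)ˣ, ∑ k : (ZMod p)ˣ, ∑ l : (ZMod p)ˣ,
        (if (j : (ZMod p)ˣ ⧸ R) = a then ψc (i * (j : ZMod p)) else 0) *
          (if (k : (ZMod p)ˣ ⧸ R) = b then ψc (i * (k : ZMod p)) else 0) *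
          (if (l : (ZMod p)ˣ ⧸ R) = q then ψc (-(i * (l : ZMod p))) else 0) := fun i => by
    simp only [cosum, map_sum, apply_ite (starRingEnd ℂ), map_zero, ψc_conj]
    rw [sum_mul_sum, sum_mul]
    refine sum_congr rfl fun j _ => ?_
    rw [sum_mul]
    exact sum_congr rfl fun k _ => mul_sum _ _ _
  simp only [h0]
  rw [sum_comm]
  have h : ∀ j k l : (ZMod p)ˣ, ∑ i : ZMod p,
      (if (j : (ZMod p)ˣ ⧸ R) = a then ψc (i * (j : ZMod p)) else 0) *
        (if (k : (ZMod p)ˣ ⧸ R) = b then ψc (i * (k : ZMod p)) else 0) *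
        (if (l : (ZMod p)ˣ ⧸ R) = q then ψc (-(i * (l : ZMod p))) else 0) =
      if (l : (ZMod p)ˣ ⧸ R) = q ∧ (((j / l : (ZMod p)ˣ) : (ZMod p)ˣ ⧸ R) = a / q ∧
          ((k / l : (ZMod p)ˣ) : (ZMod p)ˣ ⧸ R) = b / q) ∧
          ((j / l : (ZMod p)ˣ) : ZMod p) + ((k / l : (ZMod p)ˣ) : ZMod p) = 1
        then (p : ℂ) else 0 := by
    intro j k l
    by_cases hl : (l : (ZMod p)ˣ ⧸ R) = q
    · simp only [QuotientGroup.mk_div, hl, div_left_inj, true_and, if_true]
      by_cases hj : (j : (ZMod p)ˣ ⧸ R) = a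
      · by_cases hk : (k : (ZMod p)ˣ ⧸ R) = b
        · simp only [hj, hk, true_and, if_true, ← AddChar.map_add_eq_mul]
          rw [sum_congr rfl (g := fun i => ψc (i * ((j : ZMod p) + (k : ZMod p) - (l : ZMod p))))
            fun i _ => by ring_nf, ψc_sum]
          refine if_congr ?_ rfl rfl
          rw [Units.val_div_eq_div_val, Units.val_div_eq_div_val, ← add_div,
            div_eq_one_iff_eq l.ne_zero, sub_eq_zero]
        · simp [hk]
      · simp [hj]
    · simp [hl]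
  rw [sum_congr rfl fun j _ => sum_comm.trans (sum_congr rfl fun k _ => sum_comm.trans
    (sum_congr rfl fun l _ => h j k l))]
  simp only [← Finset.sum_product', ← sum_filter, sum_const, nsmul_eq_mul]
  rw [← sum_mul, ← Nat.cast_sum, ← card_sigma,
    show (p : ℂ) * Nat.card R * tri R a b q = ((Nat.card R * tri R a b q : ℕ) : ℂ) * p by
      push_cast; ring]
  congr 2
  rw [← card_class R q, tri, N2, ← card_product]
  refine card_nbij' (fun x => (x.2, x.1.1 / x.2, x.1.2 / x.2))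
    (fun x => ⟨(x.2.1 * x.1, x.2.2 * x.1), x.1⟩) ?_ ?_ ?_ ?_
  · intro x hx
    simpa using hx
  · intro x hx
    simpa using hx
  · intro x _
    simp
  · intro x _
    simp

section Totals

variable [Fintype ((ZMod p)ˣ ⧸ R)]

theorem tri_comm (a b q : (ZMod p)ˣ ⧸ R) : tri R a b q = tri R b a q := by
  have hp0 : (p : ℂ) * Nat.card R ≠ 0 :=
    mul_ne_zero (Nat.cast_ne_zero.2 hp.out.ne_zero) (Nat.cast_ne_zero.2 Nat.card_pos.ne')
  refine Nat.cast_injective (R := ℂ) (mul_left_cancel₀ hp0 ?_)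
  rw [← sum_three, ← sum_three]
  exact sum_congr rfl fun i _ => by ring

theorem tri_rot (a b q : (ZMod p)ˣ ⧸ R) : tri R q (negQ R b) a = tri R a b q := by
  have hp0 : (p : ℂ) * Nat.card R ≠ 0 :=
    mul_ne_zero (Nat.cast_ne_zero.2 hp.out.ne_zero) (Nat.cast_ne_zero.2 Nat.card_pos.ne')
  refine Nat.cast_injective (R := ℂ) (mul_left_cancel₀ hp0 ?_)
  rw [← sum_three, ← sum_three]
  refine Fintype.sum_equiv (Equiv.neg _) _ _ fun i => ?_
  simp only [Equiv.neg_apply, conj_cosum, cosum_neg, negQ_negQ]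
  ring

theorem tri_total (a b : (ZMod p)ˣ ⧸ R) [Decidable (b = negQ R a)] :
    (∑ q, tri R a b q) + (if b = negQ R a then 1 else 0) = Nat.card R := by
  classical
  have hp0 : (p : ℂ) * Nat.card R ≠ 0 :=
    mul_ne_zero (Nat.cast_ne_zero.2 hp.out.ne_zero) (Nat.cast_ne_zero.2 Nat.card_pos.ne')
  have hQ : (Fintype.card ((ZMod p)ˣ ⧸ R) : ℂ) * Nat.card R = (p : ℂ) - 1 := by
    have h := R.card_eq_card_quotient_mul_card_subgroup
    rw [Nat.card_eq_fintype_card, ZMod.card_units, Nat.card_eq_fintype_card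
      (α := (ZMod p)ˣ ⧸ R)] at h
    rw [← Nat.cast_mul, ← h, Nat.cast_sub hp.out.one_le, Nat.cast_one]
  have h1 : ∑ i : ZMod p, cosum R a i * cosum R b i * conj (∑ q, cosum R q i) =
      ∑ q, (p : ℂ) * Nat.card R * tri R a b q := by
    simp only [map_sum, mul_sum]
    rw [sum_comm]
    exact sum_congr rfl fun q _ => sum_three R a b q
  have h2 : ∑ i : ZMod p, cosum R a i * cosum R b i * conj (∑ q, cosum R q i) =
      (p : ℂ) * (Nat.card R : ℂ) ^ 2 - (if b = negQ R a then (p : ℂ) * Nat.card R else 0) := by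
    rw [← sum_two, ← add_sum_erase _ _ (mem_univ (0 : ZMod p)),
      ← add_sum_erase _ (fun i => cosum R a i * cosum R b i) (mem_univ (0 : ZMod p)),
      sum_congr rfl (g := fun i => -(cosum R a i * cosum R b i)) fun i hi => by
        rw [sum_classes R (ne_of_mem_erase hi)]; simp,
      sum_neg_distrib]
    simp only [cosum_zero, sum_const, card_univ, nsmul_eq_mul, map_mul, map_natCast]
    linear_combination (Nat.card R : ℂ) ^ 2 * hQ
  refine Nat.cast_injective (R := ℂ) (mul_left_cancel₀ hp0 ?_)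
  rw [Nat.cast_add, Nat.cast_sum, mul_add, mul_sum, ← h1, h2]
  split <;> simp <;> ring

theorem N2_eq_tri (a b q : (ZMod p)ˣ ⧸ R) : N2 R a b = tri R (a * q) (b * q) q := by
  rw [tri, mul_div_assoc, div_self', mul_one, mul_div_assoc, div_self', mul_one]

theorem sum_N2 : (∑ a, ∑ b, N2 R a b) + 2 = p := by
  classical
  simp only [N2, ← Finset.sum_product', univ_product_univ]
  rw [← card_biUnion fun x _ y _ hxy => disjoint_left.2 fun v h1 h2 => hxy
    (Prod.ext ((mem_filter.1 h1).2.1.1.symm.trans (mem_filter.1 h2).2.1.1)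
      ((mem_filter.1 h1).2.1.2.symm.trans (mem_filter.1 h2).2.1.2))]
  have h : ((univ : Finset (ZMod p)ˣ).erase 1).card + 2 = p := by
    rw [card_erase_of_mem (mem_univ _), card_univ, ZMod.card_units]
    have := hp.out.two_le
    omega
  refine Eq.trans (congrArg (· + 2) ?_) h
  refine card_bij (fun v _ => v.1) ?_ ?_ ?_
  · intro v hv
    obtain ⟨x, -, hv⟩ := mem_biUnion.1 hv
    refine mem_erase.2 ⟨fun e => v.2.ne_zero ?_, mem_univ _⟩
    have := (mem_filter.1 hv).2.2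
    rw [e, Units.val_one] at this
    linear_combination this
  · intro v hv w hw e
    obtain ⟨x, -, hv⟩ := mem_biUnion.1 hv
    obtain ⟨y, -, hw⟩ := mem_biUnion.1 hw
    refine Prod.ext e (Units.ext ?_)
    have h1 := (mem_filter.1 hv).2.2
    rw [← (mem_filter.1 hw).2.2, e] at h1
    exact add_left_cancel h1
  · intro v hv
    have h1 : (1 : ZMod p) - (v : ZMod p) ≠ 0 := fun e =>
      ne_of_mem_erase hv (Units.ext (sub_eq_zero.1 e).symm)
    refine ⟨(v, Units.mk0 _ h1), mem_biUnion.2 ⟨(_, _), mem_univ _,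
      mem_filter.2 ⟨mem_univ _, ⟨rfl, rfl⟩, ?_⟩⟩, rfl⟩
    rw [Units.val_mk0, add_sub_cancel]

theorem row_le (a : (ZMod p)ˣ ⧸ R) : ∑ b, N2 R a b ≤ Nat.card R := by
  classical
  simp only [N2]
  rw [← card_class R a, ← card_biUnion fun x _ y _ hxy => disjoint_left.2 fun v h1 h2 => hxy
    ((mem_filter.1 h1).2.1.2.symm.trans (mem_filter.1 h2).2.1.2)]
  refine card_le_card_of_injOn Prod.fst ?_ ?_
  · intro v hv
    obtain ⟨x, -, hv⟩ := mem_biUnion.1 hv
    exact mem_filter.2 ⟨mem_univ _, (mem_filter.1 hv).2.1.1⟩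
  · intro v hv w hw e
    obtain ⟨x, -, hv⟩ := mem_biUnion.1 hv
    obtain ⟨y, -, hw⟩ := mem_biUnion.1 hw
    refine Prod.ext e (Units.ext ?_)
    have h1 := (mem_filter.1 hv).2.2
    rw [← (mem_filter.1 hw).2.2, e] at h1
    exact add_left_cancel h1

/-- The pairs of solutions in the same classes. -/
theorem sum_N2_sq :
    (∑ a, ∑ b, (N2 R a b * N2 R a b - N2 R a b)) = (Nat.card R - 1) * (Nat.card R - 1) -
      (Nat.card R - 1) := by
  classical
  set T := (univ : Finset R).erase 1 with hT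
  have hTc : T.card = Nat.card R - 1 := by
    rw [hT, card_erase_of_mem (mem_univ _), card_univ, Nat.card_eq_fintype_card]
  rw [← hTc, ← offDiag_card]
  simp only [N2, ← offDiag_card, ← Finset.sum_product', univ_product_univ]
  rw [← card_sigma]
  have key : ∀ {v v' w w' : ZMod p} {r s : ZMod p}, v + w = 1 → v' + w' = 1 → v' = r * v →
      w' = s * w → v * (r - s) = 1 - s := by
    intro v v' w w' r s h1 h2 h3 h4
    rw [h3, h4] at h2
    linear_combination h2 - s * h1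
  refine card_bij (fun x hx =>
    ((⟨x.2.1.1⁻¹ * x.2.2.1, ?_⟩ : R), (⟨x.2.1.2⁻¹ * x.2.2.2, ?_⟩ : R))) ?_ ?_ ?_
  · obtain ⟨-, hx⟩ := mem_sigma.1 hx
    obtain ⟨h1, h2, -⟩ := mem_offDiag.1 hx
    exact QuotientGroup.eq.1 ((mem_filter.1 h1).2.1.1.trans (mem_filter.1 h2).2.1.1.symm)
  · obtain ⟨-, hx⟩ := mem_sigma.1 hx
    obtain ⟨h1, h2, -⟩ := mem_offDiag.1 hx
    exact QuotientGroup.eq.1 ((mem_filter.1 h1).2.1.2.trans (mem_filter.1 h2).2.1.2.symm)
  · rintro ⟨x, ⟨v, w⟩, v', w'⟩ hx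
    obtain ⟨-, hx⟩ := mem_sigma.1 hx
    obtain ⟨h1, h2, hne⟩ := mem_offDiag.1 hx
    have e1 := (mem_filter.1 h1).2.2
    have e2 := (mem_filter.1 h2).2.2
    simp only [mem_offDiag, hT, mem_erase, mem_univ, and_true, ne_eq]
    refine ⟨fun e => hne ?_, fun e => hne ?_, fun e => ?_⟩
    · have h := inv_mul_eq_one.1 (congrArg Subtype.val e)
      rw [← e2] at e1
      exact Prod.ext h (Units.ext (by rw [← h] at e1; exact add_left_cancel e1))
    · have h := inv_mul_eq_one.1 (congrArg Subtype.val e)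
      rw [← e2] at e1
      exact Prod.ext (Units.ext (by rw [← h] at e1; exact add_right_cancel e1)) h
    · have h : v⁻¹ * v' = w⁻¹ * w' := congrArg Subtype.val e
      set r : (ZMod p)ˣ := v⁻¹ * v' with hr
      have h3 := key e1 e2 (r := (r : ZMod p)) (s := (r : ZMod p))
        (by rw [hr, ← Units.val_mul, inv_mul_cancel_comm]) (by rw [h, ← Units.val_mul, inv_mul_cancel_comm])
      rw [sub_self, mul_zero, eq_comm, sub_eq_zero] at h3
      have h4 : v = v' := inv_mul_eq_one.1 (Units.ext h3.symm)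
      have h5 : w = w' := inv_mul_eq_one.1 (h.symm.trans (Units.ext h3.symm))
      exact hne (Prod.ext h4 h5)
  · rintro ⟨x, ⟨v, w⟩, v', w'⟩ hx ⟨y, ⟨V, W⟩, V', W'⟩ hy e
    obtain ⟨-, hx⟩ := mem_sigma.1 hx
    obtain ⟨-, hy⟩ := mem_sigma.1 hy
    obtain ⟨h1, h2, hne⟩ := mem_offDiag.1 hx
    obtain ⟨H1, H2, -⟩ := mem_offDiag.1 hy
    have er : v⁻¹ * v' = V⁻¹ * V' := congrArg Subtype.val (congrArg Prod.fst e)
    have es : w⁻¹ * w' = W⁻¹ * W' := congrArg Subtype.val (congrArg Prod.snd e)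
    set r : (ZMod p)ˣ := v⁻¹ * v' with hr
    set s : (ZMod p)ˣ := w⁻¹ * w' with hs
    have e1 := (mem_filter.1 h1).2.2
    have E1 := (mem_filter.1 H1).2.2
    have hv' : v' = r * v := by rw [hr, inv_mul_cancel_comm]
    have hw' : w' = s * w := by rw [hs, inv_mul_cancel_comm]
    have hV' : V' = r * V := by rw [er, inv_mul_cancel_comm]
    have hW' : W' = s * W := by rw [es, inv_mul_cancel_comm]
    have k1 := key e1 (mem_filter.1 h2).2.2 (congrArg Units.val hv') (congrArg Units.val hw')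
    have k2 := key E1 (mem_filter.1 H2).2.2 (congrArg Units.val hV') (congrArg Units.val hW')
    have hrs : (r : ZMod p) - (s : ZMod p) ≠ 0 := fun h0 => by
      rw [h0, mul_zero, eq_comm, sub_eq_zero] at k1
      have hs1 : s = 1 := Units.ext k1.symm
      have hr1 : r = 1 := Units.ext ((sub_eq_zero.1 h0).trans k1.symm)
      exact hne (Prod.ext (by rw [hv', hr1, one_mul]) (by rw [hw', hs1, one_mul]))
    obtain rfl : v = V := Units.ext (mul_right_cancel₀ hrs (k1.trans k2.symm))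
    obtain rfl : w = W := Units.ext (add_left_cancel (e1.trans E1.symm))
    obtain rfl : v' = V' := hv'.trans hV'.symm
    obtain rfl : w' = W' := hw'.trans hW'.symm
    obtain rfl : x = y := Prod.ext
      ((mem_filter.1 h1).2.1.1.symm.trans (mem_filter.1 H1).2.1.1)
      ((mem_filter.1 h1).2.1.2.symm.trans (mem_filter.1 H1).2.1.2)
    rfl
  · rintro ⟨⟨r, hr⟩, ⟨s, hs⟩⟩ hrs
    simp only [mem_offDiag, hT, mem_erase, mem_univ, and_true, ne_eq] at hrs
    obtain ⟨hr1, hs1, hne⟩ := hrs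
    have h1 : (r : ZMod p) - (s : ZMod p) ≠ 0 := fun h =>
      hne (Subtype.ext (Units.ext (sub_eq_zero.1 h)))
    have h2 : (1 : ZMod p) - (s : ZMod p) ≠ 0 := fun h =>
      hs1 (Subtype.ext (Units.ext (sub_eq_zero.1 h).symm))
    have h3 : (r : ZMod p) - 1 ≠ 0 := fun h => hr1 (Subtype.ext (Units.ext (sub_eq_zero.1 h)))
    set v : (ZMod p)ˣ := Units.mk0 ((1 - (s : ZMod p)) / ((r : ZMod p) - s)) (div_ne_zero h2 h1)
    set w : (ZMod p)ˣ := Units.mk0 (((r : ZMod p) - 1) / ((r : ZMod p) - s)) (div_ne_zero h3 h1)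
    have e1 : (v : ZMod p) + (w : ZMod p) = 1 := by
      simp only [v, w, Units.val_mk0]
      field_simp
      ring
    have e2 : ((v * r : (ZMod p)ˣ) : ZMod p) + ((w * s : (ZMod p)ˣ) : ZMod p) = 1 := by
      simp only [v, w, Units.val_mul, Units.val_mk0]
      field_simp
      ring
    refine ⟨⟨((v : (ZMod p)ˣ ⧸ R), (w : (ZMod p)ˣ ⧸ R)), (v, w), (v * r, w * s)⟩, ?_,
      Prod.ext (Subtype.ext (inv_mul_cancel_left v r)) (Subtype.ext (inv_mul_cancel_left w s))⟩
    refine mem_sigma.2 ⟨mem_univ _, mem_offDiag.2 ⟨mem_filter.2 ⟨mem_univ _, ⟨rfl, rfl⟩, e1⟩,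
      mem_filter.2 ⟨mem_univ _, ⟨QuotientGroup.mk_mul_of_mem _ hr, QuotientGroup.mk_mul_of_mem _ hs⟩,
        e2⟩, fun e => hr1 (Subtype.ext (mul_left_cancel ((congrArg Prod.fst e).symm.trans
          (mul_one v).symm)))⟩⟩

end Totals

end Cfsg.Agent.Block.SmallFaith
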