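import Mathlib
import Cfsg.Agent.Lib.Block.SmallFaith.Cyclo

/-!
Bounds on the multiplicities in products force the cyclotomic numbers to be nearly equal, against
their second moment.
-/

set_option autoImplicit false
set_option linter.unusedSectionVars false

namespace Cfsg.Agent.Block.SmallFaith

open Finset

variable {p : ℕ} [hp : Fact p.Prime] (R : Subgroup (ZMod p)ˣ) [Fintype ((ZMod p)ˣ ⧸ R)]
  [DecidableEq ((ZMod p)ˣ ⧸ R)]

/-- The bound from the products with the principal exceptional characters. -/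
def PBound (t : ℕ) (δ K : ℤ) : Prop :=
  (δ = 1 ∨ δ = -1) ∧ (∀ a b q, 0 ≤ K + δ * (tri R a b q : ℤ)) ∧
    ∀ a b, (t : ℤ) * K + δ * ((Nat.card R : ℤ) - (if b = negQ R a then 1 else 0)) ≤ (t : ℤ) - 1

/-- The bound from the products with the exceptional characters above the square. -/
def QBound (t : ℕ) (δ : ℤ) : Prop :=
  (δ = 1 ∨ δ = -1) ∧ ∀ a b, ∃ K : ℤ, (∀ q, 0 ≤ K + δ * (tri R a b q : ℤ)) ∧
    (t : ℤ) * K + δ * ((Nat.card R : ℤ) - (if b = negQ R a then 1 else 0)) ≤
      (t : ℤ) - 1 + (if b = negQ R a then 1 else 0)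

theorem card_classes {t : ℕ} (ht : Nat.card R * t + 1 = p) :
    Fintype.card ((ZMod p)ˣ ⧸ R) = t := by
  have h := R.card_eq_card_quotient_mul_card_subgroup
  rw [Nat.card_eq_fintype_card, ZMod.card_units, Nat.card_eq_fintype_card
    (α := (ZMod p)ˣ ⧸ R)] at h
  have h' : Fintype.card ((ZMod p)ˣ ⧸ R) * Nat.card R = t * Nat.card R := by
    rw [← h, mul_comm t]; omega
  exact Nat.eq_of_mul_eq_mul_right Nat.card_pos h'

theorem N2_total {t : ℕ} (ht : Nat.card R * t + 1 = p) :
    ∑ a, ∑ b, (N2 R a b : ℤ) = (Nat.card R : ℤ) * t - 1 := by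
  have h := sum_N2 R
  zify at h ht
  linarith

theorem N2_moment :
    ∑ a, ∑ b, ((N2 R a b : ℤ) * (N2 R a b - 1)) =
      ((Nat.card R : ℤ) - 1) * ((Nat.card R : ℤ) - 2) := by
  have h := sum_N2_sq R
  set e := Nat.card R with he
  have hpos : 0 < e := Nat.card_pos
  have h1 : e - 1 ≤ (e - 1) * (e - 1) := Nat.le_mul_self _
  zify [h1, (show 1 ≤ e by omega)] at h
  rw [show ((e : ℤ) - 1) * ((e : ℤ) - 2) = ((e : ℤ) - 1) * ((e : ℤ) - 1) - ((e : ℤ) - 1) by ring, ← h]
  push_cast [Nat.le_mul_self _]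
  refine sum_congr rfl fun a _ => sum_congr rfl fun b _ => ?_
  ring

theorem neg_mem_even (hp2 : p ≠ 2) (h : (-1 : (ZMod p)ˣ) ∈ R) : Even (Nat.card R) := by
  have h1 : orderOf (⟨-1, h⟩ : R) ∣ Nat.card R := orderOf_dvd_natCard _
  rw [Subgroup.orderOf_mk] at h1
  have h2 : orderOf (-1 : (ZMod p)ˣ) = 2 := by
    rw [orderOf_eq_prime_iff]
    refine ⟨by simp, fun e => ?_⟩
    have e' : (-1 : ZMod p) = 1 := by simpa using congrArg Units.val e
    have h' : ((2 : ℕ) : ZMod p) = 0 := by push_cast; linear_combination -e'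
    exact hp2 ((Nat.prime_dvd_prime_iff_eq hp.out Nat.prime_two).1 ((ZMod.natCast_eq_zero_iff _ _).1 h'))
  rw [h2] at h1
  exact even_iff_two_dvd.2 h1

variable {t j r : ℕ} (ht : Nat.card R * t + 1 = p) (ht3 : 3 ≤ t) (he : 3 ≤ Nat.card R)
  (hjr : Nat.card R = t * j + r) (hr : r < t)
include ht ht3 he hjr hr

theorem moment_shift :
    ∑ a, ∑ b, ((N2 R a b : ℤ) - j) * ((N2 R a b : ℤ) - j - 1) =
      (j : ℤ) * (t - 1) * (t - 2) + ((r : ℤ) - 1) * ((r : ℤ) - 2) := by
  have h : ∀ a b, ((N2 R a b : ℤ) - j) * ((N2 R a b : ℤ) - j - 1) =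
      (N2 R a b : ℤ) * ((N2 R a b : ℤ) - 1) - 2 * j * (N2 R a b : ℤ) + (j : ℤ) * (j + 1) :=
    fun a b => by ring
  simp only [h, sum_add_distrib, sum_sub_distrib, ← mul_sum, N2_moment, N2_total R ht, sum_const,
    card_univ, card_classes R ht, nsmul_eq_mul]
  rw [hjr]
  push_cast
  ring

theorem bound_neg {K : ℤ} (h : PBound R t (-1) K) :
    r = 2 ∧ (∀ a b, (N2 R a b : ℤ) ≤ j + 1) ∧
      ∑ a, ∑ b, (N2 R a b : ℤ) * ((j : ℤ) + 1 - N2 R a b) = (j : ℤ) * (t - 1) := by
  obtain ⟨-, h1, h2⟩ := h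
  have hK : (t : ℤ) * K ≤ (Nat.card R : ℤ) + t - 2 := by
    have := h2 1 (negQ R 1)
    rw [if_pos rfl] at this
    linarith
  have hle : ∀ a b, (N2 R a b : ℤ) ≤ K := fun a b => by
    have := h1 (a * 1) (b * 1) 1
    rw [← N2_eq_tri] at this
    linarith
  have hK1 : K ≤ j + 1 := by
    by_contra hc
    push Not at hc
    have : (t : ℤ) * (j + 2) ≤ t * K := mul_le_mul_of_nonneg_left (by omega) (by positivity)
    rw [hjr] at hK
    push_cast at hK
    nlinarith
  have hsum : ∀ U : ℤ, ∑ a, ∑ b, (N2 R a b : ℤ) * (U - N2 R a b) =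
      (U - 1) * ((Nat.card R : ℤ) * t - 1) -
        ((Nat.card R : ℤ) - 1) * ((Nat.card R : ℤ) - 2) := by
    intro U
    have e1 : ∀ a b, (N2 R a b : ℤ) * (U - N2 R a b) =
        (U - 1) * (N2 R a b : ℤ) - (N2 R a b : ℤ) * ((N2 R a b : ℤ) - 1) := fun a b => by ring
    simp only [e1, sum_sub_distrib, ← mul_sum, N2_moment, N2_total R ht]
  have hnn : ∀ U : ℤ, (∀ a b, (N2 R a b : ℤ) ≤ U) →
      ((Nat.card R : ℤ) - 1) * ((Nat.card R : ℤ) - 2) ≤ (U - 1) * ((Nat.card R : ℤ) * t - 1) := by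
    intro U hU
    have h3 : 0 ≤ ∑ a, ∑ b, (N2 R a b : ℤ) * (U - N2 R a b) :=
      sum_nonneg fun a _ => sum_nonneg fun b _ => mul_nonneg (Int.natCast_nonneg _) (sub_nonneg.2 (hU a b))
    rw [hsum] at h3
    linarith
  have hU := hnn (j + 1) fun a b => (hle a b).trans hK1
  rw [hjr] at hU
  push_cast at hU
  have hr2 : r = 2 := by
    rcases Nat.lt_or_ge r 2 with h01 | h2r
    · exfalso
      have hK0 : K ≤ j := by
        by_contra hc
        push Not at hc
        have : (t : ℤ) * (j + 1) ≤ t * K := mul_le_mul_of_nonneg_left (by omega) (by positivity)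
        rw [hjr] at hK
        push_cast at hK
        have : (r : ℤ) < 2 := by exact_mod_cast h01
        nlinarith
      have hU' := hnn j fun a b => (hle a b).trans hK0
      rw [hjr] at hU'
      push_cast at hU'
      have hj : (1 : ℤ) ≤ j := by
        by_contra hc
        have : j = 0 := by omega
        rw [this, mul_zero] at hjr
        omega
      have ht' : (3 : ℤ) ≤ t := by exact_mod_cast ht3
      interval_cases r <;> (push_cast at hU'; nlinarith)
    · by_contra hne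
      have h3 : (3 : ℤ) ≤ r := by exact_mod_cast (show 3 ≤ r by omega)
      nlinarith
  refine ⟨hr2, fun a b => (hle a b).trans hK1, ?_⟩
  rw [hsum, hjr, hr2]
  push_cast
  ring

theorem bound_pos {K : ℤ} (h : PBound R t 1 K) : ∀ a b, (j : ℤ) ≤ N2 R a b := by
  obtain ⟨-, h1, h2⟩ := h
  obtain ⟨b₀, hb₀⟩ : ∃ b₀, b₀ ≠ negQ R 1 :=
    Fintype.exists_ne_of_one_lt_card (by rw [card_classes R ht]; omega) _
  have hK := h2 1 b₀
  rw [if_neg hb₀, hjr] at hK
  push_cast at hK
  intro a b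
  have := h1 (a * 1) (b * 1) 1
  rw [← N2_eq_tri] at this
  by_contra hc
  push Not at hc
  have : (t : ℤ) * (1 - j) ≤ t * K := mul_le_mul_of_nonneg_left (by linarith) (by positivity)
  nlinarith

/-- The case of an inverted `u`. -/
theorem no_even (hp2 : p ≠ 2) (hneg : (-1 : (ZMod p)ˣ) ∈ R) {δ K : ℤ} (hP : PBound R t δ K)
    (hsq : ∀ a, ∃ (q₀ : (ZMod p)ˣ ⧸ R) (c σ : ℤ), (σ = 1 ∨ σ = -1) ∧
      ∀ q, (tri R a a q : ℤ) = c + if q = q₀ then σ else 0) : False := by
  obtain ⟨q₀, c, σ, hσ, hc⟩ := hsq 1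
  have hneg1 : ∀ q, negQ R q = q := negQ_of_mem R hneg
  have htot := tri_total R (1 : (ZMod p)ˣ ⧸ R) 1
  rw [if_pos (hneg1 1).symm] at htot
  zify at htot
  simp only [hc, sum_add_distrib, sum_const, card_univ, card_classes R ht, sum_ite_eq', mem_univ,
    if_true, nsmul_eq_mul] at htot
  rw [hjr] at htot
  push_cast at htot
  have hcj : c = j ∧ (r : ℤ) = σ + 1 := by
    have h3 : (3 : ℤ) ≤ t := by exact_mod_cast ht3
    have h4 : (r : ℤ) < t := by exact_mod_cast hr
    have h5 : (0 : ℤ) ≤ r := Int.natCast_nonneg _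
    have h6 : c = j := by
      by_contra hne
      rcases lt_or_gt_of_ne hne with h | h
      · have : (t : ℤ) * c ≤ t * (j - 1) := mul_le_mul_of_nonneg_left (by omega) (by positivity)
        rcases hσ with rfl | rfl <;> nlinarith
      · have : (t : ℤ) * (j + 1) ≤ t * c := mul_le_mul_of_nonneg_left (by omega) (by positivity)
        rcases hσ with rfl | rfl <;> nlinarith
    exact ⟨h6, by rw [h6] at htot; linarith⟩
  obtain ⟨rfl, hrσ⟩ := hcj
  have hjpos : 1 ≤ j := by
    by_contra h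
    have h0 : j = 0 := by omega
    rw [h0, mul_zero] at hjr
    rcases hσ with rfl | rfl <;> omega
  -- the diagonal
  have hdiag : ∀ q, (N2 R q⁻¹ q⁻¹ : ℤ) = j + if q = q₀ then σ else 0 := fun q => by
    rw [← hc q, tri, one_div]
  rcases hP.1 with rfl | rfl
  · have hge := bound_pos R ht ht3 he hjr hr hP
    have hσ1 : σ = 1 := by
      rcases hσ with h | h
      · exact h
      · have h1 := hge q₀⁻¹ q₀⁻¹
        rw [hdiag, if_pos rfl, h] at h1
        omega
    have hr2 : r = 2 := by omega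
    have hmom := moment_shift R ht ht3 he hjr hr
    have hrow : ∀ a b, (N2 R a b : ℤ) ≤ j + 2 := by
      intro a b
      have h1 := row_le R a
      zify at h1
      rw [← add_sum_erase _ _ (mem_univ b), hjr, hr2] at h1
      have h2 : ∑ _b ∈ (univ : Finset ((ZMod p)ˣ ⧸ R)).erase b, (j : ℤ) ≤
          ∑ x ∈ univ.erase b, (N2 R a x : ℤ) := sum_le_sum fun x _ => hge a x
      rw [sum_const, card_erase_of_mem (mem_univ _), card_univ, card_classes R ht, nsmul_eq_mul,
        Nat.cast_sub (by omega)] at h2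
      push_cast at h1 h2
      nlinarith
    have hle : ∑ a, ∑ b, ((N2 R a b : ℤ) - j) * ((N2 R a b : ℤ) - j - 1) ≤
        ∑ a, ∑ b, ((N2 R a b : ℤ) - j) :=
      sum_le_sum fun a _ => sum_le_sum fun b _ => by nlinarith [hge a b, hrow a b]
    simp only [sum_sub_distrib, N2_total R ht, sum_const, card_univ, card_classes R ht,
      nsmul_eq_mul] at hle hmom
    rw [hmom, hjr, hr2] at hle
    push_cast at hle
    have hb : (j : ℤ) * (t - 1) * (t - 2) ≤ 2 * t - 1 := by nlinarith
    have ht4 : t ≤ 4 := by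
      by_contra h
      have h5 : (5 : ℤ) ≤ t := by exact_mod_cast (show 5 ≤ t by omega)
      have h6 : (1 : ℤ) ≤ j := by exact_mod_cast hjpos
      have h7 : (1 : ℤ) * ((t - 1) * (t - 2)) ≤ j * ((t - 1) * (t - 2)) :=
        mul_le_mul_of_nonneg_right h6 (by nlinarith)
      nlinarith
    have heven := neg_mem_even R hp2 hneg
    have hj2 : j ≤ 2 := by
      by_contra h
      have h6 : (3 : ℤ) ≤ j := by exact_mod_cast (show 3 ≤ j by omega)
      have h5 : (3 : ℤ) ≤ t := by exact_mod_cast ht3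
      have h7 : (3 : ℤ) * ((t - 1) * (t - 2)) ≤ j * ((t - 1) * (t - 2)) :=
        mul_le_mul_of_nonneg_right h6 (by nlinarith)
      nlinarith
    have hR : Nat.card R = t * j + 2 := by omega
    rw [hR] at heven ht
    have hprime := hp.out
    interval_cases t <;> interval_cases j <;> first
      | (simp [Nat.even_iff] at heven; done)
      | (subst ht; norm_num at hprime; done)
      | (norm_num at hb; done)
  · obtain ⟨hr2, hle, hslack⟩ := bound_neg R ht ht3 he hjr hr hP
    have hσ1 : σ = 1 := by omega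
    obtain ⟨q₁, hq₁, hq₁'⟩ : ∃ q₁, q₁ ≠ q₀ ∧ q₁ ≠ 1 := by
      by_contra h
      push Not at h
      have h1 : (univ : Finset ((ZMod p)ˣ ⧸ R)) ⊆ {q₀, 1} := fun x _ => by
        by_cases hx : x = q₀
        · simp [hx]
        · simp [h x hx]
      have h2 := (card_le_card h1).trans card_le_two
      rw [card_univ, card_classes R ht] at h2
      omega
    have hoff : (N2 R q₁ 1 : ℤ) = j := by
      have h := tri_rot R (1 : (ZMod p)ˣ ⧸ R) 1 q₁
      rw [hneg1, tri, div_one, div_one] at h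
      rw [h, hc q₁, if_neg hq₁, add_zero]
    have hterm : ∀ q, q ≠ q₀ → (N2 R q⁻¹ q⁻¹ : ℤ) * ((j : ℤ) + 1 - N2 R q⁻¹ q⁻¹) = j := fun q hq => by
      rw [hdiag, if_neg hq]; ring
    rw [← sum_product' (f := fun a b => (N2 R a b : ℤ) * ((j : ℤ) + 1 - N2 R a b))] at hslack
    set D : Finset (((ZMod p)ˣ ⧸ R) × ((ZMod p)ˣ ⧸ R)) :=
      insert (q₁, 1) ((univ.erase q₀).image fun q => (q⁻¹, q⁻¹))
    have hnot : (q₁, 1) ∉ (univ.erase q₀).image fun q => (q⁻¹, q⁻¹) := by
      intro h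
      obtain ⟨q, -, e⟩ := mem_image.1 h
      exact hq₁' ((congrArg Prod.fst e).symm.trans (congrArg Prod.snd e))
    have h3 : ∑ x ∈ D, (N2 R x.1 x.2 : ℤ) * ((j : ℤ) + 1 - N2 R x.1 x.2) ≤ (j : ℤ) * (t - 1) := by
      rw [← hslack]
      exact sum_le_sum_of_subset_of_nonneg (by rw [univ_product_univ]; exact subset_univ _) fun x _ _ =>
        mul_nonneg (Int.natCast_nonneg _) (sub_nonneg.2 (hle _ _))
    rw [sum_insert hnot, sum_image (fun x _ y _ e => inv_injective (congrArg Prod.fst e)),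
      sum_congr rfl (g := fun _ => (j : ℤ)) fun q hq => hterm q (ne_of_mem_erase hq), sum_const,
      card_erase_of_mem (mem_univ _), card_univ, card_classes R ht, nsmul_eq_mul, hoff,
      Nat.cast_sub (by omega)] at h3
    have : (1 : ℤ) ≤ j := by exact_mod_cast hjpos
    push_cast at h3
    nlinarith

/-- In the other case the sign above the square is positive. -/
theorem odd_sign (hp2 : p ≠ 2) (hneg : (-1 : (ZMod p)ˣ) ∉ R) {δ K δQ : ℤ}
    (hP : PBound R t δ K) (hQ : QBound R t δQ) : δ = 1 ∧ δQ = 1 := by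
  have hodd : ¬ Even (Nat.card R) := by
    intro hev
    obtain ⟨x, hx⟩ := exists_prime_orderOf_dvd_card' 2 (even_iff_two_dvd.1 hev)
    rw [← Subgroup.orderOf_coe, orderOf_eq_prime_iff] at hx
    refine hneg ?_
    have h1 : ((x : (ZMod p)ˣ) : ZMod p) ^ 2 = 1 := by
      rw [← Units.val_pow_eq_pow_val, hx.1, Units.val_one]
    have h2 : ((x : (ZMod p)ˣ) : ZMod p) = -1 :=
      (sq_eq_one_iff.1 h1).resolve_left fun e => hx.2 (Units.ext e)
    rw [show (-1 : (ZMod p)ˣ) = x from Units.ext (by rw [h2, Units.val_neg, Units.val_one])]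
    exact x.2
  have hteven : Even t := by
    obtain ⟨k, hk⟩ := hp.out.odd_of_ne_two hp2
    have h1 : Even (Nat.card R * t) := ⟨k, by omega⟩
    exact (Nat.even_mul.1 h1).resolve_left hodd
  have hδ : δ = 1 := by
    rcases hP.1 with h | rfl
    · exact h
    · obtain ⟨hr2, -, -⟩ := bound_neg R ht ht3 he hjr hr hP
      refine absurd ?_ hodd
      rw [hjr, hr2]
      exact (hteven.mul_right j).add even_two
  refine ⟨hδ, hQ.1.resolve_right ?_⟩
  rintro rfl
  subst hδ
  have hge := bound_pos R ht ht3 he hjr hr hP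
  have hle : ∀ a b, (N2 R a b : ℤ) ≤ j + 1 := by
    intro a b
    obtain ⟨K', h1, h2⟩ := hQ.2 (a * 1) (b * 1)
    have := h1 1
    rw [← N2_eq_tri] at this
    rw [hjr] at h2
    push_cast at h2
    by_contra hc
    push Not at hc
    have : (t : ℤ) * (j + 2) ≤ t * K' := mul_le_mul_of_nonneg_left (by linarith) (by positivity)
    nlinarith
  have hmom := moment_shift R ht ht3 he hjr hr
  rw [sum_eq_zero fun a _ => sum_eq_zero fun b _ => ?_] at hmom
  · have h3 : (3 : ℤ) ≤ t := by exact_mod_cast ht3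
    have hj0 : 0 ≤ (j : ℤ) * (t - 1) * (t - 2) :=
      mul_nonneg (mul_nonneg (Int.natCast_nonneg _) (by linarith)) (by linarith)
    have hr0 : 0 ≤ ((r : ℤ) - 1) * ((r : ℤ) - 2) := by
      rcases le_or_gt (r : ℤ) 1 with h | h
      · nlinarith
      · exact mul_nonneg (by linarith) (by linarith)
    have h4 : (j : ℤ) * (t - 1) * (t - 2) = 0 := by linarith
    have h5 : (j : ℤ) = 0 := by
      simp only [mul_eq_zero] at h4
      rcases h4 with (h | h) | h
      · exact h
      · linarith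
      · linarith
    have h6 : ((r : ℤ) - 1) * ((r : ℤ) - 2) = 0 := by linarith
    have h7 : j = 0 := by exact_mod_cast h5
    rw [h7, mul_zero, zero_add] at hjr
    rcases mul_eq_zero.1 h6 with h | h <;> omega
  · rcases (show (N2 R a b : ℤ) = j ∨ (N2 R a b : ℤ) = j + 1 by
      have := hge a b; have := hle a b; omega) with e | e <;> rw [e] <;> ring

end Cfsg.Agent.Block.SmallFaith
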