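import Mathlib
import Cfsg.Agent.Lib.Block.HalfDeg.Main
import Cfsg.Agent.Lib.Grp.SL2Basic
import Cfsg.Agent.Lib.Char.Quotient
import Cfsg.Agent.Lib.Char.Average

/-!
A faithful character of degree below `p - 1`: the small irreducible characters, the normal closure
of an element of order `p`, and the local structure of a central extension of `PSL(2, p)`.
-/

set_option autoImplicit false
set_option linter.unusedSectionVars false
set_option linter.style.haveILetI false
set_option maxHeartbeats 800000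

namespace Cfsg.Agent.Block.SmallFaith

open Cfsg Cfsg.Agent.Block Cfsg.Agent.Char Cfsg.Agent.Char.DefectOne

universe w

variable {G : Type w} [Group G] [Fintype G] {p : ℕ} [hp : Fact p.Prime]

/-- No irreducible character of degree below `(p - 1) / 2` moves an element of order `p`. -/
theorem two_mul_degree_ge (hp2 : p ≠ 2) (hsq : ¬ p ^ 2 ∣ Nat.card G)
    (hnn : ∀ H : Subgroup G, H.Normal → Nat.card H ≠ p) {χ : G → ℂ} (hχ : IsCharacter G χ)
    (hfaith : ∀ g, χ g = χ 1 → g = 1) {e : ℕ} (he : χ 1 = e) (hep : e + 2 ≤ p) (φ : IrrCharacter G)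
    {u : G} (hu : orderOf u = p) (hφu : (φ : G → ℂ) u ≠ (φ : G → ℂ) 1) :
    p ≤ 2 * charDegree (φ : G → ℂ) + 1 := by
  classical
  by_contra hlt
  have hsmall : 2 * charDegree (φ : G → ℂ) + 3 ≤ p := by
    obtain ⟨k, hk⟩ := hp.out.odd_of_ne_two hp2
    omega
  have hup : u ^ p = 1 := hu ▸ pow_orderOf_eq_one u
  set K := charKer (IsIrr.isCharacter φ.2) with hK
  haveI : K.Normal := charKer_normal _
  have huK : u ∉ K := fun h => hφu ((mem_charKer _).1 h)
  have hpK : ¬ p ∣ Nat.card K := fun h => huK (HalfDeg.mem_of_dvd hsq h hup)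
  obtain ⟨ψ, hψ, hψeq⟩ := IsIrr.exists_factor_quotient φ.2 K fun x hx => (mem_charKer _).1 hx
  letI : Fintype (G ⧸ K) := Fintype.ofFinite _
  have hcard : Nat.card G = Nat.card (G ⧸ K) * Nat.card K :=
    K.card_eq_card_quotient_mul_card_subgroup
  have hpQ : p ∣ Nat.card (G ⧸ K) :=
    (hp.out.coprime_iff_not_dvd.2 hpK).dvd_of_dvd_mul_right (hcard ▸ hu ▸ orderOf_dvd_natCard u)
  have hψ1 : ψ 1 = (φ : G → ℂ) 1 := hψeq 1
  have hsqQ : ¬ p ^ 2 ∣ Nat.card (G ⧸ K) := fun h => hsq (h.trans (hcard ▸ dvd_mul_right _ _))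
  obtain ⟨Hb, hHb, hHbp⟩ := SmallDeg.exists_normal (p := p) _ (G ⧸ K) rfl hpQ hsqQ ψ
    (IsIrr.isCharacter hψ) (fun q hq => by
      induction q using QuotientGroup.induction_on with
      | _ x =>
        rw [hψeq, hψ1] at hq
        exact (QuotientGroup.eq_one_iff x).2 ((mem_charKer _).2 hq))
    (by
      have h2 : charDegree ψ = charDegree (φ : G → ℂ) := Nat.cast_injective (R := ℂ) (by
        rw [← charDeg_spec (IsIrr.isCharacter hψ), hψ1, charDeg_spec'])
      omega)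
  haveI := hHb
  set L := Hb.comap (QuotientGroup.mk' K) with hL
  haveI : L.Normal := hHb.comap _
  have hcomm : ∀ z ∈ K, Commute z u := fun z hz =>
    HalfDeg.commute_kernel hsq hχ hfaith he hep hpK hu hz
  have huH : (u : G ⧸ K) ∈ Hb := HalfDeg.mem_of_normal_card hsqQ hHbp (by
    rw [← QuotientGroup.mk_pow, hup, QuotientGroup.mk_one])
  have huord : orderOf (u : G ⧸ K) = p :=
    ((Nat.dvd_prime hp.out).1 (hHbp ▸ Subgroup.orderOf_dvd_natCard Hb huH)).resolve_left fun h =>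
      huK ((QuotientGroup.eq_one_iff u).1 (orderOf_eq_one_iff.1 h))
  have hzp : Subgroup.zpowers (u : G ⧸ K) = Hb :=
    Subgroup.eq_of_le_of_card_ge (Subgroup.zpowers_le.2 huH) (by rw [hHbp, Nat.card_zpowers, huord])
  have hdec : ∀ g ∈ L, ∃ i : ℤ, (u ^ i)⁻¹ * g ∈ K := fun g hg => by
    have hg' : (g : G ⧸ K) ∈ Hb := hg
    obtain ⟨i, hi⟩ := Subgroup.mem_zpowers_iff.1 (hzp ▸ hg')
    exact ⟨i, QuotientGroup.eq.1 (by rw [QuotientGroup.mk_zpow, hi])⟩
  refine hnn (Subgroup.zpowers u) ⟨fun x hx g => ?_⟩ (by rw [Nat.card_zpowers, hu])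
  obtain ⟨i, rfl⟩ := Subgroup.mem_zpowers_iff.1 hx
  have hgu : g * u * g⁻¹ ∈ L := ‹L.Normal›.conj_mem u huH g
  obtain ⟨j, hj⟩ := hdec _ hgu
  set z := (u ^ j)⁻¹ * (g * u * g⁻¹) with hz
  have e1 : g * u * g⁻¹ = u ^ j * z := by rw [hz, mul_inv_cancel_left]
  have h2 : (u ^ j * z) ^ p = 1 := by rw [← e1, conj_pow, hup, mul_one, mul_inv_cancel]
  rw [((hcomm z hj).symm.zpow_left j).mul_pow, ← zpow_natCast (u ^ j), ← zpow_mul, mul_comm,
    zpow_mul, zpow_natCast, hup, one_zpow, one_mul] at h2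
  have hz1 : z = 1 := by
    refine orderOf_eq_one_iff.1 (Nat.dvd_one.1 ?_)
    exact (hp.out.coprime_iff_not_dvd.2 hpK) ▸ Nat.dvd_gcd (orderOf_dvd_of_pow_eq_one h2)
      (Subgroup.orderOf_dvd_natCard _ hj)
  rw [← conj_zpow, e1, hz1, mul_one]
  exact zpow_mem (zpow_mem (Subgroup.mem_zpowers u) j) i

/-- An irreducible character of degree below `p - 1` is irreducible on the normal closure. -/
theorem closure_irr (hp2 : p ≠ 2) (hsq : ¬ p ^ 2 ∣ Nat.card G)
    (hnn : ∀ H : Subgroup G, H.Normal → Nat.card H ≠ p) (χ : IrrCharacter G)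
    (hfaith : ∀ g, (χ : G → ℂ) g = (χ : G → ℂ) 1 → g = 1) (hep : charDegree (χ : G → ℂ) + 2 ≤ p)
    {u : G} (hu : orderOf u = p) :
    IsIrrCharacter (Subgroup.normalClosure ({u} : Set G))
      (fun x : Subgroup.normalClosure ({u} : Set G) => (χ : G → ℂ) x) := by
  classical
  set X := Subgroup.normalClosure ({u} : Set G) with hX
  haveI hXn : X.Normal := Subgroup.normalClosure_normal
  letI : Fintype X := Fintype.ofFinite _
  have huX : u ∈ X := Subgroup.subset_normalClosure rfl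
  have hup : u ^ p = 1 := hu ▸ pow_orderOf_eq_one u
  have hu1 : u ≠ 1 := fun h => hp.out.one_lt.ne (by rw [← hu, h, orderOf_one])
  have hXsq : ¬ p ^ 2 ∣ Nat.card X := fun h => hsq (h.trans (Subgroup.card_subgroup_dvd_card X))
  have hXnn : ∀ Q : Subgroup X, Q.Normal → Nat.card Q ≠ p := by
    intro Q hQ hQp
    refine hnn (Q.map X.subtype) ⟨fun x hx g => ?_⟩
      (by rw [Subgroup.card_map_of_injective X.subtype_injective, hQp])
    obtain ⟨y, hy, rfl⟩ := hx
    have hgy : g * (y : G) * g⁻¹ ∈ X := hXn.conj_mem _ y.2 g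
    refine ⟨⟨_, hgy⟩, ?_, rfl⟩
    refine HalfDeg.mem_of_normal_card hXsq hQp (Subtype.ext ?_)
    have hy1 : y ^ p = 1 := orderOf_dvd_iff_pow_eq_one.1 (hQp ▸ Subgroup.orderOf_dvd_natCard Q hy)
    have hyp : (y : G) ^ p = 1 := congrArg Subtype.val hy1
    rw [SubmonoidClass.coe_pow, conj_pow, hyp, mul_one, mul_inv_cancel]
    rfl
  have huord : orderOf (⟨u, huX⟩ : X) = p := by rw [Subgroup.orderOf_mk, hu]
  have hres : IsCharacter X (fun x : X => (χ : G → ℂ) x) := IsChar.res (IsIrr.isCharacter χ.2) X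
  set e := charDegree (χ : G → ℂ)
  have he : (χ : G → ℂ) ((1 : X) : G) = (e : ℂ) := by rw [OneMemClass.coe_one, charDeg_spec']
  obtain ⟨a, ha, hdec⟩ := IsChar.exists_decomp_inner hres
  have hmove : ∀ φ : IrrCharacter X, a φ ≠ 0 → (φ : X → ℂ) ⟨u, huX⟩ ≠ (φ : X → ℂ) 1 := by
    intro φ hφ hfix
    set K := charKer (IsIrr.isCharacter φ.2)
    haveI : K.Normal := charKer_normal _
    have hpK : p ∣ Nat.card K := huord ▸ Subgroup.orderOf_dvd_natCard K ((mem_charKer _).2 hfix)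
    have htop : ∀ x : X, x ∈ K := by
      have hle : X ≤ K.map X.subtype := by
        refine Subgroup.closure_le (K.map X.subtype) |>.2 fun x hx => ?_
        obtain ⟨v, hv, hc⟩ := Group.mem_conjugatesOfSet_iff.1 hx
        rw [Set.mem_singleton_iff.1 hv] at hc
        obtain ⟨c, rfl⟩ := isConj_iff.1 hc
        refine ⟨⟨_, hXn.conj_mem u huX c⟩, ?_, rfl⟩
        refine HalfDeg.mem_of_dvd hXsq hpK (Subtype.ext ?_)
        rw [SubmonoidClass.coe_pow, conj_pow, hup, mul_one, mul_inv_cancel]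
        rfl
      intro x
      obtain ⟨y, hy, hyx⟩ := hle x.2
      exact (Subtype.ext hyx : y = x) ▸ hy
    have hφ1 : (φ : X → ℂ) = fun _ => 1 := by
      by_contra hne
      have h0 := classInner_irr_ne φ.2 (isIrr_one (G := X)) hne
      simp only [classInner, map_one, mul_one] at h0
      rw [Finset.sum_congr rfl (g := fun _ => (φ : X → ℂ) 1) fun x _ => (mem_charKer _).1 (htop x),
        Finset.sum_const, Finset.card_univ, nsmul_eq_mul, ← Nat.card_eq_fintype_card,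
        inv_mul_cancel_left₀ (Nat.cast_ne_zero.2 Nat.card_pos.ne')] at h0
      exact IsIrr.one_ne_zero φ.2 h0
    rcases avgN_irr X χ.2 with ⟨h0, -⟩ | ⟨h1, -⟩
    · refine hφ (Nat.cast_injective (R := ℂ) ?_)
      rw [Nat.cast_zero, ← h0, ← ha φ, hφ1]
    · exact hu1 (hfaith u (h1 ⟨u, huX⟩))
  have hsum : ∑ φ : IrrCharacter X, a φ * charDegree (φ : X → ℂ) = e := by
    have h := congrFun hdec 1
    rw [sum_irr_apply] at h
    simp only [charDeg_spec'] at h
    have h' : ((e : ℕ) : ℂ) = ((∑ φ : IrrCharacter X, a φ * charDegree (φ : X → ℂ) : ℕ) : ℂ) := by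
      rw [← he, h]
      push_cast
      rfl
    exact (Nat.cast_injective h').symm
  have hbig : ∀ φ : IrrCharacter X, a φ ≠ 0 → p ≤ 2 * charDegree (φ : X → ℂ) + 1 := fun φ hφ =>
    two_mul_degree_ge hp2 hXsq hXnn hres (fun g hg => Subtype.ext (hfaith _ hg)) he hep φ huord
      (hmove φ hφ)
  obtain ⟨φ, hφ⟩ : ∃ φ, a φ ≠ 0 := by
    by_contra h
    push Not at h
    rw [Finset.sum_eq_zero fun φ _ => by rw [h φ, zero_mul]] at hsum
    exact (charDeg_pos χ).ne hsum
  have hs := hsum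
  rw [← Finset.add_sum_erase _ _ (Finset.mem_univ φ)] at hs
  have h1 := hbig φ hφ
  have ha1 : a φ = 1 := by
    by_contra h
    have h2 : 2 * charDegree (φ : X → ℂ) ≤ a φ * charDegree (φ : X → ℂ) :=
      Nat.mul_le_mul_right _ (by omega)
    omega
  have ha0 : ∀ ψ, ψ ≠ φ → a ψ = 0 := fun ψ hψ => by
    by_contra h
    have h2 : a ψ * charDegree (ψ : X → ℂ) ≤
        ∑ ξ ∈ Finset.univ.erase φ, a ξ * charDegree (ξ : X → ℂ) :=
      Finset.single_le_sum (f := fun ξ => a ξ * charDegree (ξ : X → ℂ)) (fun _ _ => Nat.zero_le _)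
        (Finset.mem_erase.2 ⟨hψ, Finset.mem_univ _⟩)
    have h3 : charDegree (ψ : X → ℂ) ≤ a ψ * charDegree (ψ : X → ℂ) :=
      Nat.le_mul_of_pos_left _ (Nat.pos_of_ne_zero h)
    have := hbig ψ h
    rw [ha1, one_mul] at hs
    omega
  have hχφ : (fun x : X => (χ : G → ℂ) x) = (φ : X → ℂ) := funext fun g => by
    have h := congrFun hdec g
    rw [sum_irr_apply, Finset.sum_eq_single φ (fun ψ _ hψ => by rw [ha0 ψ hψ, Nat.cast_zero, zero_mul])
      (fun h => absurd (Finset.mem_univ _) h), ha1, Nat.cast_one, one_mul] at h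
    exact h
  rw [hχφ]; exact φ.2

section PSL

open Matrix MatrixGroups Cfsg.Agent.Grp.SL2

local notation "SLp" => Matrix.SpecialLinearGroup (Fin 2) (ZMod p)
local notation "PSLp" => Matrix.ProjectiveSpecialLinearGroup (Fin 2) (ZMod p)

theorem center_cases {z : SLp} (hz : z ∈ Subgroup.center SLp) :
    ∃ s : ZMod p, s ^ 2 = 1 ∧ ∀ i j, (z : Matrix (Fin 2) (Fin 2) (ZMod p)) i j =
      if i = j then s else 0 := by
  obtain ⟨s, hs, hz'⟩ := Matrix.SpecialLinearGroup.mem_center_iff.1 hz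
  rw [Fintype.card_fin] at hs
  exact ⟨s, hs, fun i j => by rw [← hz', Matrix.scalar_apply, Matrix.diagonal_apply]⟩

theorem ne_two (hp2 : p ≠ 2) : (2 : ZMod p) ≠ 0 := by
  intro h
  have h' : ((2 : ℕ) : ZMod p) = 0 := by exact_mod_cast h
  exact hp2 ((Nat.prime_dvd_prime_iff_eq hp.out Nat.prime_two).1 ((ZMod.natCast_eq_zero_iff _ _).1 h'))

/-- The conjugations within the root subgroup. -/
theorem psl_conj_up (hp2 : p ≠ 2) {g : PSLp} {r i : ZMod p} (hr : r ≠ 0)
    (h : g * (QuotientGroup.mk (up r) : PSLp) * g⁻¹ = (QuotientGroup.mk (up (i * r)) : PSLp)) :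
    ∃ a b : ZMod p, a * a = i ∧ (i = 1 → g = (QuotientGroup.mk (up b) : PSLp)) := by
  induction g using QuotientGroup.induction_on with
  | _ g =>
    rw [mul_inv_eq_iff_eq_mul] at h
    obtain ⟨z, hz, e⟩ : ∃ z ∈ Subgroup.center SLp, g * up r * z = up (i * r) * g :=
      ⟨_, QuotientGroup.eq.1 h, mul_inv_cancel_left _ _⟩
    obtain ⟨s, hs, hzs⟩ := center_cases hz
    have e' : ∀ a b, ((g * up r * z : SLp) : Matrix (Fin 2) (Fin 2) (ZMod p)) a b =
        ((up (i * r) * g : SLp) : Matrix (Fin 2) (Fin 2) (ZMod p)) a b := fun a b => by rw [e]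
    have hdet := g.2
    rw [det_fin_two] at hdet
    have e00 := e' 0 0
    have e01 := e' 0 1
    have e10 := e' 1 0
    have e11 := e' 1 1
    simp [Matrix.mul_apply, Fin.sum_univ_two, HalfDeg.coe_up, hzs] at e00 e01 e10 e11
    set a := (g : Matrix (Fin 2) (Fin 2) (ZMod p)) 0 0
    set b := (g : Matrix (Fin 2) (Fin 2) (ZMod p)) 0 1
    set c := (g : Matrix (Fin 2) (Fin 2) (ZMod p)) 1 0
    set d := (g : Matrix (Fin 2) (Fin 2) (ZMod p)) 1 1
    have hc : c = 0 := by
      by_contra hc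
      have h1 : (s - 1) * c = 0 := by linear_combination e10
      have hs1 : s = 1 := sub_eq_zero.1 ((mul_eq_zero.1 h1).resolve_right hc)
      rw [hs1] at e11
      exact hc ((mul_eq_zero.1 (show r * c = 0 by linear_combination e11)).resolve_left hr)
    rw [hc] at e11 hdet
    have had : a * d = 1 := by linear_combination hdet
    have hd0 : d ≠ 0 := fun h0 => by rw [h0, mul_zero] at had; exact zero_ne_one had
    have hs1 : s = 1 := by
      have h1 : (s - 1) * d = 0 := by linear_combination e11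
      exact sub_eq_zero.1 ((mul_eq_zero.1 h1).resolve_right hd0)
    rw [hs1] at e01
    have hai : a = i * d := mul_right_cancel₀ hr (by linear_combination e01)
    refine ⟨a, b / d, by linear_combination a * hai + i * had, fun hi1 => ?_⟩
    rw [hi1, one_mul] at hai
    refine QuotientGroup.eq.2 ?_
    refine Matrix.SpecialLinearGroup.mem_center_iff.2 ⟨d, ?_, ?_⟩
    · rw [Fintype.card_fin, sq]
      rw [hai] at had
      exact had
    · have g10 : (g : Matrix (Fin 2) (Fin 2) (ZMod p)) 1 0 = 0 := hc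
      have g00 : (g : Matrix (Fin 2) (Fin 2) (ZMod p)) 0 0 = d := hai
      have g11 : (g : Matrix (Fin 2) (Fin 2) (ZMod p)) 1 1 = d := rfl
      have g01 : (g : Matrix (Fin 2) (Fin 2) (ZMod p)) 0 1 = b := rfl
      ext x y
      fin_cases x <;> fin_cases y <;>
        simp [Matrix.mul_apply, Fin.sum_univ_two, HalfDeg.coe_up, Matrix.SpecialLinearGroup.coe_inv,
          Matrix.adjugate_fin_two, g00, g01, g10, g11, mul_div_cancel₀ _ hd0]

theorem psl_conj_sq {a : ZMod p} (ha : a ≠ 0) (r : ZMod p) :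
    ∃ g : PSLp, g * (QuotientGroup.mk (up r) : PSLp) * g⁻¹ =
      (QuotientGroup.mk (up (a * a * r)) : PSLp) := by
  let D : SLp := ⟨!![a, 0; 0, a⁻¹], by rw [det_fin_two_of]; field_simp; ring⟩
  refine ⟨QuotientGroup.mk D, ?_⟩
  rw [mul_inv_eq_iff_eq_mul, ← QuotientGroup.mk_mul, ← QuotientGroup.mk_mul]
  congr 1
  apply Matrix.SpecialLinearGroup.ext
  intro x y
  rw [Matrix.SpecialLinearGroup.coe_mul, Matrix.SpecialLinearGroup.coe_mul, HalfDeg.coe_up,
    HalfDeg.coe_up, show (D : Matrix (Fin 2) (Fin 2) (ZMod p)) = !![a, 0; 0, a⁻¹] from rfl]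
  fin_cases x <;> fin_cases y <;> simp [Matrix.mul_apply, Fin.sum_univ_two] <;> field_simp

theorem psl_up_ord : orderOf (QuotientGroup.mk (up (1 : ZMod p)) : PSLp) = p := by
  refine orderOf_eq_prime ?_ fun h => ?_
  · rw [← QuotientGroup.mk_pow, up_pow, ZMod.natCast_self, zero_mul, up_zero, QuotientGroup.mk_one]
  · obtain ⟨s, -, hs⟩ := center_cases ((QuotientGroup.eq_one_iff _).1 h)
    have := hs 0 1
    simp [HalfDeg.coe_up] at this

/-- The local structure at `p` of a central extension of `PSL(2, p)`. -/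
theorem psl_local (hp2 : p ≠ 2) (hsq : ¬ p ^ 2 ∣ Nat.card G)
    (hZ : ¬ p ∣ Nat.card (Subgroup.center G))
    (φ : (G ⧸ Subgroup.center G) ≃* PSLp) {u : G} (hu : orderOf u = p) :
    (∀ g : G, g * u = u * g → ∃ (i : ℕ) (z : G), z ∈ Subgroup.center G ∧ g = u ^ i * z) ∧
      ∀ r : (ZMod p)ˣ, (∃ g : G, g * u * g⁻¹ = pw u (r : ZMod p)) ↔ IsSquare r := by
  classical
  haveI : Finite PSLp := Finite.of_equiv _ φ.toEquiv
  have hup : u ^ p = 1 := hu ▸ pow_orderOf_eq_one u
  have hcardQ : Nat.card PSLp ∣ Nat.card G := by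
    rw [← Nat.card_congr φ.toEquiv]
    exact Subgroup.card_quotient_dvd_card _
  have hub : orderOf (φ (u : G ⧸ Subgroup.center G)) = p := by
    rw [MulEquiv.orderOf_eq]
    refine orderOf_eq_prime (by rw [← QuotientGroup.mk_pow, hup, QuotientGroup.mk_one]) fun h => hZ ?_
    exact hu ▸ Subgroup.orderOf_dvd_natCard _ ((QuotientGroup.eq_one_iff u).1 h)
  set U : PSLp := QuotientGroup.mk (up (1 : ZMod p))
  have hUo : orderOf U = p := psl_up_ord
  have hindex : ∀ x : PSLp, orderOf x = p → ¬ p ∣ (Subgroup.zpowers x).index := fun x hx h => hsq (by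
    refine dvd_trans ?_ hcardQ
    rw [← (Subgroup.zpowers x).card_mul_index, Nat.card_zpowers, hx, sq]
    exact mul_dvd_mul_left p h)
  let S : ∀ x : PSLp, orderOf x = p → Sylow p PSLp := fun x hx =>
    IsPGroup.toSylow (P := Subgroup.zpowers x)
      (IsPGroup.of_card (n := 1) (by rw [Nat.card_zpowers, hx, pow_one])) (hindex x hx)
  obtain ⟨c, hc⟩ := MulAction.exists_smul_eq PSLp (S _ hub) (S U hUo)
  have hmem : c * φ (u : G ⧸ Subgroup.center G) * c⁻¹ ∈ Subgroup.zpowers U := by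
    have h1 : c * φ (u : G ⧸ Subgroup.center G) * c⁻¹ ∈
        ((c • S _ hub : Sylow p PSLp) : Subgroup PSLp) :=
      ⟨φ (u : G ⧸ Subgroup.center G), Subgroup.mem_zpowers _, rfl⟩
    rwa [hc] at h1
  set ψ : G →* PSLp :=
    (MulAut.conj c).toMonoidHom.comp (φ.toMonoidHom.comp (QuotientGroup.mk' (Subgroup.center G)))
  have hψker : ∀ g, ψ g = 1 ↔ g ∈ Subgroup.center G := fun g => by
    simp only [ψ, MonoidHom.coe_comp, Function.comp_apply, MulEquiv.coe_toMonoidHom,
      EmbeddingLike.map_eq_one_iff, QuotientGroup.mk'_apply, QuotientGroup.eq_one_iff]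
  have hψsurj : Function.Surjective ψ :=
    (MulAut.conj c).surjective.comp (φ.surjective.comp (QuotientGroup.mk'_surjective _))
  obtain ⟨r, hr, hψu⟩ : ∃ r : ZMod p, r ≠ 0 ∧ ψ u = (QuotientGroup.mk (up r) : PSLp) := by
    obtain ⟨n, hn⟩ := mem_powers_iff_mem_zpowers.2 hmem
    have e1 : ψ u = (QuotientGroup.mk (up ((n : ZMod p))) : PSLp) := by
      show c * φ (u : G ⧸ Subgroup.center G) * c⁻¹ = _
      rw [← hn]
      simp only [U, ← QuotientGroup.mk_pow, up_pow, mul_one]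
    refine ⟨_, fun h0 => ?_, e1⟩
    rw [h0, up_zero, QuotientGroup.mk_one, hψker] at e1
    exact hZ (hu ▸ Subgroup.orderOf_dvd_natCard _ e1)
  have hψpw : ∀ i : ZMod p, ψ (pw u i) = (QuotientGroup.mk (up (i * r)) : PSLp) := fun i => by
    rw [pw, map_pow, hψu, ← QuotientGroup.mk_pow, up_pow, ZMod.natCast_zmod_val]
  refine ⟨fun g hg => ?_, fun i => ⟨?_, ?_⟩⟩
  · obtain ⟨a, b, -, hb⟩ := psl_conj_up hp2 (g := ψ g) (i := 1) hr (by
      rw [one_mul, ← hψu, ← map_mul, hg, map_mul, mul_inv_cancel_right])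
    refine ⟨((b / r).val), (u ^ (b / r).val)⁻¹ * g, ?_, (mul_inv_cancel_left _ _).symm⟩
    rw [← hψker, map_mul, map_inv, hb rfl, show u ^ (b / r).val = pw u (b / r) from rfl, hψpw,
      div_mul_cancel₀ _ hr, inv_mul_cancel]
  · rintro ⟨g, hg⟩
    have h1 := congrArg ψ hg
    rw [map_mul, map_mul, map_inv, hψpw, hψu] at h1
    obtain ⟨a, -, ha, -⟩ := psl_conj_up hp2 hr h1
    have ha0 : a ≠ 0 := fun h0 => i.ne_zero (by rw [← ha, h0, mul_zero])
    exact ⟨Units.mk0 a ha0, Units.ext ha.symm⟩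
  · rintro ⟨a, rfl⟩
    obtain ⟨x, hx⟩ := psl_conj_sq (p := p) a.ne_zero r
    obtain ⟨g, rfl⟩ := hψsurj x
    refine ⟨g, ?_⟩
    set z := (pw u ((a * a : (ZMod p)ˣ) : ZMod p))⁻¹ * (g * u * g⁻¹) with hz
    have hzc : z ∈ Subgroup.center G := by
      rw [← hψker, hz, map_mul, map_inv, hψpw, map_mul, map_mul, map_inv, hψu, hx, Units.val_mul,
        inv_mul_cancel]
    have e1 : g * u * g⁻¹ = pw u ((a * a : (ZMod p)ˣ) : ZMod p) * z := by
      rw [hz, mul_inv_cancel_left]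
    have h2 : (pw u ((a * a : (ZMod p)ˣ) : ZMod p) * z) ^ p = 1 := by
      rw [← e1, conj_pow, hup, mul_one, mul_inv_cancel]
    rw [(show Commute _ z from Subgroup.mem_center_iff.1 hzc _).mul_pow, pw, ← pow_mul, mul_comm,
      pow_mul, hup, one_pow, one_mul] at h2
    have hz1 : z = 1 := orderOf_eq_one_iff.1 (Nat.dvd_one.1
      ((hp.out.coprime_iff_not_dvd.2 hZ) ▸ Nat.dvd_gcd (orderOf_dvd_of_pow_eq_one h2)
        (Subgroup.orderOf_dvd_natCard _ hzc)))
    rw [e1, hz1, mul_one]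

/-- Half of the units are squares. -/
theorem card_squares (hp2 : p ≠ 2) (S : Subgroup (ZMod p)ˣ) (hS : ∀ r, r ∈ S ↔ IsSquare r) :
    2 * Nat.card S + 1 = p := by
  have h1 : S = (powMonoidHom 2 : (ZMod p)ˣ →* (ZMod p)ˣ).range := by
    ext r
    rw [hS, MonoidHom.mem_range]
    exact ⟨fun ⟨a, ha⟩ => ⟨a, by rw [powMonoidHom_apply, sq, ← ha]⟩,
      fun ⟨a, ha⟩ => ⟨a, by rw [← ha, powMonoidHom_apply, sq]⟩⟩
  have hc : Nat.card (powMonoidHom 2 : (ZMod p)ˣ →* (ZMod p)ˣ).ker = 2 := by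
    rw [Nat.card_eq_two_iff]
    refine ⟨1, ⟨-1, by simp⟩, fun h => ?_, Set.eq_univ_of_forall fun x => ?_⟩
    · have h1 : (1 : ZMod p) = -1 := congrArg (fun v => ((v.1 : (ZMod p)ˣ) : ZMod p)) h
      exact ne_two hp2 (by linear_combination h1)
    · have hx : ((x : (ZMod p)ˣ) : ZMod p) ^ 2 = 1 := by
        rw [← Units.val_pow_eq_pow_val, ← powMonoidHom_apply, MonoidHom.mem_ker.1 x.2, Units.val_one]
      rcases sq_eq_one_iff.1 hx with h | h
      · exact Or.inl (Subtype.ext (Units.ext h))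
      · exact Or.inr (Subtype.ext (Units.ext (h.trans (by rw [Units.val_neg, Units.val_one]))))
  have h := (powMonoidHom 2 : (ZMod p)ˣ →* (ZMod p)ˣ).ker.card_mul_index
  rw [hc, Subgroup.index_ker, ← h1, Nat.card_eq_fintype_card (α := (ZMod p)ˣ), ZMod.card_units] at h
  have := hp.out.two_le
  omega

end PSL

end Cfsg.Agent.Block.SmallFaith
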