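import Mathlib
import Cfsg.Agent.Lib.Block.SmallFaith.Start

/-!
The normalizer of `⟨u⟩`, the singular elements and the sums over them when the centralizer of `u` is
`⟨u⟩ × Z(G)`.
-/

set_option autoImplicit false

namespace Cfsg.Agent.Block.SmallFaith

open scoped ComplexConjugate
open Cfsg Cfsg.Agent.Block Cfsg.Agent.Char Cfsg.Agent.Char.BP Cfsg.Agent.Char.Spec
  Cfsg.Agent.Char.DefectOne Cfsg.Agent.Block.PMinusTwo

set_option linter.unusedSectionVars false
set_option linter.style.haveILetI false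
set_option maxHeartbeats 800000

universe w

variable {G : Type w} [Group G] [Fintype G] {p : ℕ} [hp : Fact p.Prime] {u : G}
  {R : Subgroup (ZMod p)ˣ}

namespace Sit

variable (L : Sit p u R)
include L

theorem u_ne : u ≠ 1 := fun e => by
  have := L.hu
  rw [e, orderOf_one] at this
  exact hp.out.ne_one this.symm

theorem cardP : Nat.card (Subgroup.zpowers u) = p := by rw [Nat.card_zpowers, L.hu]

theorem pw_pow_p (i : ZMod p) : pw u i ^ p = 1 := by
  have e : u ^ p = 1 := by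
    have := pow_orderOf_eq_one u
    rwa [L.hu] at this
  rw [pw, ← pow_mul, mul_comm, pow_mul, e, one_pow]

theorem pw_ne {i : ZMod p} (hi : i ≠ 0) : pw u i ≠ 1 :=
  pw_ne_one L.cardP (Subgroup.mem_zpowers u) L.u_ne hi

theorem pw_inj' {i j : ZMod p} (h : pw u i = pw u j) : i = j :=
  pw_inj L.cardP (Subgroup.mem_zpowers u) L.u_ne h

theorem pw_one' : pw u (1 : ZMod p) = u := pw_one L.cardP (Subgroup.mem_zpowers u) L.u_ne

theorem pw_add (i j : ZMod p) : pw u i * pw u j = pw u (i + j) := by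
  rw [pw, pw, ← pow_add, ← pw_natCast L.cardP (Subgroup.mem_zpowers u) L.u_ne]
  simp

theorem orderOf_pw {i : ZMod p} (hi : i ≠ 0) : orderOf (pw u i) = p :=
  orderOf_gen L.cardP (pw_mem L.cardP (Subgroup.mem_zpowers u) L.u_ne i) (L.pw_ne hi)

theorem conj_pw' {g : G} {r : ZMod p} (h : g * u * g⁻¹ = pw u r) (i : ZMod p) :
    g * pw u i * g⁻¹ = pw u (r * i) :=
  DefectOne.conj_pw L.cardP (Subgroup.mem_zpowers u) L.u_ne h i

theorem center_eq_one {z : G} (hz : z ∈ Subgroup.center G) (h : z ^ p = 1) : z = 1 := by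
  rcases (Nat.dvd_prime hp.out).1 (orderOf_dvd_of_pow_eq_one h) with h3 | h3
  · exact orderOf_eq_one_iff.1 h3
  · exact absurd (h3 ▸ Subgroup.orderOf_dvd_natCard _ hz) L.zreg

theorem pw_mul_inj {i j : ZMod p} {z w : G} (hz : z ∈ Subgroup.center G) (hw : w ∈ Subgroup.center G)
    (h : pw u i * z = pw u j * w) : i = j ∧ z = w := by
  have h1 : z * w⁻¹ = (pw u i)⁻¹ * pw u j := by
    rw [mul_inv_eq_iff_eq_mul, mul_assoc, ← h, inv_mul_cancel_left]
  have h2 : z * w⁻¹ = 1 := L.center_eq_one (mul_mem hz (inv_mem hw)) (by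
    rw [h1, (show Commute (pw u i)⁻¹ (pw u j) from ((Commute.pow_pow_self u _ _).inv_left)).mul_pow,
      inv_pow, L.pw_pow_p, L.pw_pow_p, inv_one, one_mul])
  have h3 : z = w := mul_inv_eq_one.1 h2
  rw [h3] at h
  exact ⟨L.pw_inj' (mul_right_cancel h), h3⟩

theorem mem_cg {g : G} : g ∈ CG (Subgroup.zpowers u) ↔ g * u = u * g := by
  refine ⟨fun h => (Subgroup.mem_centralizer_iff.1 h u (Subgroup.mem_zpowers u)).symm,
    fun h => Subgroup.mem_centralizer_iff.2 fun v hv => ?_⟩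
  obtain ⟨n, rfl⟩ := Subgroup.mem_zpowers_iff.1 hv
  exact ((show Commute g u from h).zpow_right n).eq.symm

/-- The decomposition of the centralizer. -/
theorem cent_pw {g : G} (hg : g ∈ CG (Subgroup.zpowers u)) :
    ∃ (i : ZMod p) (z : G), z ∈ Subgroup.center G ∧ g = pw u i * z := by
  obtain ⟨n, z, hz, e⟩ := L.cent g (L.mem_cg.1 hg)
  exact ⟨(n : ZMod p), z, hz, by rw [pw_natCast L.cardP (Subgroup.mem_zpowers u) L.u_ne, e]⟩

theorem pw_mul_mem (i : ZMod p) {z : G} (hz : z ∈ Subgroup.center G) :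
    pw u i * z ∈ CG (Subgroup.zpowers u) :=
  mul_mem (le_cg L.cardP (pw_mem L.cardP (Subgroup.mem_zpowers u) L.u_ne i))
    (Subgroup.center_le_centralizer _ hz)

/-- The exponent of the action on `⟨u⟩`. -/
theorem exists_exp {g : G} (hg : g ∈ Subgroup.normalizer (Subgroup.zpowers u : Set G)) :
    ∃ r : (ZMod p)ˣ, r ∈ R ∧ g * u * g⁻¹ = pw u (r : ZMod p) := by
  obtain ⟨φ, hφ, -, -⟩ := exists_act L.cardP (Subgroup.mem_zpowers u) L.u_ne
  exact ⟨φ ⟨g, hg⟩, (L.mem_R _).2 ⟨g, hφ ⟨g, hg⟩⟩, hφ ⟨g, hg⟩⟩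

theorem mem_normalizer {g : G} {r : (ZMod p)ˣ} (h : g * u * g⁻¹ = pw u (r : ZMod p)) :
    g ∈ Subgroup.normalizer (Subgroup.zpowers u : Set G) := by
  have h1 : (Subgroup.zpowers u).map (MulAut.conj g).toMonoidHom = Subgroup.zpowers u := by
    rw [MonoidHom.map_zpowers]
    simpa [h] using mem_zpowers_of_prime L.cardP (pw_mem L.cardP (Subgroup.mem_zpowers u) L.u_ne _)
      (L.pw_ne r.ne_zero)
  rw [Subgroup.mem_normalizer_iff]
  intro w
  constructor
  · intro hw
    rw [← h1]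
    exact ⟨w, hw, rfl⟩
  · intro hw
    rw [← h1] at hw
    obtain ⟨v, hv, hvw⟩ := hw
    simp only [MulEquiv.coe_toMonoidHom, MulAut.conj_apply, mul_left_inj, mul_right_inj] at hvw
    exact hvw ▸ hv

theorem card_cg : Nat.card (CG (Subgroup.zpowers u)) = p * Nat.card (Subgroup.center G) := by
  rw [← Nat.card_zmod p, ← Nat.card_prod]
  refine (Nat.card_congr (Equiv.ofBijective (fun q : ZMod p × Subgroup.center G =>
    (⟨pw u q.1 * (q.2 : G), L.pw_mul_mem q.1 q.2.2⟩ : CG (Subgroup.zpowers u))) ⟨?_, ?_⟩)).symm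
  · rintro ⟨a, z⟩ ⟨b, w⟩ h
    obtain ⟨h1, h2⟩ := L.pw_mul_inj z.2 w.2 (congrArg Subtype.val h)
    exact Prod.ext h1 (Subtype.ext h2)
  · rintro ⟨g, hg⟩
    obtain ⟨i, z, hz, e⟩ := L.cent_pw hg
    exact ⟨(i, ⟨z, hz⟩), Subtype.ext e.symm⟩

theorem relIndex_eq :
    (CG (Subgroup.zpowers u)).relIndex (Subgroup.normalizer (Subgroup.zpowers u : Set G)) =
      Nat.card R := by
  obtain ⟨φ, hφ, -, hcard⟩ := exists_act L.cardP (Subgroup.mem_zpowers u) L.u_ne
  rw [← hcard]
  congr 1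
  exact congrArg (fun H : Subgroup (ZMod p)ˣ => (H : Type)) (SetLike.ext fun r => by
    rw [L.mem_R]
    constructor
    · rintro ⟨g, rfl⟩
      exact ⟨g, hφ g⟩
    · rintro ⟨g, hg⟩
      exact ⟨⟨g, L.mem_normalizer hg⟩, Units.ext (L.pw_inj' ((hφ _).symm.trans hg))⟩)

theorem card_normalizer :
    Nat.card (Subgroup.normalizer (Subgroup.zpowers u : Set G)) =
      Nat.card R * (p * Nat.card (Subgroup.center G)) := by
  rw [← L.card_cg, ← L.relIndex_eq, Subgroup.relIndex,
    ← ((CG (Subgroup.zpowers u)).subgroupOf _).index_mul_card,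
    Nat.card_congr (Subgroup.subgroupOfEquivOfLe (Subgroup.centralizer_le_normalizer _)).toEquiv]

/-- An element of the normalizer outside the centralizer is regular. -/
theorem regular_outside {g : G} (hg : g ∈ Subgroup.normalizer (Subgroup.zpowers u : Set G))
    (hgC : g ∉ CG (Subgroup.zpowers u)) : ¬ p ∣ orderOf g := by
  intro hd
  have hord : orderOf (g ^ (orderOf g / p)) = p := orderOf_pow_orderOf_div (orderOf_pos g).ne' hd
  have he := SmallDeg.eq_of_le_normalizer L.cardP L.hsyl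
    (Q := Subgroup.zpowers (g ^ (orderOf g / p))) (by rw [Nat.card_zpowers, hord])
    (Subgroup.zpowers_le.2 (pow_mem hg _))
  refine hgC (L.mem_cg.2 ?_)
  obtain ⟨n, hn⟩ := Subgroup.mem_zpowers_iff.1 (he ▸ Subgroup.mem_zpowers u)
  rw [← hn]
  exact ((Commute.self_pow g _).zpow_right n).eq

/-- Every element of order `p` is conjugate to a power of `u`. -/
theorem exists_conj {g : G} (hg : orderOf g = p) :
    ∃ (k : G) (i : ZMod p), i ≠ 0 ∧ g = k * pw u i * k⁻¹ := by
  classical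
  have hPg : IsPGroup p (Subgroup.zpowers u) := IsPGroup.of_card (n := 1) (by rw [L.cardP, pow_one])
  let S : Sylow p G := IsPGroup.toSylow (P := Subgroup.zpowers u) hPg L.hsyl
  obtain ⟨S', hS'⟩ := (IsPGroup.of_card (n := 1) (by rw [Nat.card_zpowers, hg, pow_one]) :
    IsPGroup p (Subgroup.zpowers g)).exists_le_sylow
  obtain ⟨k, hk⟩ := MulAction.exists_smul_eq G S S'
  have hmem : g ∈ ((k • S : Sylow p G) : Subgroup G) := hk ▸ hS' (Subgroup.mem_zpowers g)
  obtain ⟨w, hw, hwg⟩ := hmem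
  obtain ⟨i, rfl⟩ := exists_pw L.cardP (Subgroup.mem_zpowers u) L.u_ne hw
  refine ⟨k, i, fun h0 => ?_, hwg.symm⟩
  rw [h0] at hwg
  rw [← hwg] at hg
  simp [pw] at hg
  exact hp.out.ne_one hg.symm

/-- The form of a singular element. -/
theorem exists_form {g : G} (hg : p ∣ orderOf g) :
    ∃ (k : G) (i : ZMod p) (z : G), i ≠ 0 ∧ z ∈ Subgroup.center G ∧
      g = k * (pw u i * z) * k⁻¹ := by
  have hord : orderOf (g ^ (orderOf g / p)) = p := orderOf_pow_orderOf_div (orderOf_pos g).ne' hg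
  obtain ⟨k, i, hi, e⟩ := L.exists_conj hord
  have hc : k⁻¹ * g * k ∈ CG (Subgroup.zpowers u) := by
    have h1 : Commute (k⁻¹ * g * k) (pw u i) := by
      rw [show pw u i = k⁻¹ * g ^ (orderOf g / p) * k by rw [e]; group]
      simpa using (Commute.self_pow g (orderOf g / p)).map (MulAut.conj k⁻¹).toMonoidHom
    obtain ⟨j, hj⟩ := exists_pw (P := Subgroup.zpowers (pw u i))
      (by rw [Nat.card_zpowers, L.orderOf_pw hi]) (Subgroup.mem_zpowers _) (L.pw_ne hi)
      (v := u) (by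
        rw [mem_zpowers_of_prime L.cardP (pw_mem L.cardP (Subgroup.mem_zpowers u) L.u_ne i) (L.pw_ne hi)]
        exact Subgroup.mem_zpowers u)
    refine L.mem_cg.2 ?_
    rw [← hj]
    exact (h1.pow_right _).eq
  obtain ⟨a, z, hz, e1⟩ := L.cent_pw hc
  refine ⟨k, a, z, fun ha => ?_, hz, by rw [← e1]; group⟩
  have h2 : k⁻¹ * g * k = z := by rw [e1, ha]; simp [pw]
  have h3 : orderOf g = orderOf z := by
    rw [← h2, show k⁻¹ * g * k = MulAut.conj k⁻¹ g by simp, MulEquiv.orderOf_eq]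
  exact L.zreg ((h3 ▸ hg).trans (Subgroup.orderOf_dvd_natCard _ hz))

theorem singular_pw {i : ZMod p} (hi : i ≠ 0) {z : G} (hz : z ∈ Subgroup.center G) :
    p ∣ orderOf (pw u i * z) := by
  have hzc : Commute (pw u i) z := Subgroup.mem_center_iff.1 hz _
  by_contra hd
  have hcop : Nat.Coprime p (orderOf (pw u i * z)) := hp.out.coprime_iff_not_dvd.2 hd
  refine L.pw_ne hi ?_
  have h1 : pw u i ^ orderOf (pw u i * z) = (z ^ orderOf (pw u i * z))⁻¹ :=
    eq_inv_of_mul_eq_one_left (by rw [← hzc.mul_pow, pow_orderOf_eq_one])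
  have h2 : pw u i ^ orderOf (pw u i * z) = 1 := by
    have h3 := L.center_eq_one (inv_mem (pow_mem hz (orderOf (pw u i * z)))) (by
      rw [← h1, ← pow_mul, mul_comm, pow_mul, L.pw_pow_p, one_pow])
    rw [h1, h3]
  refine orderOf_eq_one_iff.1 (Nat.dvd_one.1 ?_)
  exact hcop ▸ Nat.dvd_gcd (orderOf_dvd_of_pow_eq_one (L.pw_pow_p i))
    (orderOf_dvd_of_pow_eq_one h2)

/-- A sum over the singular elements. -/
theorem sum_singular [Fintype (Subgroup.center G)] {H : G → ℂ}
    (hH : IsClassFunction G H) :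
    ((Nat.card R * (p * Nat.card (Subgroup.center G)) : ℕ) : ℂ) *
        ∑ g ∈ Finset.univ.filter (fun g : G => p ∣ orderOf g), H g =
      (Nat.card G : ℂ) * ∑ i ∈ Finset.univ.erase (0 : ZMod p), ∑ z : Subgroup.center G,
        H (pw u i * (z : G)) := by
  classical
  set N := Subgroup.normalizer (Subgroup.zpowers u : Set G)
  set S := Finset.univ.filter (fun g : G => p ∣ orderOf g)
  set D := (Finset.univ : Finset G) ×ˢ (Finset.univ.erase (0 : ZMod p) ×ˢ
    (Finset.univ : Finset (Subgroup.center G)))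
  let F : G × ZMod p × Subgroup.center G → G := fun t => t.1 * (pw u t.2.1 * (t.2.2 : G)) * t.1⁻¹
  have hconj : ∀ k x : G, H (k * x * k⁻¹) = H x := fun k x => hH x k
  have hfib : ∀ g ∈ S, (D.filter fun t => F t = g).card =
      Nat.card R * (p * Nat.card (Subgroup.center G)) := by
    intro g hg
    obtain ⟨k, i, z, hi, hz, rfl⟩ := L.exists_form (Finset.mem_filter.1 hg).2
    rw [← L.card_normalizer, Nat.card_eq_fintype_card, ← Finset.card_univ]
    have hsplit : ∀ (n : G) (j : ZMod p) (w : G), w ∈ Subgroup.center G → j ≠ 0 →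
        n * (pw u j * w) * n⁻¹ = pw u i * z → n ∈ N ∧ w = z := by
      intro n j w hw hj e
      have hwn : n * (pw u j * w) * n⁻¹ = (n * pw u j * n⁻¹) * w := by
        rw [← mul_assoc n, mul_assoc (n * pw u j), ← Subgroup.mem_center_iff.1 hw n⁻¹]
        group
      rw [hwn] at e
      have h1 : w * z⁻¹ = (n * pw u j * n⁻¹)⁻¹ * pw u i := by
        rw [mul_inv_eq_iff_eq_mul, mul_assoc, ← e, inv_mul_cancel_left]
      have h2 : w = z := by
        refine mul_inv_eq_one.1 (L.center_eq_one (mul_mem hw (inv_mem hz)) ?_)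
        have hc : Commute (n * pw u j * n⁻¹)⁻¹ (pw u i) := by
          show _ = _
          rw [← h1]
          have h4 : pw u i = (n * pw u j * n⁻¹) * (w * z⁻¹) := by rw [h1, mul_inv_cancel_left]
          conv_rhs => rw [h4]
          rw [mul_assoc (n * pw u j * n⁻¹), ← (Subgroup.mem_center_iff.1
            (mul_mem hw (inv_mem hz)) (n * pw u j * n⁻¹)⁻¹), mul_inv_cancel_left]
        rw [h1, hc.mul_pow, inv_pow, conj_pow, L.pw_pow_p, L.pw_pow_p]
        simp
      rw [h2] at e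
      have h3 : n * pw u j * n⁻¹ = pw u i := mul_right_cancel e
      refine ⟨L.mem_normalizer (r := Units.mk0 (i * j⁻¹) (mul_ne_zero hi (inv_ne_zero hj))) ?_, h2⟩
      have h5 : pw u j ^ (j⁻¹ : ZMod p).val = u := by
        rw [pw_pow L.cardP (Subgroup.mem_zpowers u) L.u_ne, ZMod.natCast_zmod_val,
          mul_inv_cancel₀ hj, L.pw_one']
      conv_lhs => rw [← h5, ← conj_pow, h3, pw_pow L.cardP (Subgroup.mem_zpowers u) L.u_ne,
        ZMod.natCast_zmod_val]
      rfl
    choose ex hexR hexe using fun n : N => L.exists_exp n.2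
    symm
    refine Finset.card_bij (fun (n : N) _ =>
      (k * (n : G), ((((ex n)⁻¹ : (ZMod p)ˣ) : ZMod p) * i, (⟨z, hz⟩ : Subgroup.center G))))
      (fun n _ => ?_) (fun n _ n' _ e => Subtype.ext (mul_left_cancel (congrArg Prod.fst e))) ?_
    · refine Finset.mem_filter.2 ⟨Finset.mem_product.2 ⟨Finset.mem_univ _, Finset.mem_product.2
        ⟨Finset.mem_erase.2 ⟨mul_ne_zero (Units.ne_zero _) hi, Finset.mem_univ _⟩,
          Finset.mem_univ _⟩⟩, ?_⟩
      have e1 := L.conj_pw' (hexe n) (((ex n)⁻¹ : (ZMod p)ˣ) * i)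
      rw [← mul_assoc ((ex n : (ZMod p)ˣ) : ZMod p), Units.mul_inv, one_mul] at e1
      show k * (n : G) * (pw u _ * z) * (k * (n : G))⁻¹ = _
      rw [← e1, show (n : G) * pw u (↑(ex n)⁻¹ * i) * (n : G)⁻¹ * z =
        (n : G) * pw u (↑(ex n)⁻¹ * i) * (z * (n : G)⁻¹) by
          rw [mul_assoc ((n : G) * _), Subgroup.mem_center_iff.1 hz (n : G)⁻¹]]
      group
    · rintro ⟨x, j, w⟩ ht
      obtain ⟨ht, e⟩ := Finset.mem_filter.1 ht
      have hj := Finset.ne_of_mem_erase (Finset.mem_product.1 (Finset.mem_product.1 ht).2).1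
      have e' : (k⁻¹ * x) * (pw u j * (w : G)) * (k⁻¹ * x)⁻¹ = pw u i * z := by
        have : F (x, j, w) = k * (pw u i * z) * k⁻¹ := e
        simp only [F] at this
        calc _ = k⁻¹ * (x * (pw u j * (w : G)) * x⁻¹) * k := by group
          _ = _ := by rw [this]; group
      obtain ⟨hn, hwz⟩ := hsplit _ j w w.2 hj e'
      refine ⟨⟨k⁻¹ * x, hn⟩, Finset.mem_univ _, Prod.ext (mul_inv_cancel_left k x)
        (Prod.ext ?_ (Subtype.ext hwz.symm))⟩
      have e1 := L.conj_pw' (hexe ⟨_, hn⟩) j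
      have e2 : (k⁻¹ * x) * pw u j * (k⁻¹ * x)⁻¹ = pw u i := by
        refine mul_right_cancel (b := (w : G)) ?_
        conv_rhs => rw [hwz, ← e']
        rw [mul_assoc (k⁻¹ * x * pw u j) (k⁻¹ * x)⁻¹, Subgroup.mem_center_iff.1 w.2 (k⁻¹ * x)⁻¹]
        group
      rw [e2] at e1
      show _ * i = j
      rw [L.pw_inj' e1, Units.inv_mul_cancel_left]
  calc ((Nat.card R * (p * Nat.card (Subgroup.center G)) : ℕ) : ℂ) * ∑ g ∈ S, H g
      = ∑ g ∈ S, ∑ t ∈ D.filter (fun t => F t = g), H (F t) := by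
        rw [Finset.mul_sum]
        refine Finset.sum_congr rfl fun g hg => ?_
        rw [Finset.sum_congr rfl (g := fun _ => H g) fun t ht => by rw [(Finset.mem_filter.1 ht).2],
          Finset.sum_const, hfib g hg, nsmul_eq_mul]
    _ = ∑ t ∈ D, H (F t) := by
        refine Finset.sum_fiberwise_of_maps_to (fun t ht => ?_) _
        refine Finset.mem_filter.2 ⟨Finset.mem_univ _, ?_⟩
        have hj := Finset.ne_of_mem_erase (Finset.mem_product.1 (Finset.mem_product.1 ht).2).1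
        show p ∣ orderOf (MulAut.conj t.1 (pw u t.2.1 * (t.2.2 : G)))
        rw [MulEquiv.orderOf_eq]
        exact L.singular_pw hj t.2.2.2
    _ = _ := by
        simp only [D, F, Finset.sum_product, hconj, Finset.sum_const, Finset.card_univ,
          nsmul_eq_mul, Nat.card_eq_fintype_card]

end Sit

end Cfsg.Agent.Block.SmallFaith
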