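import Mathlib
import Cfsg.Agent.Lib.Block.SmallFaith.Local
import Cfsg.Agent.Lib.Char.SmallDegreeShape

/-!
The exceptional characters of a block of positive defect above a character of the centre, and the
differences of the multiplicities with which they occur in a class function.
-/

set_option autoImplicit false

namespace Cfsg.Agent.Block.SmallFaith

open scoped ComplexConjugate
open Cfsg Cfsg.Agent.Block Cfsg.Agent.Char Cfsg.Agent.Char.BP Cfsg.Agent.Char.Spec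
  Cfsg.Agent.Char.DefectOne Cfsg.Agent.Char.SmallDeg Cfsg.Agent.Block.PMinusTwo

set_option linter.unusedSectionVars false
set_option linter.style.haveILetI false
set_option maxHeartbeats 1600000

universe w

variable {G : Type w} [Group G] [Fintype G] {p : ℕ} [hp : Fact p.Prime] {u : G}
  {R : Subgroup (ZMod p)ˣ}

namespace Sit

variable (L : Sit p u R)
include L

/-- The situation at a conjugate of a power. -/
theorem conj_pw_sit (k : G) {s : ZMod p} (hs : s ≠ 0) : Sit p (k * pw u s * k⁻¹) R := by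
  have hord : orderOf (k * pw u s * k⁻¹) = p := by
    rw [show k * pw u s * k⁻¹ = MulAut.conj k (pw u s) by simp, MulEquiv.orderOf_eq, L.orderOf_pw hs]
  have hpow : ∀ r : ZMod p, pw (k * pw u s * k⁻¹) r = k * pw u (s * r) * k⁻¹ := fun r => by
    rw [pw, conj_pow, pw_pow L.cardP (Subgroup.mem_zpowers u) L.u_ne, ZMod.natCast_zmod_val]
  refine ⟨hord, fun hd => L.hsyl ?_, L.zreg, fun g hg => ?_, fun r => ?_⟩
  · have e1 := (Subgroup.zpowers (k * pw u s * k⁻¹)).card_mul_index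
    rw [← (Subgroup.zpowers u).card_mul_index, Nat.card_zpowers, Nat.card_zpowers, hord, L.hu] at e1
    rwa [← Nat.eq_of_mul_eq_mul_left hp.out.pos e1]
  · have h1 : Commute (k⁻¹ * g * k) (pw u s) := by
      show _ = _
      calc (k⁻¹ * g * k) * pw u s = k⁻¹ * (g * (k * pw u s * k⁻¹)) * k := by group
        _ = k⁻¹ * (k * pw u s * k⁻¹ * g) * k := by rw [hg]
        _ = _ := by group
    obtain ⟨j, hj⟩ := exists_pw (P := Subgroup.zpowers (pw u s))
      (by rw [Nat.card_zpowers, L.orderOf_pw hs]) (Subgroup.mem_zpowers _) (L.pw_ne hs) (v := u) (by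
        rw [mem_zpowers_of_prime L.cardP (pw_mem L.cardP (Subgroup.mem_zpowers u) L.u_ne s) (L.pw_ne hs)]
        exact Subgroup.mem_zpowers u)
    have h2 : (k⁻¹ * g * k) * u = u * (k⁻¹ * g * k) := by
      rw [← hj]; exact (h1.pow_right _).eq
    obtain ⟨a, z, hz, e⟩ := L.cent_pw (L.mem_cg.2 h2)
    refine ⟨(a * s⁻¹ : ZMod p).val, z, hz, ?_⟩
    rw [show (k * pw u s * k⁻¹) ^ (a * s⁻¹ : ZMod p).val = pw (k * pw u s * k⁻¹) (a * s⁻¹) from rfl,
      hpow, show s * (a * s⁻¹) = a by field_simp]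
    calc g = k * (k⁻¹ * g * k) * k⁻¹ := by group
      _ = k * (pw u a * z) * k⁻¹ := by rw [e]
      _ = _ := by rw [← mul_assoc k, mul_assoc (k * pw u a), ← Subgroup.mem_center_iff.1 hz k⁻¹]; group
  · rw [L.mem_R]
    constructor
    · rintro ⟨g, hg⟩
      refine ⟨k * g * k⁻¹, ?_⟩
      rw [hpow, mul_comm s, ← L.conj_pw' hg s]
      group
    · rintro ⟨g, hg⟩
      rw [hpow] at hg
      refine ⟨k⁻¹ * g * k, ?_⟩
      have h1 : (k⁻¹ * g * k) * pw u s * (k⁻¹ * g * k)⁻¹ = pw u (s * (r : ZMod p)) := by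
        calc _ = k⁻¹ * (g * (k * pw u s * k⁻¹) * g⁻¹) * k := by group
          _ = _ := by rw [hg]; group
      have hsv : pw u s ^ (s⁻¹ : ZMod p).val = u := by
        rw [pw_pow L.cardP (Subgroup.mem_zpowers u) L.u_ne, ZMod.natCast_zmod_val,
          mul_inv_cancel₀ hs, L.pw_one']
      conv_lhs => rw [← hsv, ← conj_pow, h1, pw_pow L.cardP (Subgroup.mem_zpowers u) L.u_ne,
        ZMod.natCast_zmod_val, show s * (r : ZMod p) * s⁻¹ = (r : ZMod p) by field_simp]

end Sit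

/-- The exceptional characters above a character of the centre. -/
structure Fam (p : ℕ) [Fact p.Prime] (u : G) (R : Subgroup (ZMod p)ˣ)
    (τ : Subgroup.center G →* ℂˣ) (y : (ZMod p)ˣ ⧸ R → IrrCharacter G) (δ : ℤ) : Prop where
  inj : Function.Injective y
  sign : δ = 1 ∨ δ = -1
  om : ∀ q, omega (y q) = τ
  val : ∀ q, ∀ i : ZMod p, i ≠ 0 → (y q : G → ℂ) (pw u i) = (δ : ℂ) * cosum R q i
  agree : ∀ q q', ∀ g : G, ¬ p ∣ orderOf g → (y q : G → ℂ) g = (y q' : G → ℂ) g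

theorem exists_fam (L : Sit p u R) (ψ₀ : IrrCharacter G)
    (hnd : ¬ p ∣ charDegree (ψ₀ : G → ℂ)) :
    ∃ (y : (ZMod p)ˣ ⧸ R → IrrCharacter G) (δ : ℤ), Fam p u R (omega ψ₀) y δ ∧
      ((∃ q, y q = ψ₀) ∨ ∃ c : ℤ, (c = 1 ∨ c = -1) ∧
        ∀ i : ZMod p, i ≠ 0 → (ψ₀ : G → ℂ) (pw u i) = (c : ℂ)) := by
  classical
  obtain ⟨M, hM⟩ := exists_isPModular p hp.out
  set B := blockOf M (ψ₀ : G → ℂ) with hBdef
  have hB : IsPBlock M B := isPBlock_blockOf ψ₀
  have hψB : ψ₀ ∈ B := mem_blockOf_self hM ψ₀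
  have hfac : (Nat.card G).factorization p = 1 := by
    rw [← (Subgroup.zpowers u).card_mul_index, Nat.card_zpowers, L.hu,
      Nat.factorization_mul hp.out.ne_zero
      Subgroup.index_ne_zero_of_finite, Finsupp.add_apply, hp.out.factorization_self,
      Nat.factorization_eq_zero_of_not_dvd L.hsyl]
  have hd : blockDefect p B ≠ 0 := by
    intro h
    have h1 := (blockDefect_zero_iff_full hM hB).1 h ψ₀ hψB
    rw [hfac, Nat.factorization_eq_zero_of_not_dvd hnd] at h1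
    omega
  obtain ⟨P, b, θ, T, u₀, hPp, hsyl, hθ, hθP, haB, hT, hu₀, hu₁⟩ := exists_setup hM hB hd hfac
  obtain ⟨R', X, y, c, ε, hD⟩ := exists_data hM hPp hsyl hθ hθP hB haB hd hT hu₀ hu₁
  set N := Subgroup.normalizer (P : Set G) with hN
  letI : Fintype (N ⧸ T.subgroupOf N) := Fintype.ofFinite _
  letI : Fintype (CG P) := Fintype.ofFinite _
  have hzpow : Subgroup.zpowers u₀ = P := mem_zpowers_of_prime hPp hu₀ hu₁
  obtain ⟨k, s, hs, hk⟩ := L.exists_conj (orderOf_gen hPp hu₀ hu₁)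
  have L₀ : Sit p u₀ R := hk ▸ L.conj_pw_sit k hs
  have hPC : P ≤ CG P := le_cg hPp
  have hZC : Subgroup.center G ≤ CG P := Subgroup.center_le_centralizer _
  have hdecomp : ∀ v : CG P, ∃ (i : ℕ) (z : G), z ∈ Subgroup.center G ∧ (v : G) = u₀ ^ i * z :=
    fun v => L₀.cent v (Subgroup.mem_centralizer_iff.1 v.2 u₀ hu₀).symm
  have hcomm : ∀ a b : CG P, a * b = b * a := fun a b => by
    obtain ⟨j, w, hw, e'⟩ := hdecomp b
    refine Subtype.ext ?_
    show (a : G) * b = b * a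
    have h1 : Commute (a : G) u₀ := (Subgroup.mem_centralizer_iff.1 a.2 u₀ hu₀).symm
    rw [e']
    exact ((h1.pow_right j).mul_right (show Commute (a : G) w from Subgroup.mem_center_iff.1 hw _)).eq
  have hθ1 : (θ : CG P → ℂ) 1 = 1 := IsIrr.one_of_comm hcomm θ.2
  let zC : Subgroup.center G → CG P := fun z => ⟨z, hZC z.2⟩
  have hθv : ∀ (v : CG P) (i : ℕ) (z : Subgroup.center G), (v : G) = u₀ ^ i * z →
      (θ : CG P → ℂ) v = (θ : CG P → ℂ) (zC z) := by
    intro v i z e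
    rw [show v = (⟨u₀ ^ i, hPC (pow_mem hu₀ i)⟩ : CG P) * zC z from Subtype.ext e]
    exact char_mul_ker (irr_isChar θ) (hθP _ (pow_mem hu₀ i)) _
  have hTN : T = N := by
    ext g
    rw [hT]
    refine ⟨fun h => h.1, fun hg => ⟨hg, fun v v' hv => ?_⟩⟩
    obtain ⟨i, z, hz, e⟩ := hdecomp v
    have hm : g * u₀ ^ i * g⁻¹ ∈ P := (Subgroup.mem_normalizer_iff.1 hg _).1 (pow_mem hu₀ i)
    rw [← hzpow] at hm
    obtain ⟨l, hl⟩ := mem_powers_iff_mem_zpowers.2 hm
    simp only at hl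
    rw [hθv v i ⟨z, hz⟩ e, hθv v' l ⟨z, hz⟩ (by
      rw [hv, e, hl, mul_assoc g, mul_assoc (u₀ ^ i), ← Subgroup.mem_center_iff.1 hz g⁻¹]
      group)]
  obtain rfl : R' = R := by
    ext x
    rw [hD.mem_R, L₀.mem_R, hTN]
    exact ⟨fun ⟨g, _, e⟩ => ⟨g, e⟩, fun ⟨g, e⟩ => ⟨g, hN ▸ hzpow ▸ L₀.mem_normalizer e, e⟩⟩
  haveI : Subsingleton (N ⧸ T.subgroupOf N) := by
    rw [hTN, Subgroup.subgroupOf_self]
    exact QuotientGroup.subsingleton_quotient_top
  let w₀ : N ⧸ T.subgroupOf N := ((1 : N) : N ⧸ T.subgroupOf N)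
  have huniv : (Finset.univ : Finset (N ⧸ T.subgroupOf N)) = {w₀} :=
    Finset.eq_singleton_iff_unique_mem.2 ⟨Finset.mem_univ _, fun q _ => Subsingleton.elim _ _⟩
  obtain ⟨r, hr⟩ := exists_multiplier hPp hu₀ hu₁ hN T
  have hfix : ∀ z : Subgroup.center G, extendByZero (CG P) (θ : CG P → ℂ)
      ((w₀.out : G)⁻¹ * (zC z : G) * w₀.out) = (θ : CG P → ℂ) (zC z) := fun z => by
    rw [show (w₀.out : G)⁻¹ * (zC z : G) * w₀.out = (zC z : G) by
      show (w₀.out : G)⁻¹ * (z : G) * w₀.out = z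
      rw [Subgroup.mem_center_iff.1 z.2, mul_assoc, inv_mul_cancel, mul_one]]
    exact extendByZero_of_mem _ _
  have hzCr : ∀ z : Subgroup.center G, ¬ p ∣ orderOf (zC z) := fun z hd => L.zreg (hd.trans (by
    rw [← Subgroup.orderOf_coe]
    exact Subgroup.orderOf_dvd_natCard _ z.2))
  have hθone : (θ : CG P → ℂ) (zC 1) = 1 := by rw [show zC 1 = 1 from rfl, hθ1]
  have hvX : ∀ χ ∈ X, ∀ i : ZMod p, i ≠ 0 → ∀ z : Subgroup.center G,
      (χ : G → ℂ) (pw u₀ i * (z : G)) = -(c χ : ℂ) * (θ : CG P → ℂ) (zC z) := by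
    intro χ hχ i hi z
    rw [show (z : G) = (zC z : G) from rfl, value_X hM hPp hsyl hθ hθP haB hT hu₀ hu₁ hD hN hχ
      (pw_mem hPp hu₀ hu₁ i) (pw_ne_one hPp hu₀ hu₁ hi) (hzCr z), huniv, Finset.sum_singleton, hfix]
  have hvY : ∀ q, ∀ i : ZMod p, i ≠ 0 → ∀ z : Subgroup.center G,
      (y q : G → ℂ) (pw u₀ i * (z : G)) =
        (ε : ℂ) * cosum R' q (i * (r w₀ : ZMod p)) * (θ : CG P → ℂ) (zC z) := by
    intro q i hi z
    rw [show (z : G) = (zC z : G) from rfl,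
      value_Y hM hPp hsyl hθ hθP haB hT hu₀ hu₁ hD hN hr q hi (hzCr z), huniv, Finset.sum_singleton,
      hfix, mul_assoc]
  have hvX1 : ∀ χ ∈ X, ∀ i : ZMod p, i ≠ 0 → (χ : G → ℂ) (pw u₀ i) = -(c χ : ℂ) := by
    intro χ hχ i hi
    have h := hvX χ hχ i hi 1
    rwa [OneMemClass.coe_one, mul_one, hθone, mul_one] at h
  have hvY1 : ∀ q, ∀ i : ZMod p, i ≠ 0 →
      (y q : G → ℂ) (pw u₀ i) = (ε : ℂ) * cosum R' q (i * (r w₀ : ZMod p)) := by
    intro q i hi
    have h := hvY q i hi 1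
    rwa [OneMemClass.coe_one, mul_one, hθone, mul_one] at h
  have hε : (ε : ℂ) ≠ 0 := by rcases hD.ε_sign with h | h <;> rw [h] <;> norm_num
  have hom : ∀ ψ ∈ B, ∀ z : Subgroup.center G, (omega ψ z : ℂ) = (θ : CG P → ℂ) (zC z) := by
    intro ψ hψ z
    rcases (hD.mem_iff ψ).1 hψ with hX | ⟨q, rfl⟩
    · have h := hvX ψ hX 1 one_ne_zero z
      rw [omega_right, hvX1 ψ hX 1 one_ne_zero, mul_comm] at h
      refine mul_left_cancel₀ ?_ h
      rcases hD.c_sign ψ hX with h1 | h1 <;> rw [h1] <;> norm_num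
    · obtain ⟨i, hi, hne⟩ : ∃ i : ZMod p, i ≠ 0 ∧ cosum R' q (i * (r w₀ : ZMod p)) ≠ 0 := by
        by_contra hc
        push Not at hc
        have h := sum_cosum_erase R' ((r w₀ : (ZMod p)ˣ ⧸ R') * q)
        simp only [← cosum_smul] at h
        rw [Finset.sum_eq_zero fun i hi => hc i (Finset.ne_of_mem_erase hi), eq_comm,
          neg_eq_zero] at h
        exact Nat.card_pos.ne' (Nat.cast_eq_zero.1 h)
      have h := hvY q i hi z
      rw [omega_right, hvY1 q i hi, mul_comm] at h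
      exact mul_left_cancel₀ (mul_ne_zero hε hne) h
  have hom' : ∀ ψ ∈ B, omega ψ = omega ψ₀ := fun ψ hψ =>
    MonoidHom.ext fun z => Units.ext ((hom ψ hψ z).trans (hom ψ₀ hψB z).symm)
  set σ : (ZMod p)ˣ := Units.mk0 s hs
  set sh : (ZMod p)ˣ := r w₀ * σ⁻¹
  have hpw₀ : ∀ i : ZMod p, pw u₀ i = k * pw u (s * i) * k⁻¹ := fun i => by
    rw [hk, pw, conj_pow, pw_pow L.cardP (Subgroup.mem_zpowers u) L.u_ne, ZMod.natCast_zmod_val]
  have hval : ∀ (q : (ZMod p)ˣ ⧸ R') (j : ZMod p), j ≠ 0 →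
      (y q : G → ℂ) (pw u j) = (ε : ℂ) * cosum R' ((sh : (ZMod p)ˣ ⧸ R') * q) j := by
    intro q j hj
    have hi : j * s⁻¹ ≠ 0 := mul_ne_zero hj (inv_ne_zero hs)
    have h := hvY1 q _ hi
    rw [hpw₀, irr_classFun (y q), show s * (j * s⁻¹) = j by field_simp] at h
    rw [h, ← cosum_smul]
    simp only [sh, σ, Units.val_mul, Units.val_inv_eq_inv_val, Units.val_mk0]
    ring_nf
  refine ⟨fun q => y ((sh : (ZMod p)ˣ ⧸ R')⁻¹ * q), ε, ⟨fun a b h => mul_left_cancel (hD.y_inj h),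
    hD.ε_sign, fun q => hom' _ ((hD.mem_iff _).2 (Or.inr ⟨_, rfl⟩)), fun q i hi => ?_,
    fun q q' g hg => Y_agree hD _ ⟨_, rfl⟩ _ ⟨_, rfl⟩ g hg⟩, ?_⟩
  · rw [hval _ i hi, mul_inv_cancel_left]
  rcases (hD.mem_iff ψ₀).1 hψB with hX | ⟨q, hq⟩
  · refine Or.inr ⟨-c ψ₀, ?_, fun i hi => ?_⟩
    · rcases hD.c_sign ψ₀ hX with h | h <;> rw [h] <;> norm_num
    · have h := hvX1 ψ₀ hX (i * s⁻¹) (mul_ne_zero hi (inv_ne_zero hs))
      rw [hpw₀, irr_classFun ψ₀, show s * (i * s⁻¹) = i by field_simp] at h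
      rw [h]
      push_cast
      rfl
  · exact Or.inl ⟨(sh : (ZMod p)ˣ ⧸ R') * q, by simp only [inv_mul_cancel_left]; exact hq⟩

namespace Fam

variable {τ : Subgroup.center G →* ℂˣ} {y : (ZMod p)ˣ ⧸ R → IrrCharacter G} {δ : ℤ}
  (F : Fam p u R τ y δ)
include F

theorem val_center (q : (ZMod p)ˣ ⧸ R) {i : ZMod p} (hi : i ≠ 0) (z : Subgroup.center G) :
    (y q : G → ℂ) (pw u i * (z : G)) = (τ z : ℂ) * ((δ : ℂ) * cosum R q i) := by
  rw [omega_right, F.om, F.val q i hi]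

theorem sum_erase (q : (ZMod p)ˣ ⧸ R) :
    ∑ i ∈ Finset.univ.erase (0 : ZMod p), (y q : G → ℂ) (pw u i) =
      -((δ : ℂ) * (Nat.card R : ℂ)) := by
  rw [Finset.sum_congr rfl fun i hi => F.val q i (Finset.ne_of_mem_erase hi), ← Finset.mul_sum,
    sum_cosum_erase]
  ring

theorem charDeg_eq (q q' : (ZMod p)ˣ ⧸ R) :
    charDegree (y q : G → ℂ) = charDegree (y q' : G → ℂ) :=
  Nat.cast_injective (R := ℂ) (by
    rw [← charDeg_spec', ← charDeg_spec', F.agree q q' 1 (by rw [orderOf_one]; exact hp.out.not_dvd_one)])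

/-- The degree and the multiplicity of the trivial exponent. -/
theorem exists_mult (L : Sit p u R)
    (hsmall : ∀ φ : IrrCharacter G, (φ : G → ℂ) u ≠ (φ : G → ℂ) 1 →
      p ≤ 2 * charDegree (φ : G → ℂ) + 1)
    (he : 3 * Nat.card R + 1 ≤ p) (q : (ZMod p)ˣ ⧸ R) :
    ∃ k : ℕ, 1 ≤ k ∧ ∑ i : ZMod p, (y q : G → ℂ) (pw u i) = (p : ℂ) * k ∧
      (charDegree (y q : G → ℂ) : ℤ) = p * k + δ * Nat.card R := by
  classical
  obtain ⟨m, hm⟩ := exists_pmult L.cardP (Subgroup.mem_zpowers u) L.u_ne (IsIrr.isCharacter (y q).2)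
  have hpw0 : pw u (0 : ZMod p) = 1 := by simp [pw]
  have hsum : ∑ i : ZMod p, (y q : G → ℂ) (pw u i) = (p : ℂ) * m 0 := by
    simp only [hm]
    rw [Finset.sum_comm, Finset.sum_eq_single (0 : ZMod p)]
    · simp [mul_comm]
    · intro l _ hl
      rw [← Finset.mul_sum, ψc_sum, if_neg hl, mul_zero]
    · exact fun h => absurd (Finset.mem_univ _) h
  have hdegC : (charDegree (y q : G → ℂ) : ℂ) = (p : ℂ) * m 0 + (δ : ℂ) * Nat.card R := by
    rw [← Finset.add_sum_erase _ _ (Finset.mem_univ (0 : ZMod p)), F.sum_erase, hpw0, charDeg_spec'] at hsum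
    linear_combination hsum
  have hdeg : (charDegree (y q : G → ℂ) : ℤ) = p * m 0 + δ * Nat.card R := by
    apply Int.cast_injective (α := ℂ)
    push_cast
    exact hdegC
  refine ⟨m 0, ?_, hsum, hdeg⟩
  have hdpos : 0 < charDegree (y q : G → ℂ) := charDeg_pos (y q)
  by_contra h0
  rw [show m 0 = 0 by omega, Nat.cast_zero, mul_zero, zero_add] at hdeg
  have hR : 0 < Nat.card R := Nat.card_pos
  rcases F.sign with h | h <;> rw [h] at hdeg
  · have hd : charDegree (y q : G → ℂ) = Nat.card R := by omega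
    have h1 := hsmall (y q) fun h1 => ?_
    · omega
    · have h2 : ∀ i : ZMod p, (y q : G → ℂ) (pw u i) = (y q : G → ℂ) 1 := by
        intro i
        have h3 : u ∈ charKer (IsIrr.isCharacter (y q).2) := (mem_charKer _).2 h1
        exact (mem_charKer _).1 (pow_mem h3 _)
      rw [Finset.sum_congr rfl fun i _ => h2 i, Finset.sum_const, Finset.card_univ, ZMod.card,
        nsmul_eq_mul, show m 0 = 0 by omega, Nat.cast_zero, mul_zero, mul_eq_zero] at hsum
      exact IsIrr.one_ne_zero (y q).2 (hsum.resolve_left (Nat.cast_ne_zero.2 hp.out.ne_zero))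
  · omega

theorem not_const (he : Nat.card R + 1 < p) (q : (ZMod p)ˣ ⧸ R) {c : ℤ} (hc : c = 1 ∨ c = -1) :
    ¬ ∀ i : ZMod p, i ≠ 0 → (y q : G → ℂ) (pw u i) = (c : ℂ) := by
  intro h
  have h1 := F.sum_erase q
  rw [Finset.sum_congr rfl fun i hi => h i (Finset.ne_of_mem_erase hi), Finset.sum_const,
    Finset.card_erase_of_mem (Finset.mem_univ _), Finset.card_univ, ZMod.card, nsmul_eq_mul] at h1
  have h2 : ((p - 1 : ℕ) : ℤ) * c = -(δ * (Nat.card R : ℤ)) := by
    apply Int.cast_injective (α := ℂ)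
    push_cast
    linear_combination h1
  rcases hc with rfl | rfl <;> rcases F.sign with e | e <;> rw [e] at h2 <;> omega

theorem ne_trivial (he : Nat.card R + 1 < p) (q : (ZMod p)ˣ ⧸ R) : y q ≠ trivialIrr G := fun e =>
  F.not_const he q (Or.inl rfl) fun i _ => by rw [e, Int.cast_one]; rfl

/-- The difference of two multiplicities only depends on the values at the powers of `u`. -/
theorem inner_sub (L : Sit p u R) {Φ : G → ℂ} (hΦ : IsClassFunction G Φ) (f : ZMod p → ℂ)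
    (hf : ∀ i : ZMod p, i ≠ 0 → ∀ z : Subgroup.center G, Φ (pw u i * (z : G)) = (τ z : ℂ) * f i)
    (q q' : (ZMod p)ˣ ⧸ R) :
    classInner Φ (y q : G → ℂ) - classInner Φ (y q' : G → ℂ) =
      (δ : ℂ) / ((Nat.card R : ℂ) * p) *
        ∑ i : ZMod p, f i * conj (cosum R q i - cosum R q' i) := by
  classical
  letI := Fintype.ofFinite (Subgroup.center G)
  set H : G → ℂ := fun g => Φ g * conj ((y q : G → ℂ) g - (y q' : G → ℂ) g)
  have hH : IsClassFunction G H := fun g h => by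
    simp only [H]
    rw [hΦ g h, irr_classFun (y q), irr_classFun (y q')]
  have h1 : classInner Φ (y q : G → ℂ) - classInner Φ (y q' : G → ℂ) =
      (Nat.card G : ℂ)⁻¹ * ∑ g ∈ Finset.univ.filter (fun g : G => p ∣ orderOf g), H g := by
    simp only [classInner, ← mul_sub, ← Finset.sum_sub_distrib, ← map_sub]
    congr 1
    exact (Finset.sum_subset (Finset.subset_univ _) fun g _ hg => by
      rw [F.agree q q' g (by simpa using hg), sub_self, map_zero, mul_zero]).symm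
  have h2 := L.sum_singular hH
  have h3 : ∑ i ∈ Finset.univ.erase (0 : ZMod p), ∑ z : Subgroup.center G, H (pw u i * (z : G)) =
      (Nat.card (Subgroup.center G) : ℂ) * ((δ : ℂ) *
        ∑ i : ZMod p, f i * conj (cosum R q i - cosum R q' i)) := by
    rw [← Finset.add_sum_erase _ (fun i => f i * conj (cosum R q i - cosum R q' i))
      (Finset.mem_univ (0 : ZMod p)), cosum_zero, cosum_zero, sub_self, map_zero, mul_zero, zero_add,
      Finset.mul_sum, Finset.mul_sum]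
    refine Finset.sum_congr rfl fun i hi => ?_
    have hi' := Finset.ne_of_mem_erase hi
    rw [Finset.sum_congr rfl (g := fun _ => (δ : ℂ) * (f i * conj (cosum R q i - cosum R q' i)))
      fun z _ => ?_, Finset.sum_const, Finset.card_univ, nsmul_eq_mul, ← Nat.card_eq_fintype_card]
    simp only [H]
    rw [hf i hi' z, F.val_center q hi' z, F.val_center q' hi' z, ← mul_sub, ← mul_sub, map_mul,
      map_mul, map_intCast]
    have hz : (τ z : ℂ) * conj (τ z : ℂ) = 1 := by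
      rw [← F.om q, mul_comm, omega_conj_mul]
    linear_combination (δ : ℂ) * f i * conj (cosum R q i - cosum R q' i) * hz
  rw [h3] at h2
  rw [h1]
  have hR : (Nat.card R : ℂ) ≠ 0 := Nat.cast_ne_zero.2 Nat.card_pos.ne'
  have hp0 : (p : ℂ) ≠ 0 := Nat.cast_ne_zero.2 hp.out.ne_zero
  have hG : (Nat.card G : ℂ) ≠ 0 := Nat.cast_ne_zero.2 Nat.card_pos.ne'
  have hZ : (Nat.card (Subgroup.center G) : ℂ) ≠ 0 := Nat.cast_ne_zero.2 Nat.card_pos.ne'
  push_cast at h2
  set S := ∑ g ∈ Finset.univ.filter (fun g : G => p ∣ orderOf g), H g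
  set Sf := ∑ i : ZMod p, f i * conj (cosum R q i - cosum R q' i)
  have h4 : (Nat.card R : ℂ) * p * S = (Nat.card G : ℂ) * ((δ : ℂ) * Sf) :=
    mul_left_cancel₀ hZ (by linear_combination h2)
  field_simp
  linear_combination h4

end Fam

end Cfsg.Agent.Block.SmallFaith
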