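import Mathlib
import Cfsg.Agent.Lib.Block.SmallFaith.Fam
import Cfsg.Agent.Lib.Char.Average
import Cfsg.Agent.Lib.Char.Quotient
import Cfsg.Agent.Lib.Block.Cube.Torus

/-!
The multiplicity of a linear character of the normalizer of `⟨u⟩` as a weight on the characters.
-/

set_option autoImplicit false

namespace Cfsg.Agent.Block.SmallFaith

open scoped ComplexConjugate Classical
open Cfsg Cfsg.Agent.Block Cfsg.Agent.Char Cfsg.Agent.Char.BP Cfsg.Agent.Char.Spec
  Cfsg.Agent.Char.DefectOne Cfsg.Agent.Block.PMinusTwo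

set_option linter.unusedSectionVars false
set_option linter.style.haveILetI false
set_option maxHeartbeats 800000

universe w

variable {G : Type w} [Group G] [Fintype G] {p : ℕ} [hp : Fact p.Prime] {u : G}
  {R : Subgroup (ZMod p)ˣ}

/-- The normalizer. -/
abbrev Nu (u : G) : Subgroup G := Subgroup.normalizer (Subgroup.zpowers u : Set G)

/-- The weight. -/
noncomputable def wt (u : G) (μ : Nu u →* ℂˣ) (Φ : G → ℂ) : ℂ :=
  classInner (fun x : Nu u => Φ x) (fun x : Nu u => (μ x : ℂ))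

theorem wt_nat (μ : Nu u →* ℂˣ) {Φ : G → ℂ} (hΦ : IsCharacter G Φ) : ∃ n : ℕ, wt u μ Φ = (n : ℂ) :=
  IsChar.classInner_nat (IsChar.res hΦ _) (IsIrr.isCharacter (isIrr_linear μ))

theorem wt_decomp (μ : Nu u →* ℂˣ) {Φ : G → ℂ} {a : IrrCharacter G → ℕ}
    (ha : Φ = fun g => ∑ φ : IrrCharacter G, (a φ : ℂ) * (φ : G → ℂ) g) :
    wt u μ Φ = ∑ φ : IrrCharacter G, (a φ : ℂ) * wt u μ (φ : G → ℂ) := by
  subst ha
  simp only [wt, classInner, Finset.mul_sum, Finset.sum_mul]
  rw [Finset.sum_comm]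
  exact Finset.sum_congr rfl fun φ _ => Finset.sum_congr rfl fun x _ => by ring

/-- The multiplicities inside a character are bounded by its weight. -/
theorem sum_mult_le (μ : Nu u →* ℂˣ) {Φ : G → ℂ} (hΦ : IsCharacter G Φ) {n : ℕ}
    (hn : wt u μ Φ = (n : ℂ)) {ι : Type*} (s : Finset ι) (ψ : ι → IrrCharacter G)
    (hinj : Set.InjOn ψ s) (hψ : ∀ i ∈ s, wt u μ (ψ i : G → ℂ) ≠ 0) (M : ι → ℕ)
    (hM : ∀ i ∈ s, classInner Φ (ψ i : G → ℂ) = (M i : ℂ)) : ∑ i ∈ s, M i ≤ n := by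
  classical
  obtain ⟨a, ha, hdec⟩ := IsChar.exists_decomp_inner hΦ
  have hdec' : Φ = fun g => ∑ φ : IrrCharacter G, (a φ : ℂ) * (φ : G → ℂ) g :=
    hdec.trans (funext fun g => sum_irr_apply _ g)
  choose w hw using fun φ : IrrCharacter G => wt_nat μ (IsIrr.isCharacter φ.2)
  have htot : n = ∑ φ : IrrCharacter G, a φ * w φ := by
    refine Nat.cast_injective (R := ℂ) ?_
    rw [← hn, wt_decomp μ hdec', Nat.cast_sum]
    exact Finset.sum_congr rfl fun φ _ => by rw [Nat.cast_mul, hw]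
  calc ∑ i ∈ s, M i = ∑ i ∈ s, a (ψ i) := Finset.sum_congr rfl fun i hi =>
        Nat.cast_injective (R := ℂ) ((hM i hi).symm.trans (ha (ψ i)))
    _ ≤ ∑ i ∈ s, a (ψ i) * w (ψ i) := Finset.sum_le_sum fun i hi =>
        Nat.le_mul_of_pos_right _ (Nat.pos_of_ne_zero fun h => hψ i hi (by rw [hw, h, Nat.cast_zero]))
    _ = ∑ φ ∈ s.image ψ, a φ * w φ := (Finset.sum_image (f := fun φ => a φ * w φ) hinj).symm
    _ ≤ n := htot ▸ Finset.sum_le_sum_of_subset (Finset.subset_univ _)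

namespace Sit

variable (L : Sit p u R)
include L

theorem pw_mem_Nu (i : ZMod p) : pw u i ∈ Nu u :=
  Subgroup.le_normalizer (pw_mem L.cardP (Subgroup.mem_zpowers u) L.u_ne i)

theorem mul_comm_mod {g h : G} (hg : g ∈ Nu u) (hh : h ∈ Nu u) :
    ∃ i : ZMod p, g * h = pw u i * (h * g) := by
  obtain ⟨φ, hφ, hker, -⟩ := exists_act L.cardP (Subgroup.mem_zpowers u) L.u_ne
  haveI : IsCyclic φ.range := Subgroup.isCyclic _
  have hcyc : ∀ a b : Nu u ⧸ (Subgroup.zpowers u).subgroupOf (Nu u), a * b = b * a := by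
    let K := (Subgroup.zpowers u).subgroupOf (Nu u)
    haveI : K.Normal := Subgroup.normal_in_normalizer
    refine commutative_of_cyclic_center_quotient (QuotientGroup.lift K φ.rangeRestrict ?_) ?_
    · intro x hx
      rw [MonoidHom.mem_ker]
      refine Subtype.ext (?_ : φ x = 1)
      rw [← MonoidHom.mem_ker, hker, Subgroup.mem_subgroupOf]
      exact le_cg L.cardP hx
    · intro a ha
      induction a using QuotientGroup.induction_on with
      | _ x =>
        have hx : φ x = 1 := congrArg Subtype.val (MonoidHom.mem_ker.1 ha)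
        rw [← MonoidHom.mem_ker, hker, Subgroup.mem_subgroupOf] at hx
        obtain ⟨i, z, hz, e⟩ := L.cent_pw hx
        refine Subgroup.mem_center_iff.2 fun b => ?_
        induction b using QuotientGroup.induction_on with
        | _ y =>
          rw [← QuotientGroup.mk_mul, ← QuotientGroup.mk_mul]
          refine QuotientGroup.eq.2 ?_
          show ((y * x : Nu u)⁻¹ * (x * y) : Nu u) ∈ K
          rw [Subgroup.mem_subgroupOf]
          have hm : (y : G)⁻¹ * pw u i * (y : G) ∈ Subgroup.zpowers u := by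
            have := (Subgroup.mem_normalizer_iff.1 (inv_mem y.2) (pw u i)).1
              (pw_mem L.cardP (Subgroup.mem_zpowers u) L.u_ne i)
            simpa using this
          have h1 : ((y * x : Nu u)⁻¹ * (x * y) : G) = (pw u i)⁻¹ * ((y : G)⁻¹ * pw u i * (y : G)) := by
            have hzc := Subgroup.mem_center_iff.1 hz
            simp only [Subgroup.coe_mul, Subgroup.coe_inv, e]
            rw [mul_assoc (pw u i) z, ← hzc (y : G), show (y : G) * (pw u i * z) =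
              z * ((y : G) * pw u i) by rw [← mul_assoc, hzc]]
            rw [show pw u i * ((y : G) * z) = z * (pw u i * (y : G)) by rw [← mul_assoc, hzc]]
            group
          rw [Subgroup.coe_mul]
          exact h1 ▸ mul_mem (inv_mem (pw_mem L.cardP (Subgroup.mem_zpowers u) L.u_ne i)) hm
  have hq := hcyc (QuotientGroup.mk ⟨g, hg⟩) (QuotientGroup.mk ⟨h, hh⟩)
  rw [← QuotientGroup.mk_mul, ← QuotientGroup.mk_mul, eq_comm, QuotientGroup.eq,
    Subgroup.mem_subgroupOf] at hq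
  obtain ⟨i, hi⟩ := exists_pw L.cardP (Subgroup.mem_zpowers u) L.u_ne
    (v := h * g * ((h * g)⁻¹ * (g * h)) * (h * g)⁻¹) (by
      have h' : (h * g)⁻¹ * (g * h) ∈ Subgroup.zpowers u := by
        simpa only [Subgroup.coe_mul, Subgroup.coe_inv] using hq
      exact (Subgroup.mem_normalizer_iff.1 (mul_mem hh hg) _).1 h')
  exact ⟨i, by rw [hi]; group⟩

end Sit

namespace Fam

variable {τ : Subgroup.center G →* ℂˣ} {y : (ZMod p)ˣ ⧸ R → IrrCharacter G} {δ : ℤ}
  (F : Fam p u R τ y δ) (L : Sit p u R)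
include F L

/-- The weights of the family are equal. -/
theorem wt_eq_wt (μ : Nu u →* ℂˣ) (hμP : ∀ (i : ZMod p) (h : pw u i ∈ Nu u), μ ⟨pw u i, h⟩ = 1)
    (q q' : (ZMod p)ˣ ⧸ R) : wt u μ (y q : G → ℂ) = wt u μ (y q' : G → ℂ) := by
  classical
  letI : Fintype (Subgroup.center G) := Fintype.ofFinite _
  have hZN : Subgroup.center G ≤ Nu u := Subgroup.center_le_normalizer _
  simp only [wt, classInner]
  congr 1
  rw [← sub_eq_zero, ← Finset.sum_sub_distrib]
  simp only [← sub_mul]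
  rw [← Finset.sum_subset (Finset.subset_univ (Finset.univ.filter fun x : Nu u => p ∣ orderOf (x : G)))
    fun x _ hx => by rw [F.agree q q' x (by simpa using hx), sub_self, zero_mul]]
  have key : ∑ t ∈ Finset.univ.erase (0 : ZMod p) ×ˢ (Finset.univ : Finset (Subgroup.center G)),
      ((y q : G → ℂ) (pw u t.1 * (t.2 : G)) - (y q' : G → ℂ) (pw u t.1 * (t.2 : G))) *
        conj (μ ⟨pw u t.1 * (t.2 : G), mul_mem (L.pw_mem_Nu _) (hZN t.2.2)⟩ : ℂ) = 0 := by
    rw [Finset.sum_product, Finset.sum_comm]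
    refine Finset.sum_eq_zero fun z _ => ?_
    have hm : ∀ i : ZMod p, μ ⟨pw u i * (z : G), mul_mem (L.pw_mem_Nu _) (hZN z.2)⟩ =
        μ ⟨(z : G), hZN z.2⟩ := fun i => by
      rw [show (⟨pw u i * (z : G), mul_mem (L.pw_mem_Nu _) (hZN z.2)⟩ : Nu u) =
        ⟨pw u i, L.pw_mem_Nu i⟩ * ⟨(z : G), hZN z.2⟩ from rfl, map_mul, hμP, one_mul]
    rw [Finset.sum_congr rfl fun i hi => by
      rw [hm, F.val_center q (Finset.ne_of_mem_erase hi), F.val_center q' (Finset.ne_of_mem_erase hi),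
        ← mul_sub, ← mul_sub]]
    dsimp only
    rw [← Finset.sum_mul, ← Finset.mul_sum, ← Finset.mul_sum, Finset.sum_sub_distrib, sum_cosum_erase,
      sum_cosum_erase, sub_self, mul_zero, mul_zero, zero_mul]
  rw [← key]
  symm
  refine Finset.sum_bij (fun t _ => (⟨pw u t.1 * (t.2 : G), mul_mem (L.pw_mem_Nu _) (hZN t.2.2)⟩ : Nu u))
    (fun t ht => ?_) (fun t _ t' _ e => ?_) (fun x hx => ?_) fun t _ => rfl
  · exact Finset.mem_filter.2 ⟨Finset.mem_univ _,
      L.singular_pw (Finset.ne_of_mem_erase (Finset.mem_product.1 ht).1) t.2.2⟩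
  · obtain ⟨h1, h2⟩ := L.pw_mul_inj t.2.2 t'.2.2 (congrArg Subtype.val e)
    exact Prod.ext h1 (Subtype.ext h2)
  · have hx' := (Finset.mem_filter.1 hx).2
    have hxC : (x : G) ∈ CG (Subgroup.zpowers u) := by
      by_contra hn
      exact L.regular_outside x.2 hn hx'
    obtain ⟨i, z, hz, e⟩ := L.cent_pw hxC
    refine ⟨(i, ⟨z, hz⟩), Finset.mem_product.2 ⟨Finset.mem_erase.2 ⟨fun h0 => ?_, Finset.mem_univ _⟩,
      Finset.mem_univ _⟩, Subtype.ext e.symm⟩
    have h0' : i = 0 := h0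
    rw [h0', show pw u (0 : ZMod p) = 1 by simp [pw], one_mul] at e
    exact L.zreg ((e ▸ hx').trans (Subgroup.orderOf_dvd_natCard _ hz))

/-- A linear character of the normalizer below the family. -/
theorem exists_weight (hsmall : ∀ φ : IrrCharacter G, (φ : G → ℂ) u ≠ (φ : G → ℂ) 1 →
      p ≤ 2 * charDegree (φ : G → ℂ) + 1)
    (he : 3 * Nat.card R + 1 ≤ p) :
    ∃ μ : Nu u →* ℂˣ, (∀ (i : ZMod p) (h : pw u i ∈ Nu u), μ ⟨pw u i, h⟩ = 1) ∧
      (∀ (z : Subgroup.center G) (h : (z : G) ∈ Nu u), μ ⟨(z : G), h⟩ = τ z) ∧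
      ∀ q, wt u μ (y q : G → ℂ) ≠ 0 := by
  classical
  let q₀ : (ZMod p)ˣ ⧸ R := 1
  obtain ⟨k, hk1, hksum, -⟩ := F.exists_mult L hsmall he q₀
  set Q := (Subgroup.zpowers u).subgroupOf (Nu u) with hQ
  haveI : Q.Normal := Subgroup.normal_in_normalizer
  set η := avgN Q (fun x : Nu u => (y q₀ : G → ℂ) x) with hη
  have hηc : IsCharacter (Nu u) η := IsChar.avgN Q (IsChar.res (IsIrr.isCharacter (y q₀).2) _)
  have hQp : Nat.card Q = p := by
    rw [hQ, Nat.card_congr (Subgroup.subgroupOfEquivOfLe Subgroup.le_normalizer).toEquiv, L.cardP]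
  let e : ZMod p → Q := fun i => ⟨⟨pw u i, L.pw_mem_Nu i⟩,
    pw_mem L.cardP (Subgroup.mem_zpowers u) L.u_ne i⟩
  have hebij : Function.Bijective e := (Nat.bijective_iff_injective_and_card e).2
    ⟨fun i j h => L.pw_inj' (congrArg (fun w : Q => ((w : Nu u) : G)) h), by rw [Nat.card_zmod, hQp]⟩
  have hp0 : (p : ℂ) ≠ 0 := Nat.cast_ne_zero.2 hp.out.ne_zero
  have hη1 : η 1 = (k : ℂ) := by
    simp only [hη, avgN, mul_one]
    rw [hQp, ← hebij.sum_comp, show ∑ i : ZMod p, (y q₀ : G → ℂ) ((e i : Nu u) : G) =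
      ∑ i : ZMod p, (y q₀ : G → ℂ) (pw u i) from rfl, hksum, inv_mul_cancel_left₀ hp0]
  obtain ⟨a, ha, hdec⟩ := IsChar.exists_decomp_inner hηc
  obtain ⟨φ, hφ⟩ : ∃ φ, a φ ≠ 0 := by
    by_contra h
    push Not at h
    have := congrFun hdec 1
    rw [sum_irr_apply, hη1, Finset.sum_eq_zero fun φ _ => by rw [h φ, Nat.cast_zero, zero_mul],
      Nat.cast_eq_zero] at this
    omega
  have hφ0 : classInner η (φ : Nu u → ℂ) ≠ 0 := by rw [ha φ]; exact Nat.cast_ne_zero.2 hφ
  rw [hη, classInner_avgN] at hφ0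
  rcases avgN_irr Q φ.2 with ⟨-, h0⟩ | ⟨hker, hfix⟩
  · rw [h0] at hφ0
    exact absurd (by simp [classInner]) hφ0
  rw [hfix] at hφ0
  obtain ⟨ψ, hψ, hψeq⟩ := IsIrr.exists_factor_quotient φ.2 Q fun x hx => hker ⟨x, hx⟩
  have hcomm : ∀ s t : Nu u ⧸ Q, s * t = t * s := by
    intro s t
    induction s using QuotientGroup.induction_on with
    | _ s =>
    induction t using QuotientGroup.induction_on with
    | _ t =>
      obtain ⟨i, hi⟩ := L.mul_comm_mod s.2 t.2
      rw [← QuotientGroup.mk_mul, ← QuotientGroup.mk_mul]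
      refine QuotientGroup.eq.2 ?_
      rw [hQ, Subgroup.mem_subgroupOf]
      have hm : ((t : G) * s)⁻¹ * (pw u i)⁻¹ * ((t : G) * s) ∈ Subgroup.zpowers u := by
        have := (Subgroup.mem_normalizer_iff.1 (inv_mem (mul_mem t.2 s.2)) (pw u i)⁻¹).1
          (inv_mem (pw_mem L.cardP (Subgroup.mem_zpowers u) L.u_ne i))
        simpa [mul_assoc] using this
      rw [Subgroup.coe_mul, Subgroup.coe_inv, Subgroup.coe_mul, Subgroup.coe_mul, hi]
      convert hm using 1
      group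
  have hψ1 := IsIrr.one_of_comm hcomm hψ
  obtain ⟨μ, hμ⟩ := linearHom_of_isCharacter (IsIrr.isCharacter φ.2) (by
    rw [← hψeq, QuotientGroup.mk_one, hψ1])
  have hμφ : ∀ x, (φ : Nu u → ℂ) x = (μ x : ℂ) := congrFun hμ
  have hwt : wt u μ (y q₀ : G → ℂ) ≠ 0 := by
    simpa only [wt, ← hμφ] using hφ0
  have hμP : ∀ (i : ZMod p) (h : pw u i ∈ Nu u), μ ⟨pw u i, h⟩ = 1 := by
    intro i h
    apply Units.ext
    rw [← hμφ]
    refine (hker ⟨⟨pw u i, h⟩, pw_mem L.cardP (Subgroup.mem_zpowers u) L.u_ne i⟩).trans ?_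
    rw [hμφ, map_one, Units.val_one]
  refine ⟨μ, hμP, fun z h => Units.ext ?_, fun q => F.wt_eq_wt L μ hμP q q₀ ▸ hwt⟩
  simp only [wt, classInner, mul_ne_zero_iff] at hwt
  have hinv : (τ z : ℂ) * conj (μ ⟨(z : G), h⟩ : ℂ) = 1 := by
    refine mul_right_cancel₀ hwt.2 ?_
    rw [one_mul, Finset.mul_sum]
    refine Fintype.sum_equiv (Equiv.mulLeft (⟨(z : G), h⟩ : Nu u)) _ _ fun x => ?_
    rw [Equiv.coe_mulLeft, Subgroup.coe_mul, map_mul, Units.val_mul, map_mul, omega_spec, F.om]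
    ring
  have hnorm : (μ ⟨(z : G), h⟩ : ℂ) * conj (μ ⟨(z : G), h⟩ : ℂ) = 1 := by
    rw [Complex.mul_conj, Complex.normSq_eq_norm_sq,
      norm_eq_one_of_pow_eq_one' (Nat.card_pos (α := Nu u)) (by
        rw [← Units.val_pow_eq_pow_val, ← map_pow, pow_card_eq_one', map_one, Units.val_one])]
    norm_num
  exact (mul_right_cancel₀ (right_ne_zero_of_mul_eq_one hinv) (hinv.trans hnorm.symm)).symm

end Fam

namespace Sit

variable (L : Sit p u R)
include L

theorem sum_cg [Fintype (Subgroup.center G)] (H : G → ℂ) :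
    ∑ x ∈ Finset.univ.filter (fun x : Nu u => (x : G) ∈ CG (Subgroup.zpowers u)), H x =
      ∑ i : ZMod p, ∑ z : Subgroup.center G, H (pw u i * (z : G)) := by
  classical
  rw [← Fintype.sum_prod_type' (fun (i : ZMod p) (z : Subgroup.center G) => H (pw u i * (z : G)))]
  symm
  refine Finset.sum_bij (fun t _ => (⟨pw u t.1 * (t.2 : G),
      mul_mem (L.pw_mem_Nu _) (Subgroup.center_le_normalizer _ t.2.2)⟩ : Nu u))
    (fun t _ => Finset.mem_filter.2 ⟨Finset.mem_univ _, L.pw_mul_mem _ t.2.2⟩)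
    (fun t _ t' _ e => ?_) (fun x hx => ?_) fun t _ => rfl
  · obtain ⟨h1, h2⟩ := L.pw_mul_inj t.2.2 t'.2.2 (congrArg Subtype.val e)
    exact Prod.ext h1 (Subtype.ext h2)
  · obtain ⟨i, z, hz, e⟩ := L.cent_pw (Finset.mem_filter.1 hx).2
    exact ⟨(i, ⟨z, hz⟩), Finset.mem_univ _, Subtype.ext e.symm⟩

variable (μ : Nu u →* ℂˣ) (τ : Subgroup.center G →* ℂˣ)
  (hμP : ∀ (i : ZMod p) (h : pw u i ∈ Nu u), μ ⟨pw u i, h⟩ = 1)
  (hμZ : ∀ (z : Subgroup.center G) (h : (z : G) ∈ Nu u), μ ⟨(z : G), h⟩ = τ z)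
include hμP hμZ

theorem mu_conj_mul (i : ZMod p) (z : Subgroup.center G) (h : pw u i * (z : G) ∈ Nu u) :
    (τ z : ℂ) * conj (μ ⟨pw u i * (z : G), h⟩ : ℂ) = 1 := by
  have hz : (z : G) ∈ Nu u := Subgroup.center_le_normalizer _ z.2
  rw [show (⟨pw u i * (z : G), h⟩ : Nu u) = ⟨pw u i, L.pw_mem_Nu i⟩ * ⟨(z : G), hz⟩ from rfl, map_mul,
    hμP, one_mul, ← hμZ z hz, Complex.mul_conj, Complex.normSq_eq_norm_sq,
    norm_eq_one_of_pow_eq_one' (Nat.card_pos (α := Nu u)) (by
      rw [← Units.val_pow_eq_pow_val, ← map_pow, pow_card_eq_one', map_one, Units.val_one])]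
  norm_num

/-- The weight from the powers of `u` and the values outside the centralizer. -/
theorem wt_formula {Φ : G → ℂ} (f : ZMod p → ℂ)
    (hf : ∀ (i : ZMod p) (z : Subgroup.center G), Φ (pw u i * (z : G)) = (τ z : ℂ) * f i) :
    wt u μ Φ = (∑ i, f i) / ((Nat.card R : ℂ) * p) + (Nat.card (Nu u) : ℂ)⁻¹ *
      ∑ x ∈ Finset.univ.filter (fun x : Nu u => (x : G) ∉ CG (Subgroup.zpowers u)),
        Φ x * conj (μ x : ℂ) := by
  classical
  letI : Fintype (Subgroup.center G) := Fintype.ofFinite _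
  simp only [wt, classInner]
  rw [← Finset.sum_filter_add_sum_filter_not Finset.univ
    (fun x : Nu u => (x : G) ∈ CG (Subgroup.zpowers u)), mul_add]
  congr 1
  let H : G → ℂ := fun g => Φ g * (if h : g ∈ Nu u then conj (μ ⟨g, h⟩ : ℂ) else 0)
  rw [Finset.sum_congr rfl (g := fun x : Nu u => H x) fun x _ => by simp only [H, dif_pos x.2],
    L.sum_cg H, Finset.sum_congr rfl (g := fun i => (Nat.card (Subgroup.center G) : ℂ) * f i)
    fun i _ => ?_, ← Finset.mul_sum, L.card_normalizer]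
  · have h1 : (Nat.card R : ℂ) ≠ 0 := Nat.cast_ne_zero.2 Nat.card_pos.ne'
    have h2 : (p : ℂ) ≠ 0 := Nat.cast_ne_zero.2 hp.out.ne_zero
    have h3 : (Nat.card (Subgroup.center G) : ℂ) ≠ 0 := Nat.cast_ne_zero.2 Nat.card_pos.ne'
    push_cast
    field_simp
  · rw [Finset.sum_congr rfl (g := fun _ => f i) fun z _ => ?_, Finset.sum_const, Finset.card_univ,
      nsmul_eq_mul, ← Nat.card_eq_fintype_card]
    have hm : pw u i * (z : G) ∈ Nu u :=
      mul_mem (L.pw_mem_Nu _) (Subgroup.center_le_normalizer _ z.2)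
    simp only [H, dif_pos hm, hf]
    linear_combination f i * L.mu_conj_mul μ τ hμP hμZ i z hm

/-- The sum of a linear character outside the centralizer. -/
theorem sum_linear_outside (l : Nu u →* ℂˣ)
    (hlP : ∀ (i : ZMod p) (h : pw u i ∈ Nu u), l ⟨pw u i, h⟩ = 1)
    (hlZ : ∀ (z : Subgroup.center G) (h : (z : G) ∈ Nu u), l ⟨(z : G), h⟩ = τ z) :
    ∑ x ∈ Finset.univ.filter (fun x : Nu u => (x : G) ∉ CG (Subgroup.zpowers u)),
        (l x : ℂ) * conj (μ x : ℂ) =
      (if l = μ then (Nat.card (Nu u) : ℂ) else 0) - ((p * Nat.card (Subgroup.center G) : ℕ) : ℂ) := by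
  classical
  letI : Fintype (Subgroup.center G) := Fintype.ofFinite _
  have hconj : ∀ x : Nu u, conj (μ x : ℂ) = ((μ x)⁻¹ : ℂˣ) := fun x => by
    rw [Units.val_inv_eq_inv_val]
    refine (inv_eq_of_mul_eq_one_right ?_).symm
    rw [Complex.mul_conj, Complex.normSq_eq_norm_sq, norm_eq_one_of_pow_eq_one'
      (Nat.card_pos (α := Nu u)) (by
        rw [← Units.val_pow_eq_pow_val, ← map_pow, pow_card_eq_one', map_one, Units.val_one])]
    norm_num
  have htot : ∑ x : Nu u, (l x : ℂ) * conj (μ x : ℂ) = if l = μ then (Nat.card (Nu u) : ℂ) else 0 := by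
    simp only [hconj, ← Units.val_mul]
    split_ifs with h
    · subst h
      simp [Nat.card_eq_fintype_card]
    · exact linear_sum (l * μ⁻¹) fun e => h (mul_inv_eq_one.1 e)
  have hin : ∑ x ∈ Finset.univ.filter (fun x : Nu u => (x : G) ∈ CG (Subgroup.zpowers u)),
      (l x : ℂ) * conj (μ x : ℂ) = ((p * Nat.card (Subgroup.center G) : ℕ) : ℂ) := by
    have hcard : (Finset.univ.filter fun x : Nu u => (x : G) ∈ CG (Subgroup.zpowers u)).card =
        p * Nat.card (Subgroup.center G) := by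
      rw [← L.card_cg, ← Fintype.card_subtype, ← Nat.card_eq_fintype_card]
      exact Nat.card_congr
        { toFun := fun x => ⟨((x : Nu u) : G), x.2⟩
          invFun := fun x => ⟨⟨(x : G), Subgroup.centralizer_le_normalizer _ x.2⟩, x.2⟩
          left_inv := fun _ => rfl
          right_inv := fun _ => rfl }
    rw [Finset.sum_congr rfl (g := fun _ => (1 : ℂ)) fun x hx => ?_, Finset.sum_const, nsmul_one,
      hcard]
    · obtain ⟨i, z, hz, e⟩ := L.cent_pw (Finset.mem_filter.1 hx).2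
      have hm : pw u i * z ∈ Nu u := e ▸ x.2
      rw [show x = ⟨pw u i * z, hm⟩ from Subtype.ext e]
      rw [show (⟨pw u i * z, hm⟩ : Nu u) = ⟨pw u i, L.pw_mem_Nu i⟩ *
        ⟨z, Subgroup.center_le_normalizer _ hz⟩ from rfl]
      simp only [map_mul, hlP, one_mul, hμP, hlZ ⟨z, hz⟩ _, hμZ ⟨z, hz⟩ _]
      rw [← hμZ ⟨z, hz⟩ (Subgroup.center_le_normalizer _ hz), hconj, Units.mul_inv]
  rw [← htot, ← Finset.sum_filter_add_sum_filter_not Finset.univ
    (fun x : Nu u => (x : G) ∈ CG (Subgroup.zpowers u)) (fun x => (l x : ℂ) * conj (μ x : ℂ)), hin,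
    add_sub_cancel_left]

end Sit

end Cfsg.Agent.Block.SmallFaith
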