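import Mathlib
import Cfsg.Agent.Lib.Block.SmallFaith.Weight
import Cfsg.Agent.Lib.Block.PMinusOne.Square
import Cfsg.Agent.Lib.Block.Separated
import Cfsg.Agent.Lib.Block.ClassMul
import Cfsg.Agent.Lib.Block.SmallFaith.Psl

/-!
The weights of the products and of the two squares of the exceptional characters of degree `p - e`.
-/

set_option autoImplicit false

namespace Cfsg.Agent.Block.SmallFaith

open scoped ComplexConjugate
open scoped _root_.Classical
open Cfsg Cfsg.Agent.Block Cfsg.Agent.Char Cfsg.Agent.Char.BP Cfsg.Agent.Char.Spec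
  Cfsg.Agent.Char.DefectOne Cfsg.Agent.Block.PMinusTwo

set_option linter.unusedSectionVars false
set_option linter.style.haveILetI false
set_option maxHeartbeats 800000

universe w

variable {G : Type w} [Group G] [Fintype G] {p : ℕ} [hp : Fact p.Prime] {u : G}
  {R : Subgroup (ZMod p)ˣ}

/-- The symmetric square. -/
noncomputable def symSq (χ : G → ℂ) : G → ℂ := fun g => (χ g * χ g + χ (g * g)) / 2

/-- The alternating square. -/
noncomputable def altSq (χ : G → ℂ) : G → ℂ := fun g => (χ g * χ g - χ (g * g)) / 2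

theorem isChar_symSq {χ : G → ℂ} (hχ : IsCharacter G χ) : IsCharacter G (symSq χ) := by
  classical
  obtain ⟨Φ, hΦ, hv⟩ := FS.exists_square_char hχ
  let N : Subgroup (G × ℤˣ) := (MonoidHom.fst G ℤˣ).ker
  have hΨ := IsChar.avgN N hΦ
  have h := IsChar.comp (MonoidHom.inl G ℤˣ) hΨ
  convert h using 2 with g
  have e : ∀ x : G × ℤˣ, x ∈ N ↔ x.1 = 1 := fun x => MonoidHom.mem_ker
  let φ : ℤˣ ≃ N := {
    toFun := fun s => ⟨(1, s), (e _).2 rfl⟩
    invFun := fun n => n.1.2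
    left_inv := fun _ => rfl
    right_inv := fun n => Subtype.ext (Prod.ext ((e _).1 n.2).symm rfl) }
  simp only [avgN]
  rw [← φ.sum_comp, FS.sum_units_int, Nat.card_congr φ.symm, Nat.card_eq_fintype_card (α := ℤˣ),
    show Fintype.card ℤˣ = 2 by decide]
  simp [symSq, φ, (hv g).1, (hv g).2]
  ring

theorem isChar_altSq {χ : G → ℂ} (hχ : IsCharacter G χ) : IsCharacter G (altSq χ) :=
  PMinusOne.isChar_alt hχ

/-- The exceptional characters of degree `p - e`. -/
structure Zf (p : ℕ) [Fact p.Prime] (u : G) (R : Subgroup (ZMod p)ˣ)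
    (ω : Subgroup.center G →* ℂˣ) (y : (ZMod p)ˣ ⧸ R → IrrCharacter G) : Prop where
  fam : Fam p u R ω y (-1)
  deg : ∀ q, charDegree (y q : G → ℂ) + Nat.card R = p

namespace Sit

variable (L : Sit p u R)
include L

theorem pw_sq (i : ZMod p) : pw u i * pw u i = pw u (i + i) := L.pw_add i i

/-- A product of two characters that do not vanish together at a singular element has a constituent
which does not vanish there. -/
theorem exists_constituent {Φ : G → ℂ} (hΦ : IsCharacter G Φ) {g : G} (hg : p ∣ orderOf g)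
    (h0 : Φ g ≠ 0) :
    ∃ ψ : IrrCharacter G, (ψ : G → ℂ) g ≠ 0 ∧ classInner Φ (ψ : G → ℂ) ≠ 0 ∧
      ¬ p ∣ charDegree (ψ : G → ℂ) := by
  classical
  obtain ⟨a, ha, hdec⟩ := IsChar.exists_decomp_inner hΦ
  have h := congrFun hdec g
  rw [sum_irr_apply] at h
  obtain ⟨ψ, -, hψ⟩ := Finset.exists_ne_zero_of_sum_ne_zero (h ▸ h0)
  refine ⟨ψ, right_ne_zero_of_mul hψ, ha ψ ▸ left_ne_zero_of_mul hψ, fun hd => ?_⟩
  obtain ⟨M, hM⟩ := exists_isPModular p hp.out
  have hfac : (Nat.card G).factorization p = 1 := by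
    rw [← (Subgroup.zpowers u).card_mul_index, Nat.card_zpowers, L.hu,
      Nat.factorization_mul hp.out.ne_zero
      Subgroup.index_ne_zero_of_finite, Finsupp.add_apply, hp.out.factorization_self,
      Nat.factorization_eq_zero_of_not_dvd L.hsyl]
  refine right_ne_zero_of_mul hψ (defectZero_vanish hM ψ ?_ hg)
  refine le_antisymm ((Nat.factorization_le_iff_dvd (charDeg_pos ψ).ne' Nat.card_pos.ne').2
    (charDeg_dvd ψ) p) ?_
  rw [hfac]
  exact (hp.out.dvd_iff_one_le_factorization (charDeg_pos ψ).ne').1 hd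

/-- The elements outside the centralizer move `u`. -/
theorem exp_ne_one {g : G} {r : (ZMod p)ˣ} (hg : g * u * g⁻¹ = pw u (r : ZMod p))
    (hgC : g ∉ CG (Subgroup.zpowers u)) : r ≠ 1 := by
  intro e
  rw [e, Units.val_one, L.pw_one', mul_inv_eq_iff_eq_mul] at hg
  exact hgC (L.mem_cg.2 hg)

end Sit

namespace Zf

variable {ω : Subgroup.center G →* ℂˣ} {y : (ZMod p)ˣ ⧸ R → IrrCharacter G} (Z : Zf p u R ω y)
  (L : Sit p u R)
include Z L

theorem degC (q : (ZMod p)ˣ ⧸ R) : (y q : G → ℂ) 1 = (p : ℂ) - (Nat.card R : ℂ) := by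
  have h := Z.deg q
  rw [charDeg_spec', eq_sub_iff_add_eq]
  exact_mod_cast h

theorem val (q : (ZMod p)ˣ ⧸ R) {i : ZMod p} (hi : i ≠ 0) :
    (y q : G → ℂ) (pw u i) = -cosum R q i := by
  rw [Z.fam.val q i hi]; push_cast; ring

theorem sum_pw (q : (ZMod p)ˣ ⧸ R) : ∑ i : ZMod p, (y q : G → ℂ) (pw u i) = (p : ℂ) := by
  rw [← Finset.add_sum_erase _ _ (Finset.mem_univ (0 : ZMod p)), Z.fam.sum_erase,
    show pw u (0 : ZMod p) = 1 by simp [pw], Z.degC L]
  push_cast
  ring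

/-- The linear character of the normalizer. -/
theorem exists_lam : ∃ l : Nu u →* ℂˣ,
    (∀ (i : ZMod p) (h : pw u i ∈ Nu u), l ⟨pw u i, h⟩ = 1) ∧
      (∀ (z : Subgroup.center G) (h : (z : G) ∈ Nu u), l ⟨(z : G), h⟩ = ω z) ∧
      ∀ q, ∀ x : Nu u, (x : G) ∉ CG (Subgroup.zpowers u) → (y q : G → ℂ) x = (l x : ℂ) := by
  classical
  let q₀ : (ZMod p)ˣ ⧸ R := 1
  set Q := (Subgroup.zpowers u).subgroupOf (Nu u) with hQ
  haveI : Q.Normal := Subgroup.normal_in_normalizer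
  set η := avgN Q (fun x : Nu u => (y q₀ : G → ℂ) x) with hη
  have hηc : IsCharacter (Nu u) η := IsChar.avgN Q (IsChar.res (IsIrr.isCharacter (y q₀).2) _)
  have hQp : Nat.card Q = p := by
    rw [hQ, Nat.card_congr (Subgroup.subgroupOfEquivOfLe Subgroup.le_normalizer).toEquiv, L.cardP]
  let e : ZMod p → Q := fun i => ⟨⟨pw u i, L.pw_mem_Nu i⟩,
    pw_mem L.cardP (Subgroup.mem_zpowers u) L.u_ne i⟩
  have hebij : Function.Bijective e := (Nat.bijective_iff_injective_and_card e).2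
    ⟨fun i j h => L.pw_inj' (congrArg (fun w : Q => ((w : Nu u) : G)) h), by rw [Nat.card_zmod, hQp]⟩
  have hp0 : (p : ℂ) ≠ 0 := Nat.cast_ne_zero.2 hp.out.ne_zero
  have hηx : ∀ x : Nu u, η x = (p : ℂ)⁻¹ * ∑ i : ZMod p, (y q₀ : G → ℂ) (pw u i * (x : G)) := fun x => by
    simp only [hη, avgN]
    rw [hQp, ← hebij.sum_comp]
    rfl
  have hη1 : η 1 = 1 := by
    rw [hηx]
    simp only [OneMemClass.coe_one, mul_one]
    rw [Z.sum_pw L, inv_mul_cancel₀ hp0]
  obtain ⟨l, hl⟩ := linearHom_of_isCharacter hηc hη1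
  have hl' : ∀ x, η x = (l x : ℂ) := congrFun hl
  refine ⟨l, fun i h => Units.ext ?_, fun z h => Units.ext ?_, fun q x hx => ?_⟩
  · have hmem : (⟨pw u i, h⟩ : Nu u) ∈ Q := pw_mem L.cardP (Subgroup.mem_zpowers u) L.u_ne i
    rw [← hl', Units.val_one]
    have := avgN_mul_left Q (fun x : Nu u => (y q₀ : G → ℂ) x) ⟨_, hmem⟩ 1
    rw [mul_one] at this
    exact this.trans hη1
  · rw [← hl', hηx]
    simp only [omega_right, Z.fam.om, ← Finset.mul_sum]
    rw [Z.sum_pw L]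
    field_simp
  · have hq : (y q : G → ℂ) x = (y q₀ : G → ℂ) x := Z.fam.agree q q₀ _ (L.regular_outside x.2 hx)
    rw [hq, ← hl', hηx, Finset.sum_congr rfl (g := fun _ => (y q₀ : G → ℂ) (x : G)) fun i _ => ?_,
      Finset.sum_const, Finset.card_univ, ZMod.card, nsmul_eq_mul, inv_mul_cancel_left₀ hp0]
    obtain ⟨r, -, hr⟩ := L.exists_exp x.2
    have hr1 : (1 : ZMod p) - (r : ZMod p) ≠ 0 := fun h0 =>
      L.exp_ne_one hr hx (Units.ext (sub_eq_zero.1 h0).symm)
    set a := i / (1 - (r : ZMod p))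
    have e1 : pw u i * (x : G) = pw u a * x * (pw u a)⁻¹ := by
      have h1 := L.conj_pw' hr a
      have h2 : pw u i * pw u ((r : ZMod p) * a) = pw u a := by
        rw [L.pw_add]; congr 1; simp only [a]; field_simp; ring
      rw [← h1] at h2
      calc pw u i * (x : G) = (pw u i * ((x : G) * pw u a * (x : G)⁻¹)) * x * (pw u a)⁻¹ := by group
        _ = _ := by rw [h2]
    rw [e1, irr_classFun (y q₀)]

variable {μ : Nu u →* ℂˣ} {τ : Subgroup.center G →* ℂˣ}
  (hμP : ∀ (i : ZMod p) (h : pw u i ∈ Nu u), μ ⟨pw u i, h⟩ = 1)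
  (hμZ : ∀ (z : Subgroup.center G) (h : (z : G) ∈ Nu u), μ ⟨(z : G), h⟩ = τ z)
  (he : ∀ t : ℕ, Nat.card R * t + 1 = p → 2 ≤ t)
include hμP hμZ

/-- The weight of a product. -/
theorem wt_mul (a b : (ZMod p)ˣ ⧸ R) {t : ℕ} (ht : Nat.card R * t + 1 = p) {l : Nu u →* ℂˣ}
    (hlP : ∀ (i : ZMod p) (h : pw u i ∈ Nu u), l ⟨pw u i, h⟩ = 1)
    (hlZ : ∀ (z : Subgroup.center G) (h : (z : G) ∈ Nu u), l ⟨(z : G), h⟩ = τ z) {Φ : G → ℂ}
    (hΦ0 : ∀ z : Subgroup.center G, Φ (z : G) = (τ z : ℂ) * ((p : ℂ) - Nat.card R) ^ 2)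
    (hΦi : ∀ i : ZMod p, i ≠ 0 → ∀ z : Subgroup.center G,
      Φ (pw u i * (z : G)) = (τ z : ℂ) * (cosum R a i * cosum R b i))
    (hΦx : ∀ x : Nu u, (x : G) ∉ CG (Subgroup.zpowers u) → Φ x = (l x : ℂ)) :
    wt u μ Φ = (t : ℂ) - 2 + (if b = negQ R a then 1 else 0) + (if l = μ then 1 else 0) := by
  classical
  set f : ZMod p → ℂ := fun i => if i = 0 then ((p : ℂ) - Nat.card R) ^ 2 else cosum R a i * cosum R b i
  have hf : ∀ (i : ZMod p) (z : Subgroup.center G), Φ (pw u i * (z : G)) = (τ z : ℂ) * f i := by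
    intro i z
    by_cases hi : i = 0
    · rw [hi, show pw u (0 : ZMod p) = 1 by simp [pw], one_mul, hΦ0]
      simp [f]
    · rw [hΦi i hi]
      simp [f, hi]
  have hsum : ∑ i, f i = ((p : ℂ) - Nat.card R) ^ 2 - (Nat.card R : ℂ) ^ 2 +
      (if b = negQ R a then (p : ℂ) * Nat.card R else 0) := by
    rw [← sum_two, ← Finset.add_sum_erase _ _ (Finset.mem_univ (0 : ZMod p)),
      ← Finset.add_sum_erase _ (fun i => cosum R a i * cosum R b i) (Finset.mem_univ (0 : ZMod p)),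
      cosum_zero, cosum_zero, Finset.sum_congr rfl (g := fun i => cosum R a i * cosum R b i)
        fun i hi => if_neg (Finset.ne_of_mem_erase hi)]
    simp only [f, if_true]
    ring
  have hout : ∑ x ∈ Finset.univ.filter (fun x : Nu u => (x : G) ∉ CG (Subgroup.zpowers u)),
      Φ x * conj (μ x : ℂ) = ∑ x ∈ Finset.univ.filter (fun x : Nu u => (x : G) ∉ CG (Subgroup.zpowers u)),
      (l x : ℂ) * conj (μ x : ℂ) :=
    Finset.sum_congr rfl fun x hx => by rw [hΦx x (Finset.mem_filter.1 hx).2]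
  rw [L.wt_formula μ τ hμP hμZ f hf, hout, L.sum_linear_outside μ τ hμP hμZ l hlP hlZ, hsum,
    L.card_normalizer]
  have hR : (Nat.card R : ℂ) ≠ 0 := Nat.cast_ne_zero.2 Nat.card_pos.ne'
  have hp0 : (p : ℂ) ≠ 0 := Nat.cast_ne_zero.2 hp.out.ne_zero
  have hZ : (Nat.card (Subgroup.center G) : ℂ) ≠ 0 := Nat.cast_ne_zero.2 Nat.card_pos.ne'
  have hpe : (p : ℂ) = (Nat.card R : ℂ) * t + 1 := by exact_mod_cast ht.symm
  push_cast
  split_ifs <;> field_simp <;> rw [hpe] <;> ring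

/-- The weight of a square. -/
theorem wt_sq (a : (ZMod p)ˣ ⧸ R) {t : ℕ} (ht : Nat.card R * t + 1 = p) {l : Nu u →* ℂˣ}
    (hlP : ∀ (i : ZMod p) (h : pw u i ∈ Nu u), l ⟨pw u i, h⟩ = 1)
    (hlZ : ∀ (z : Subgroup.center G) (h : (z : G) ∈ Nu u), l ⟨(z : G), h⟩ = ω z)
    (hl : ∀ q, ∀ x : Nu u, (x : G) ∉ CG (Subgroup.zpowers u) → (y q : G → ℂ) x = (l x : ℂ))
    (hτ : ∀ z, τ z = ω z * ω z) (hp2 : p ≠ 2) :
    ∃ γ : ℤ,
      (((-1 : (ZMod p)ˣ) ∉ R → γ = 0) ∧
        ((-1 : (ZMod p)ˣ) ∈ R → (γ = 1 ∨ γ = -1) ∧ (γ = -1 → l * l ≠ μ))) ∧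
      2 * wt u μ (symSq (y a : G → ℂ)) = (t : ℂ) - 2 + (if (-1 : (ZMod p)ˣ) ∈ R then 1 else 0) +
        ((t : ℂ) - 1) * γ + 2 * (if l * l = μ then 1 else 0) ∧
      2 * wt u μ (altSq (y a : G → ℂ)) = (t : ℂ) - 2 + (if (-1 : (ZMod p)ˣ) ∈ R then 1 else 0) -
        ((t : ℂ) - 1) * γ := by
  classical
  set S := Finset.univ.filter (fun x : Nu u =>
    (x : G) ∉ CG (Subgroup.zpowers u) ∧ ((x * x : Nu u) : G) ∈ CG (Subgroup.zpowers u)) with hS
  set m : Nu u → ℂ := fun x => ((l * l) x : ℂ) * conj (μ x : ℂ) with hm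
  have hl2P : ∀ (i : ZMod p) (h : pw u i ∈ Nu u), (l * l) ⟨pw u i, h⟩ = 1 := fun i h => by
    rw [MonoidHom.mul_apply, hlP, one_mul]
  have hl2Z : ∀ (z : Subgroup.center G) (h : (z : G) ∈ Nu u), (l * l) ⟨(z : G), h⟩ = τ z := fun z h => by
    rw [MonoidHom.mul_apply, hlZ, hτ]
  have hmC : ∀ x : Nu u, (x : G) ∈ CG (Subgroup.zpowers u) → m x = 1 := by
    intro x hx
    obtain ⟨i, z, hz, e⟩ := L.cent_pw hx
    have hm' : pw u i * z ∈ Nu u := e ▸ x.2
    rw [show x = ⟨pw u i * z, hm'⟩ from Subtype.ext e]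
    have h1 := L.mu_conj_mul μ τ hμP hμZ i ⟨z, hz⟩ hm'
    rw [← h1, hm]
    simp only
    rw [show (⟨pw u i * z, hm'⟩ : Nu u) = ⟨pw u i, L.pw_mem_Nu i⟩ *
      ⟨z, Subgroup.center_le_normalizer _ hz⟩ from rfl, map_mul (l * l), hl2P, one_mul,
      hl2Z ⟨z, hz⟩]
  have hmm : ∀ x x' : Nu u, m (x * x') = m x * m x' := fun x x' => by
    simp only [hm, map_mul, Units.val_mul]
    ring
  -- the coset inverting `u`
  have hexp : ∀ x : Nu u, x ∈ S ↔ ∃ r : (ZMod p)ˣ, r = -1 ∧ (x : G) * u * (x : G)⁻¹ = pw u (r : ZMod p) := by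
    intro x
    obtain ⟨r, -, hr⟩ := L.exists_exp x.2
    have hr2 : ((x * x : Nu u) : G) * u * ((x * x : Nu u) : G)⁻¹ = pw u ((r * r : (ZMod p)ˣ) : ZMod p) := by
      rw [Units.val_mul, ← L.conj_pw' hr (r : ZMod p), ← hr, Subgroup.coe_mul]
      group
    have hC : ∀ (g : G) (s : (ZMod p)ˣ), g * u * g⁻¹ = pw u (s : ZMod p) →
        (g ∈ CG (Subgroup.zpowers u) ↔ s = 1) := by
      intro g s hs
      refine ⟨fun hg => ?_, fun h1 => ?_⟩
      · refine Units.ext (L.pw_inj' ?_)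
        rw [← hs, Units.val_one, L.pw_one', mul_inv_eq_iff_eq_mul]
        exact L.mem_cg.1 hg
      · rw [h1, Units.val_one, L.pw_one', mul_inv_eq_iff_eq_mul] at hs
        exact L.mem_cg.2 hs
    simp only [hS, Finset.mem_filter, Finset.mem_univ, true_and, hC _ r hr, hC _ _ hr2]
    constructor
    · rintro ⟨h1, h2⟩
      refine ⟨r, ?_, hr⟩
      have h3 : (r : ZMod p) ^ 2 = 1 := by
        rw [sq, ← Units.val_mul, h2, Units.val_one]
      exact (sq_eq_one_iff.1 h3).elim (fun e => absurd (Units.ext e) h1) fun e => Units.ext (by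
        rw [e, Units.val_neg, Units.val_one])
    · rintro ⟨s, rfl, hs⟩
      obtain rfl : r = -1 := Units.ext (L.pw_inj' (hr.symm.trans hs))
      refine ⟨fun h => ?_, by rw [neg_mul_neg, one_mul]⟩
      have h' : (-1 : ZMod p) = 1 := by
        have := congrArg Units.val h
        simpa using this
      exact ne_two hp2 (by linear_combination -h')
  obtain ⟨γ, hγ, hSsum⟩ : ∃ γ : ℤ,
      (((-1 : (ZMod p)ˣ) ∉ R → γ = 0) ∧
        ((-1 : (ZMod p)ˣ) ∈ R → (γ = 1 ∨ γ = -1) ∧ (γ = -1 → l * l ≠ μ))) ∧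
      ∑ x ∈ S, m x = ((p * Nat.card (Subgroup.center G) : ℕ) : ℂ) * γ := by
    by_cases hR : (-1 : (ZMod p)ˣ) ∈ R
    · obtain ⟨g, hg⟩ := (L.mem_R _).1 hR
      set s₀ : Nu u := ⟨g, L.mem_normalizer hg⟩
      have hs₀ : s₀ ∈ S := (hexp s₀).2 ⟨_, rfl, hg⟩
      have hbij : ∀ x : Nu u, x ∈ S ↔ ((s₀⁻¹ * x : Nu u) : G) ∈ CG (Subgroup.zpowers u) := by
        intro x
        rw [hexp, L.mem_cg, Subgroup.coe_mul, Subgroup.coe_inv]
        constructor
        · rintro ⟨r, rfl, hr⟩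
          have : (x : G) * u * (x : G)⁻¹ = g * u * g⁻¹ := hr.trans hg.symm
          calc g⁻¹ * (x : G) * u = g⁻¹ * ((x : G) * u * (x : G)⁻¹) * x := by group
            _ = _ := by
              show _ = u * (g⁻¹ * (x : G))
              rw [this]; group
        · intro h
          refine ⟨-1, rfl, ?_⟩
          rw [← hg]
          calc (x : G) * u * (x : G)⁻¹ = g * (g⁻¹ * x * u) * (x : G)⁻¹ := by group
            _ = g * (u * (g⁻¹ * x)) * (x : G)⁻¹ := by rw [show g⁻¹ * (x : G) * u = u * (g⁻¹ * x) from h]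
            _ = _ := by group
      have hsq : m s₀ * m s₀ = 1 := by
        rw [← hmm]
        exact hmC _ (Finset.mem_filter.1 hs₀).2.2
      obtain ⟨γ, hγ, hγm⟩ : ∃ γ : ℤ, (γ = 1 ∨ γ = -1) ∧ m s₀ = (γ : ℂ) := by
        rcases mul_self_eq_one_iff.1 hsq with h | h
        · exact ⟨1, Or.inl rfl, by rw [h, Int.cast_one]⟩
        · exact ⟨-1, Or.inr rfl, by rw [h]; norm_num⟩
      refine ⟨γ, ⟨fun h => absurd hR h, fun _ => ⟨hγ, fun h1 heq => ?_⟩⟩, ?_⟩
      · rw [h1, hm] at hγm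
        simp only [heq] at hγm
        rw [Complex.mul_conj, Complex.normSq_eq_norm_sq, norm_eq_one_of_pow_eq_one'
          (Nat.card_pos (α := Nu u)) (by
            rw [← Units.val_pow_eq_pow_val, ← map_pow, pow_card_eq_one', map_one, Units.val_one])]
          at hγm
        norm_num at hγm
      · rw [← hγm, Finset.sum_congr rfl (g := fun _ => m s₀) fun x hx => ?_, Finset.sum_const,
          nsmul_eq_mul]
        · congr 1
          norm_cast
          rw [← L.card_cg, ← Nat.card_eq_finsetCard]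
          exact Nat.card_congr
            { toFun := fun x => ⟨((s₀⁻¹ * (x : Nu u) : Nu u) : G), (hbij _).1 x.2⟩
              invFun := fun c => ⟨s₀ * ⟨(c : G), Subgroup.centralizer_le_normalizer _ c.2⟩,
                (hbij _).2 (by rw [inv_mul_cancel_left]; exact c.2)⟩
              left_inv := fun x => Subtype.ext (Subtype.ext (mul_inv_cancel_left (g : G) _))
              right_inv := fun c => Subtype.ext (inv_mul_cancel_left (g : G) _) }
        · conv_lhs => rw [← mul_inv_cancel_left s₀ x, hmm, hmC _ ((hbij x).1 hx), mul_one]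
    · refine ⟨0, ⟨fun _ => rfl, fun h => absurd h hR⟩, ?_⟩
      rw [Finset.sum_eq_zero fun x hx => ?_, Int.cast_zero, mul_zero]
      obtain ⟨r, hr, hxr⟩ := (hexp x).1 hx
      exact absurd ((L.mem_R _).2 ⟨x, hr ▸ hxr⟩) hR
  -- the values
  set d : ℂ := (p : ℂ) - Nat.card R with hd
  set two : (ZMod p)ˣ := Units.mk0 2 (ne_two hp2)
  have hpow0 : pw u (0 : ZMod p) = 1 := by simp [pw]
  have hy2 : ∀ (i : ZMod p) (z : Subgroup.center G), (y a : G → ℂ) (pw u i * (z : G)) ^ 2 =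
      (τ z : ℂ) * (if i = 0 then d ^ 2 else cosum R a i * cosum R a i) := by
    intro i z
    rw [omega_right, Z.fam.om, hτ, Units.val_mul]
    by_cases hi : i = 0
    · rw [hi, hpow0, Z.degC L, if_pos rfl, hd]
      ring
    · rw [Z.val L a hi, if_neg hi]
      ring
  have hysq : ∀ (i : ZMod p) (z : Subgroup.center G),
      (y a : G → ℂ) (pw u i * (z : G) * (pw u i * (z : G))) = (τ z : ℂ) *
        (if i = 0 then d else -cosum R ((two : (ZMod p)ˣ ⧸ R) * a) i) := by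
    intro i z
    rw [show pw u i * (z : G) * (pw u i * (z : G)) = pw u (i + i) * ((z * z : Subgroup.center G) : G) by
      rw [← L.pw_add, Subgroup.coe_mul, mul_assoc, ← mul_assoc (z : G),
        ← Subgroup.mem_center_iff.1 z.2 (pw u i)]
      group, omega_right, Z.fam.om, map_mul, ← hτ]
    by_cases hi : i = 0
    · rw [hi, add_zero, hpow0, Z.degC L, if_pos rfl, hd]
    · have hii : i + i ≠ 0 := fun h => mul_ne_zero hi (ne_two hp2) (by linear_combination h)
      rw [Z.val L a hii, if_neg hi, ← cosum_smul, show i * (two : ZMod p) = i + i by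
        simp [two]; ring]
  have hx2 : ∀ x : Nu u, (x : G) ∉ CG (Subgroup.zpowers u) →
      (y a : G → ℂ) x * (y a : G → ℂ) x = ((l * l) x : ℂ) ∧
      (y a : G → ℂ) ((x : G) * x) = ((l * l) x : ℂ) * (if x ∈ S then d else 1) := by
    intro x hx
    refine ⟨by rw [hl a x hx, MonoidHom.mul_apply, Units.val_mul], ?_⟩
    by_cases hxS : x ∈ S
    · obtain ⟨i, z, hz, e⟩ := L.cent_pw (Finset.mem_filter.1 hxS).2.2
      rw [Subgroup.coe_mul] at e
      have hi : i = 0 := by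
        by_contra hi
        have h1 := L.singular_pw hi hz
        rw [← e, show (x : G) * x = (x : G) ^ 2 from (pow_two _).symm] at h1
        exact L.regular_outside x.2 hx (h1.trans (orderOf_pow_dvd 2))
      rw [hi, hpow0, one_mul] at e
      have hxz : x * x = ⟨z, Subgroup.center_le_normalizer _ hz⟩ := Subtype.ext e
      rw [if_pos hxS, e, omega_at_one (y a) ⟨z, hz⟩, Z.fam.om, Z.degC L, ← hd, MonoidHom.mul_apply,
        ← map_mul, hxz, hlZ ⟨z, hz⟩]
    · have hxx : ((x * x : Nu u) : G) ∉ CG (Subgroup.zpowers u) := fun h =>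
        hxS (Finset.mem_filter.2 ⟨Finset.mem_univ _, hx, h⟩)
      rw [if_neg hxS, mul_one, show (x : G) * x = ((x * x : Nu u) : G) from rfl, hl a _ hxx,
        MonoidHom.mul_apply, map_mul]
  have hR0 : (Nat.card R : ℂ) ≠ 0 := Nat.cast_ne_zero.2 Nat.card_pos.ne'
  have hp0 : (p : ℂ) ≠ 0 := Nat.cast_ne_zero.2 hp.out.ne_zero
  have hZ : (Nat.card (Subgroup.center G) : ℂ) ≠ 0 := Nat.cast_ne_zero.2 Nat.card_pos.ne'
  have hpe : (p : ℂ) = (Nat.card R : ℂ) * t + 1 := by exact_mod_cast ht.symm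
  have hneg : (a = negQ R a) ↔ (-1 : (ZMod p)ˣ) ∈ R :=
    ⟨fun h => (QuotientGroup.eq_one_iff _).1 (by
      have h' : (1 : (ZMod p)ˣ ⧸ R) * a = ((-1 : (ZMod p)ˣ) : (ZMod p)ˣ ⧸ R) * a := by
        rw [one_mul]; exact h
      exact (mul_right_cancel h').symm), fun h => (negQ_of_mem R h a).symm⟩
  have key : ∀ ε : ℤ, (ε = 1 ∨ ε = -1) →
      2 * wt u μ (fun g => ((y a : G → ℂ) g * (y a : G → ℂ) g + (ε : ℂ) * (y a : G → ℂ) (g * g)) / 2) =
        (t : ℂ) - 2 + (if (-1 : (ZMod p)ˣ) ∈ R then 1 else 0) + (ε : ℂ) * ((t : ℂ) - 1) * γ +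
          (1 + (ε : ℂ)) * (if l * l = μ then 1 else 0) := by
    intro ε hε
    set f : ZMod p → ℂ := fun i => ((if i = 0 then d ^ 2 else cosum R a i * cosum R a i) +
      (ε : ℂ) * (if i = 0 then d else -cosum R ((two : (ZMod p)ˣ ⧸ R) * a) i)) / 2
    have hf : ∀ (i : ZMod p) (z : Subgroup.center G),
        (fun g => ((y a : G → ℂ) g * (y a : G → ℂ) g + (ε : ℂ) * (y a : G → ℂ) (g * g)) / 2)
          (pw u i * (z : G)) = (τ z : ℂ) * f i := by
      intro i z
      simp only [f]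
      rw [← pow_two, hy2, hysq]
      ring
    have hsum : ∑ i, f i = ((d ^ 2 - (Nat.card R : ℂ) ^ 2 +
        (if (-1 : (ZMod p)ˣ) ∈ R then (p : ℂ) * Nat.card R else 0)) +
          (ε : ℂ) * (d + Nat.card R)) / 2 := by
      simp only [f, ← Finset.sum_div, Finset.sum_add_distrib, ← Finset.mul_sum]
      rw [← Finset.add_sum_erase _ _ (Finset.mem_univ (0 : ZMod p)),
        ← Finset.add_sum_erase _ (fun i : ZMod p => if i = 0 then d else _) (Finset.mem_univ (0 : ZMod p)),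
        if_pos rfl, if_pos rfl, Finset.sum_congr rfl fun i hi => if_neg (Finset.ne_of_mem_erase hi),
        Finset.sum_congr rfl (g := fun i => -cosum R ((two : (ZMod p)ˣ ⧸ R) * a) i) fun i hi =>
          if_neg (Finset.ne_of_mem_erase hi), Finset.sum_neg_distrib, sum_cosum_erase,
        Finset.sum_erase_eq_sub (Finset.mem_univ _), sum_two, cosum_zero]
      simp only [hneg]
      ring
    rw [L.wt_formula μ τ hμP hμZ f hf, hsum]
    rw [Finset.sum_congr rfl (g := fun x => (1 + (ε : ℂ)) / 2 * m x +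
      (if x ∈ S then (ε : ℂ) * (d - 1) / 2 * m x else 0)) fun x hx => ?_, Finset.sum_add_distrib,
      ← Finset.mul_sum, hm, L.sum_linear_outside μ τ hμP hμZ (l * l) hl2P hl2Z, ← Finset.sum_filter,
      Finset.filter_mem_eq_inter, Finset.inter_eq_right.2 (fun x hx => Finset.mem_filter.2
        ⟨Finset.mem_univ _, (Finset.mem_filter.1 hx).2.1⟩), ← Finset.mul_sum, ← hm, hSsum,
      L.card_normalizer, hd]
    · push_cast
      split_ifs <;> field_simp <;> rw [hpe] <;> ring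
    · obtain ⟨h1, h2⟩ := hx2 x (Finset.mem_filter.1 hx).2
      simp only [hm]
      rw [h1, h2]
      split_ifs <;> ring
  refine ⟨γ, hγ, ?_, ?_⟩
  · have h := key 1 (Or.inl rfl)
    simp only [Int.cast_one, one_mul] at h
    rw [show (1 : ℂ) + 1 = 2 by norm_num] at h
    exact h
  · have h := key (-1) (Or.inr rfl)
    simp only [Int.cast_neg, Int.cast_one, neg_mul, one_mul, add_neg_cancel, zero_mul, add_zero,
      ← sub_eq_add_neg] at h
    exact h

end Zf

end Cfsg.Agent.Block.SmallFaith
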