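import Mathlib
import Cfsg.Agent.Lib.Block.SmallFaith.Products
import Cfsg.Agent.Lib.Block.SmallFaith.Arith
import Cfsg.Agent.Lib.Char.Galois

/-!
The bounds on the cyclotomic numbers coming from the products of the exceptional characters of
degree `p - e`.
-/

set_option autoImplicit false

namespace Cfsg.Agent.Block.SmallFaith

open scoped ComplexConjugate
open scoped _root_.Classical
open Cfsg Cfsg.Agent.Block Cfsg.Agent.Char Cfsg.Agent.Char.BP Cfsg.Agent.Char.Spec
  Cfsg.Agent.Char.DefectOne Cfsg.Agent.Block.PMinusTwo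

set_option linter.unusedSectionVars false
set_option linter.style.haveILetI false
set_option maxHeartbeats 800000

universe w

variable {G : Type w} [Group G] [Fintype G] {p : ℕ} [hp : Fact p.Prime] {u : G}
  {R : Subgroup (ZMod p)ˣ}

theorem omega_trivial : omega (trivialIrr G) = 1 := by
  refine MonoidHom.ext fun z => Units.ext ?_
  have h := omega_spec (trivialIrr G) z 1
  simp only [trivialIrr, mul_one] at h
  exact h.symm

theorem mul_classFun {φ ψ : G → ℂ} (hφ : IsClassFunction G φ) (hψ : IsClassFunction G ψ) :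
    IsClassFunction G (fun g => φ g * ψ g) := fun g h => by
  simp only
  rw [hφ g h, hψ g h]

theorem sum_pair (a b : (ZMod p)ˣ ⧸ R) :
    ∑ i : ZMod p, cosum R a i * conj (cosum R b i) =
      if b = a then (p : ℂ) * Nat.card R else 0 := by
  simp only [conj_cosum]
  rw [sum_two]
  refine if_congr ⟨fun h => ?_, fun h => by rw [h]⟩ rfl rfl
  have := congrArg (negQ R) h
  rwa [negQ_negQ, negQ_negQ] at this

/-- From the difference lemma to the cyclotomic numbers. -/
theorem Fam.inner_sub_tri {τ : Subgroup.center G →* ℂˣ} {Y : (ZMod p)ˣ ⧸ R → IrrCharacter G}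
    {δ : ℤ} (F : Fam p u R τ Y δ) (L : Sit p u R) {Φ : G → ℂ} (hΦ : IsClassFunction G Φ) (c : ℤ)
    (a b : (ZMod p)ˣ ⧸ R)
    (hf : ∀ i : ZMod p, i ≠ 0 → ∀ z : Subgroup.center G,
      Φ (pw u i * (z : G)) = (τ z : ℂ) * ((c : ℂ) * (cosum R a i * cosum R b i)))
    (q q' : (ZMod p)ˣ ⧸ R) {M M' : ℕ} (hM : classInner Φ (Y q : G → ℂ) = M)
    (hM' : classInner Φ (Y q' : G → ℂ) = M') :
    (M : ℤ) - M' = δ * c * ((tri R a b q : ℤ) - tri R a b q') := by
  have h := F.inner_sub L hΦ (fun i => (c : ℂ) * (cosum R a i * cosum R b i)) hf q q'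
  rw [hM, hM'] at h
  have hs : ∑ i : ZMod p, (c : ℂ) * (cosum R a i * cosum R b i) * conj (cosum R q i - cosum R q' i) =
      (c : ℂ) * ((p : ℂ) * Nat.card R * tri R a b q - (p : ℂ) * Nat.card R * tri R a b q') := by
    rw [← sum_three, ← sum_three, ← Finset.sum_sub_distrib, Finset.mul_sum]
    exact Finset.sum_congr rfl fun i _ => by rw [map_sub]; ring
  rw [hs] at h
  apply Int.cast_injective (α := ℂ)
  push_cast
  rw [h]
  have hR : (Nat.card R : ℂ) ≠ 0 := Nat.cast_ne_zero.2 Nat.card_pos.ne'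
  have hp0 : (p : ℂ) ≠ 0 := Nat.cast_ne_zero.2 hp.out.ne_zero
  field_simp

namespace Zf

variable {ω : Subgroup.center G →* ℂˣ} {y : (ZMod p)ˣ ⧸ R → IrrCharacter G} (Z : Zf p u R ω y)
  (L : Sit p u R)
  (hsmall : ∀ φ : IrrCharacter G, (φ : G → ℂ) u ≠ (φ : G → ℂ) 1 →
    p ≤ 2 * charDegree (φ : G → ℂ) + 1)
  {t : ℕ} (ht : Nat.card R * t + 1 = p) (ht3 : 3 ≤ t)
include Z L hsmall ht ht3

theorem e_small : 3 * Nat.card R + 1 ≤ p := by
  have := Nat.mul_le_mul_left (Nat.card R) ht3
  omega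

theorem exists_pbound [Fintype ((ZMod p)ˣ ⧸ R)] :
    ∃ δ K : ℤ, PBound R t δ K := by
  have he : Nat.card R + 1 < p := by
    have := Z.e_small L hsmall ht ht3
    have : 0 < Nat.card R := Nat.card_pos
    omega
  obtain ⟨P, δ, F, -⟩ := exists_fam L (trivialIrr G) (by
    rw [show charDegree (trivialIrr G : G → ℂ) = 1 by simp [charDegree, trivialIrr]]
    exact hp.out.not_dvd_one)
  rw [omega_trivial] at F
  obtain ⟨μ, hμP, hμZ, hμne⟩ := F.exists_weight L hsmall (Z.e_small L hsmall ht ht3)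
  obtain ⟨l, hlP, hlZ, hl⟩ := Z.exists_lam L
  have hchar : ∀ a b, IsCharacter G (fun g => (y a : G → ℂ) g * conj ((y b : G → ℂ) g)) := fun a b =>
    IsChar.mul (IsIrr.isCharacter (y a).2) (IsChar.conj (IsIrr.isCharacter (y b).2))
  have hnat : ∀ a b q, ∃ m : ℕ,
      classInner (fun g => (y a : G → ℂ) g * conj ((y b : G → ℂ) g)) (P q : G → ℂ) = m := fun a b q =>
    IsChar.classInner_nat (hchar a b) (IsIrr.isCharacter (P q).2)
  choose M hM using hnat
  have hωn : ∀ z : Subgroup.center G, (ω z : ℂ) * conj (ω z : ℂ) = 1 := fun z => by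
    rw [← Z.fam.om 1, mul_comm, omega_conj_mul]
  have hval : ∀ a b, ∀ i : ZMod p, i ≠ 0 → ∀ z : Subgroup.center G,
      (y a : G → ℂ) (pw u i * (z : G)) * conj ((y b : G → ℂ) (pw u i * (z : G))) =
        cosum R a i * cosum R (negQ R b) i := by
    intro a b i hi z
    rw [Z.fam.val_center a hi, Z.fam.val_center b hi, map_mul, map_mul, conj_cosum, map_intCast]
    push_cast
    linear_combination (cosum R a i * cosum R (negQ R b) i) * hωn z
  have hq : ∀ a b q q', (M a b q : ℤ) - M a b q' =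
      δ * ((tri R a (negQ R b) q : ℤ) - tri R a (negQ R b) q') := by
    intro a b q q'
    have h := F.inner_sub_tri L (Φ := fun g => (y a : G → ℂ) g * conj ((y b : G → ℂ) g))
      (IsChar.classFun (hchar a b)) 1 a (negQ R b) (fun i hi z => by
        rw [hval a b i hi z, MonoidHom.one_apply, Units.val_one, Int.cast_one, one_mul, one_mul])
      q q' (hM a b q) (hM a b q')
    rwa [mul_one] at h
  have hδ : ∀ z : ℤ, (-1 : ℤ) * (-δ) * z = δ * z := fun z => by ring
  have ha : ∀ a a' b q, (M a b q : ℤ) - M a' b q =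
      δ * ((tri R a (negQ R b) q : ℤ) - tri R a' (negQ R b) q) := by
    intro a a' b q
    have hsw : ∀ c, classInner (fun g => (y b : G → ℂ) g * (P q : G → ℂ) g) (y c : G → ℂ) =
        (M c b q : ℂ) := by
      intro c
      rw [← Complex.conj_natCast, ← hM c b q]
      simp only [classInner, map_mul, map_inv₀, map_natCast, map_sum, Complex.conj_conj]
      exact congrArg _ (Finset.sum_congr rfl fun g _ => by ring)
    have h := Z.fam.inner_sub_tri L (Φ := fun g => (y b : G → ℂ) g * (P q : G → ℂ) g)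
      (mul_classFun (irr_classFun (y b)) (irr_classFun (P q))) (-δ) b q (fun i hi z => by
        rw [Z.fam.val_center b hi, F.val_center q hi, MonoidHom.one_apply, Units.val_one]
        push_cast
        ring) a a' (hsw a) (hsw a')
    rw [hδ] at h
    have e : ∀ c, tri R b q c = tri R c (negQ R b) q := fun c => by
      rw [← tri_rot R c (negQ R b) q, negQ_negQ, tri_comm]
    rwa [e, e] at h
  have hb : ∀ a b b' q, (M a b q : ℤ) - M a b' q =
      δ * ((tri R a (negQ R b) q : ℤ) - tri R a (negQ R b') q) := by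
    intro a b b' q
    have hsw : ∀ c, classInner (fun g => (y a : G → ℂ) g * conj ((P q : G → ℂ) g)) (y c : G → ℂ) =
        (M a c q : ℂ) := by
      intro c
      rw [← hM a c q]
      simp only [classInner]
      exact congrArg _ (Finset.sum_congr rfl fun g _ => by ring)
    have h := Z.fam.inner_sub_tri L (Φ := fun g => (y a : G → ℂ) g * conj ((P q : G → ℂ) g))
      (IsChar.classFun (IsChar.mul (IsIrr.isCharacter (y a).2)
        (IsChar.conj (IsIrr.isCharacter (P q).2)))) (-δ) a (negQ R q) (fun i hi z => by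
        rw [Z.fam.val_center a hi, F.val_center q hi, MonoidHom.one_apply, Units.val_one, map_mul,
          map_mul, map_one, conj_cosum, map_intCast]
        push_cast
        ring) b b' (hsw b) (hsw b')
    rw [hδ] at h
    have e : ∀ c, tri R a (negQ R q) c = tri R a (negQ R c) q := fun c => by
      rw [tri_rot R c q a, tri_comm R c q a, ← tri_rot R a (negQ R c) q, negQ_negQ]
    rwa [e, e] at h
  refine ⟨δ, (M 1 1 1 : ℤ) - δ * tri R 1 (negQ R 1) 1, F.sign, ?_⟩
  set K : ℤ := (M 1 1 1 : ℤ) - δ * tri R 1 (negQ R 1) 1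
  have hK : ∀ a b q, (M a b q : ℤ) = K + δ * tri R a (negQ R b) q := by
    intro a b q
    have h1 := hq a b q 1
    have h2 := ha a 1 b 1
    have h3 := hb 1 b 1 1
    simp only [K]
    linarith
  refine ⟨fun a b q => ?_, fun a b => ?_⟩
  · have h := hK a (negQ R b) q
    rw [negQ_negQ] at h
    rw [← h]
    exact Int.natCast_nonneg _
  set b₀ := negQ R b with hb₀
  have hflip : (b = negQ R a) ↔ b₀ = a := by
    rw [hb₀]
    exact ⟨fun h => by rw [h, negQ_negQ], fun h => by rw [← h, negQ_negQ]⟩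
  -- the weight of the product
  set Φ : G → ℂ := fun g => (y a : G → ℂ) g * conj ((y b₀ : G → ℂ) g)
  obtain ⟨n, hn⟩ := wt_nat μ (hchar a b₀)
  have hwt := Z.wt_mul L hμP hμZ a b ht (l := 1) (fun _ _ => rfl) (fun _ _ => rfl) (Φ := Φ)
    (fun z => by
      simp only [Φ, omega_at_one, Z.fam.om, Z.degC L, MonoidHom.one_apply, Units.val_one, map_mul,
        map_sub, map_natCast]
      linear_combination ((p : ℂ) - Nat.card R) ^ 2 * hωn z)
    (fun i hi z => by
      simp only [Φ]
      rw [hval a b₀ i hi z, hb₀, negQ_negQ, MonoidHom.one_apply, Units.val_one, one_mul])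
    (fun x hx => by
      simp only [Φ, hl _ x hx, MonoidHom.one_apply, Units.val_one]
      rw [Complex.mul_conj, Complex.normSq_eq_norm_sq,
        norm_eq_one_of_pow_eq_one' (Nat.card_pos (α := Nu u)) (by
          rw [← Units.val_pow_eq_pow_val, ← map_pow, pow_card_eq_one', map_one, Units.val_one])]
      norm_num)
  rw [hn] at hwt
  have hn' : (n : ℤ) = t - 2 + (if b = negQ R a then 1 else 0) + (if (1 : Nu u →* ℂˣ) = μ then 1 else 0) := by
    apply Int.cast_injective (α := ℂ)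
    push_cast
    exact hwt
  have hsum : ∑ q, (M a b₀ q : ℤ) = t * K + δ * ((Nat.card R : ℤ) - (if b = negQ R a then 1 else 0)) := by
    simp only [hK, Finset.sum_add_distrib, ← Finset.mul_sum, Finset.sum_const, Finset.card_univ,
      card_classes R ht, nsmul_eq_mul]
    rw [hb₀, negQ_negQ, ← tri_total R a b]
    push_cast
    ring
  rw [← hsum, ← Nat.cast_sum]
  by_cases hdiag : b = negQ R a ∧ (1 : Nu u →* ℂˣ) = μ
  · -- the trivial constituent
    obtain ⟨h1, h2⟩ := hdiag
    rw [if_pos h1, if_pos h2] at hn'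
    let ψ : Option ((ZMod p)ˣ ⧸ R) → IrrCharacter G := fun o => o.elim (trivialIrr G) P
    have hle := sum_mult_le μ (hchar a b₀) hn (Finset.univ : Finset (Option ((ZMod p)ˣ ⧸ R))) ψ ?_ ?_
      (fun o => o.elim 1 (M a b₀)) ?_
    · rw [Fintype.sum_option] at hle
      simp only [Option.elim_none, Option.elim_some] at hle
      omega
    · rintro (_ | x) _ (_ | x') _ e
      · rfl
      · exact absurd e.symm (F.ne_trivial he x')
      · exact absurd e (F.ne_trivial he x)
      · exact congrArg some (F.inj e)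
    · rintro (_ | x) _
      · simp only [ψ, Option.elim_none, wt, trivialIrr, ← h2, MonoidHom.one_apply, Units.val_one]
        rw [classInner_self_irr (isIrr_one (G := Nu u))]
        exact one_ne_zero
      · exact hμne x
    · rintro (_ | x) _
      · have e : b₀ = a := hflip.1 h1
        simp only [ψ, Option.elim_none, Nat.cast_one, e]
        refine (?_ : _ = classInner (y a : G → ℂ) (y a : G → ℂ)).trans (classInner_self_irr (y a).2)
        simp [classInner, trivialIrr]
      · exact hM a b₀ x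
  · have hle := sum_mult_le μ (hchar a b₀) hn Finset.univ P F.inj.injOn (fun q _ => hμne q) (M a b₀)
      fun q _ => hM a b₀ q
    have hle' : ((∑ q, M a b₀ q : ℕ) : ℤ) ≤ n := by exact_mod_cast hle
    split_ifs at hn' with h1 h2 h2
    · exact absurd ⟨h1, h2⟩ hdiag
    all_goals omega

variable {Y : (ZMod p)ˣ ⧸ R → IrrCharacter G} {δ : ℤ} {τ : Subgroup.center G →* ℂˣ}
  (F : Fam p u R τ Y δ) (hτ : ∀ z, τ z = ω z * ω z)
include F hτ

theorem qbound [Fintype ((ZMod p)ˣ ⧸ R)] : QBound R t δ := by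
  obtain ⟨μ, hμP, hμZ, hμne⟩ := F.exists_weight L hsmall (Z.e_small L hsmall ht ht3)
  obtain ⟨l, hlP, hlZ, hl⟩ := Z.exists_lam L
  refine ⟨F.sign, fun a b => ?_⟩
  set Φ : G → ℂ := fun g => (y a : G → ℂ) g * (y b : G → ℂ) g
  have hchar : IsCharacter G Φ := IsChar.mul (IsIrr.isCharacter (y a).2) (IsIrr.isCharacter (y b).2)
  have hval : ∀ i : ZMod p, i ≠ 0 → ∀ z : Subgroup.center G,
      Φ (pw u i * (z : G)) = (τ z : ℂ) * (cosum R a i * cosum R b i) := fun i hi z => by
    simp only [Φ, Z.fam.val_center a hi, Z.fam.val_center b hi, hτ, Units.val_mul]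
    push_cast
    ring
  choose M hM using fun q => IsChar.classInner_nat hchar (IsIrr.isCharacter (Y q).2)
  obtain ⟨n, hn⟩ := wt_nat μ hchar
  have hwt := Z.wt_mul L hμP hμZ a b ht (l := l * l)
    (fun i h => by rw [MonoidHom.mul_apply, hlP, one_mul])
    (fun z h => by rw [MonoidHom.mul_apply, hlZ, hτ]) (Φ := Φ)
    (fun z => by
      simp only [Φ, omega_at_one, Z.fam.om, Z.degC L, hτ, Units.val_mul]
      ring) hval
    (fun x hx => by simp only [Φ, hl _ x hx, MonoidHom.mul_apply, Units.val_mul])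
  rw [hn] at hwt
  have hn' : (n : ℤ) = t - 2 + (if b = negQ R a then 1 else 0) + (if l * l = μ then 1 else 0) := by
    apply Int.cast_injective (α := ℂ)
    push_cast
    exact hwt
  have hq : ∀ q, (M q : ℤ) = ((M 1 : ℤ) - δ * tri R a b 1) + δ * tri R a b q := fun q => by
    have h := F.inner_sub_tri L (Φ := Φ) (IsChar.classFun hchar) 1 a b
      (fun i hi z => by rw [hval i hi z, Int.cast_one, one_mul]) q 1 (hM q) (hM 1)
    linarith
  refine ⟨(M 1 : ℤ) - δ * tri R a b 1, fun q => by rw [← hq]; exact Int.natCast_nonneg _, ?_⟩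
  have hle := sum_mult_le μ hchar hn Finset.univ Y F.inj.injOn (fun q _ => hμne q) M fun q _ => hM q
  have hle' : ((∑ q, M q : ℕ) : ℤ) ≤ n := by exact_mod_cast hle
  rw [Nat.cast_sum, Finset.sum_congr rfl fun q _ => hq q] at hle'
  simp only [Finset.sum_add_distrib, Finset.sum_const, Finset.card_univ,
    card_classes R ht, nsmul_eq_mul, ← Finset.mul_sum] at hle'
  have htot := tri_total R a b
  zify at htot
  rw [← htot, add_sub_cancel_right]
  split_ifs at hn' ⊢ <;> linarith

theorem squares (hp2 : p ≠ 2) (hneg : (-1 : (ZMod p)ˣ) ∈ R) (a : (ZMod p)ˣ ⧸ R) :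
    ∃ (q₀ : (ZMod p)ˣ ⧸ R) (c σ : ℤ), (σ = 1 ∨ σ = -1) ∧
      ∀ q, (tri R a a q : ℤ) = c + if q = q₀ then σ else 0 := by
  obtain ⟨μ, hμP, hμZ, hμne⟩ := F.exists_weight L hsmall (Z.e_small L hsmall ht ht3)
  obtain ⟨l, hlP, hlZ, hl⟩ := Z.exists_lam L
  obtain ⟨γ, ⟨-, hγ⟩, hS, hA⟩ := Z.wt_sq L hμP hμZ a ht hlP hlZ hl hτ hp2
  obtain ⟨hγ', hne⟩ := hγ hneg
  rw [if_pos hneg] at hS hA
  obtain ⟨σ, hσ, Φ, hΦc, hΦv, hΦw⟩ : ∃ σ : ℤ, (σ = 1 ∨ σ = -1) ∧ ∃ Φ : G → ℂ, IsCharacter G Φ ∧
      (∀ g, Φ g = ((y a : G → ℂ) g * (y a : G → ℂ) g + (σ : ℂ) * (y a : G → ℂ) (g * g)) / 2) ∧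
      wt u μ Φ = 0 := by
    rcases hγ' with h | h
    · refine ⟨-1, Or.inr rfl, _, isChar_altSq (IsIrr.isCharacter (y a).2), fun g => ?_, ?_⟩
      · simp [altSq, sub_eq_add_neg]
      · have h2 : 2 * wt u μ (altSq (y a : G → ℂ)) = 0 := by
          rw [hA, h, Int.cast_one]; ring
        exact (mul_eq_zero.1 h2).resolve_left two_ne_zero
    · refine ⟨1, Or.inl rfl, _, isChar_symSq (IsIrr.isCharacter (y a).2), fun g => ?_, ?_⟩
      · simp [symSq]
      · have h2 : 2 * wt u μ (symSq (y a : G → ℂ)) = 0 := by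
          rw [hS, h, if_neg (hne h)]; push_cast; ring
        exact (mul_eq_zero.1 h2).resolve_left two_ne_zero
  choose M hM using fun q => IsChar.classInner_nat hΦc (IsIrr.isCharacter (Y q).2)
  have hle := sum_mult_le μ hΦc (n := 0) (hΦw.trans Nat.cast_zero.symm) Finset.univ Y F.inj.injOn
    (fun q _ => hμne q) M fun q _ => hM q
  have hM0 : ∀ q, M q = 0 := fun q =>
    (Finset.sum_eq_zero_iff.1 (Nat.le_zero.1 hle)) q (Finset.mem_univ q)
  set q₀ := ((Units.mk0 2 (ne_two hp2) : (ZMod p)ˣ) : (ZMod p)ˣ ⧸ R) * a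
  set f : ZMod p → ℂ := fun i => (cosum R a i * cosum R a i - (σ : ℂ) * cosum R q₀ i) / 2
  have hf : ∀ i : ZMod p, i ≠ 0 → ∀ z : Subgroup.center G,
      Φ (pw u i * (z : G)) = (τ z : ℂ) * f i := by
    intro i hi z
    have hii : i + i ≠ 0 := fun h => mul_ne_zero hi (ne_two hp2) (by linear_combination h)
    rw [hΦv, show pw u i * (z : G) * (pw u i * (z : G)) = pw u (i + i) * ((z * z : Subgroup.center G) : G) by
      rw [← L.pw_add, Subgroup.coe_mul, mul_assoc, ← mul_assoc (z : G),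
        ← Subgroup.mem_center_iff.1 z.2 (pw u i)]
      group, Z.fam.val_center a hi, Z.fam.val_center a hii, map_mul, ← hτ,
      show cosum R a (i + i) = cosum R q₀ i by
        rw [← cosum_smul, Units.val_mk0, mul_two]]
    simp only [f, hτ, Units.val_mul]
    push_cast
    ring
  refine ⟨q₀, (tri R a a q₀ : ℤ) - σ, σ, hσ, fun q => ?_⟩
  have h := F.inner_sub L (IsChar.classFun hΦc) f hf q q₀
  rw [hM, hM, hM0, hM0, sub_self, eq_comm, mul_eq_zero] at h
  have hR : (Nat.card R : ℂ) ≠ 0 := Nat.cast_ne_zero.2 Nat.card_pos.ne'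
  have hp0 : (p : ℂ) ≠ 0 := Nat.cast_ne_zero.2 hp.out.ne_zero
  have hδ : (δ : ℂ) ≠ 0 := by rcases F.sign with h1 | h1 <;> rw [h1] <;> norm_num
  have hs : ∑ i : ZMod p, f i * conj (cosum R q i - cosum R q₀ i) =
      (((p : ℂ) * Nat.card R * tri R a a q - (p : ℂ) * Nat.card R * tri R a a q₀) -
        (σ : ℂ) * ((if q = q₀ then (p : ℂ) * Nat.card R else 0) - (p : ℂ) * Nat.card R)) / 2 := by
    rw [← sum_three, ← sum_three, ← sum_pair q₀ q,
      ← show ∑ i : ZMod p, cosum R q₀ i * conj (cosum R q₀ i) = (p : ℂ) * Nat.card R by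
        rw [sum_pair, if_pos rfl]]
    simp only [f, ← Finset.sum_sub_distrib, Finset.mul_sum, Finset.sum_div]
    exact Finset.sum_congr rfl fun i _ => by rw [map_sub]; ring
  have h' := h.resolve_left (div_ne_zero hδ (mul_ne_zero hR hp0))
  rw [hs, div_eq_zero_iff] at h'
  have h2 := h'.resolve_right two_ne_zero
  apply Int.cast_injective (α := ℂ)
  push_cast
  refine mul_left_cancel₀ (mul_ne_zero hp0 hR) ?_
  split_ifs at h2 ⊢ <;> linear_combination h2

end Zf

namespace Zf

variable {ω : Subgroup.center G →* ℂˣ} {y : (ZMod p)ˣ ⧸ R → IrrCharacter G} (Z : Zf p u R ω y)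
  (L : Sit p u R)
include Z L

/-- With a centre of odd order the sign above the square is negative. -/
theorem exists_square_fam (he : Nat.card R + 1 < p) (hodd : Odd (Nat.card (Subgroup.center G))) :
    ∃ (Y : (ZMod p)ˣ ⧸ R → IrrCharacter G) (τ : Subgroup.center G →* ℂˣ),
      Fam p u R τ Y (-1) ∧ ∀ z, τ z = ω z * ω z := by
  classical
  set c := Nat.card (Subgroup.center G) with hc
  set n := Nat.card G with hn
  have hcop : Nat.Coprime p c := hp.out.coprime_iff_not_dvd.2 L.zreg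
  obtain ⟨k₀, hk1, hk2⟩ := Nat.chineseRemainder hcop 1 2
  have hco : Nat.Coprime k₀ (p * c) := by
    refine Nat.Coprime.mul_right ?_ ?_
    · rw [Nat.coprime_iff_gcd_eq_one, hk1.gcd_eq, Nat.gcd_one_left]
    · rw [Nat.coprime_iff_gcd_eq_one, hk2.gcd_eq]
      exact Nat.coprime_two_left.2 hodd
  have hdvd : p * c ∣ n :=
    hcop.mul_dvd_of_dvd_of_dvd (L.hu ▸ orderOf_dvd_natCard u) (Subgroup.card_subgroup_dvd_card _)
  haveI : NeZero n := ⟨Nat.card_pos.ne'⟩
  haveI : NeZero (p * c) := ⟨mul_ne_zero hp.out.ne_zero Nat.card_pos.ne'⟩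
  obtain ⟨v, hv⟩ := ZMod.unitsMap_surjective hdvd (ZMod.unitOfCoprime k₀ hco)
  set k := (v : ZMod n).val
  have hk : k.Coprime n := ZMod.val_coe_unit_coprime v
  have hmod : k ≡ k₀ [MOD p * c] := by
    rw [← ZMod.natCast_eq_natCast_iff]
    have h := congrArg Units.val hv
    rw [ZMod.unitsMap_val, ZMod.coe_unitOfCoprime] at h
    rw [← h]
    simp only [k, ZMod.natCast_val]
  have hkp : (k : ZMod p) = 1 := by
    rw [← Nat.cast_one, ZMod.natCast_eq_natCast_iff]
    exact ((hmod.of_dvd (dvd_mul_right _ _))).trans hk1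
  have hkc : k ≡ 2 [MOD c] := (hmod.of_dvd (dvd_mul_left _ _)).trans hk2
  let ψ : IrrCharacter G := ⟨_, IsIrr.pow_map (y 1).2 hk⟩
  have hψv : ∀ g, (ψ : G → ℂ) g = (y 1 : G → ℂ) (g ^ k) := fun g => rfl
  have hψpw : ∀ i : ZMod p, i ≠ 0 → (ψ : G → ℂ) (pw u i) = (y 1 : G → ℂ) (pw u i) := fun i _ => by
    rw [hψv, pw_pow L.cardP (Subgroup.mem_zpowers u) L.u_ne, hkp, mul_one]
  have hψ1 : (ψ : G → ℂ) 1 = (y 1 : G → ℂ) 1 := by rw [hψv, one_pow]
  have hψdeg : charDegree (ψ : G → ℂ) = charDegree (y 1 : G → ℂ) :=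
    Nat.cast_injective (R := ℂ) (by rw [← charDeg_spec', ← charDeg_spec', hψ1])
  have hτ : ∀ z, omega ψ z = ω z * ω z := by
    intro z
    apply Units.ext
    have h1 := omega_at_one ψ z
    rw [hψv, hψ1, ← SubmonoidClass.coe_pow, omega_at_one, Z.fam.om, map_pow] at h1
    have h2 : ω z ^ k = ω z * ω z := by
      rw [← pow_two, ← map_pow, ← map_pow]
      congr 1
      exact pow_eq_pow_iff_modEq.2 (hkc.of_dvd (orderOf_dvd_natCard z))
    rw [← h2]
    exact (mul_right_cancel₀ (IsIrr.one_ne_zero (y 1).2) h1).symm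
  obtain ⟨Y, δ, F, hor⟩ := exists_fam L ψ (by
    intro hd
    rw [hψdeg] at hd
    have := Nat.le_of_dvd (charDeg_pos (y 1)) hd
    have := Z.deg 1
    have : 0 < Nat.card R := Nat.card_pos
    omega)
  rcases hor with ⟨q, hq⟩ | ⟨c', hc', hconst⟩
  · have h1 := F.sum_erase q
    rw [hq, Finset.sum_congr rfl fun i hi => hψpw i (Finset.ne_of_mem_erase hi), Z.fam.sum_erase] at h1
    have hδ : δ = -1 := by
      rcases F.sign with h | h
      · exfalso
        rw [h] at h1
        push_cast at h1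
        have : (Nat.card R : ℂ) = 0 := by linear_combination h1 / 2
        exact Nat.card_pos.ne' (Nat.cast_eq_zero.1 this)
      · exact h
    exact ⟨Y, omega ψ, hδ ▸ F, hτ⟩
  · exact absurd (fun i hi => by rw [← hψpw i hi]; exact hconst i hi) (Z.fam.not_const he 1 hc')

/-- No exceptional characters of degree `p - e` when the centre is of odd order. -/
theorem no_odd_center
    (hsmall : ∀ φ : IrrCharacter G, (φ : G → ℂ) u ≠ (φ : G → ℂ) 1 →
      p ≤ 2 * charDegree (φ : G → ℂ) + 1)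
    {t : ℕ} (ht : Nat.card R * t + 1 = p) (ht3 : 3 ≤ t) (he : 3 ≤ Nat.card R)
    (hodd : Odd (Nat.card (Subgroup.center G))) : False := by
  classical
  letI : Fintype ((ZMod p)ˣ ⧸ R) := Fintype.ofFinite _
  have hp2 : p ≠ 2 := by
    have := Nat.mul_le_mul he ht3
    omega
  have he' := Z.e_small L hsmall ht ht3
  obtain ⟨Y, τ, F, hτ⟩ := Z.exists_square_fam L (by omega) hodd
  obtain ⟨δ, K, hP⟩ := Z.exists_pbound L hsmall ht ht3
  have hjr : Nat.card R = t * (Nat.card R / t) + Nat.card R % t := (Nat.div_add_mod _ _).symm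
  have hr : Nat.card R % t < t := Nat.mod_lt _ (by omega)
  by_cases hneg : (-1 : (ZMod p)ˣ) ∈ R
  · exact no_even R ht ht3 he hjr hr hp2 hneg hP
      fun a => Z.squares L hsmall ht ht3 F hτ hp2 hneg a
  · have h := (odd_sign R ht ht3 he hjr hr hp2 hneg hP (Z.qbound L hsmall ht ht3 F hτ)).2
    norm_num at h

end Zf

end Cfsg.Agent.Block.SmallFaith
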