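import Mathlib
import Cfsg.Agent.Lib.Block.SmallFaith.Cyclo

/-!
Not all cyclotomic numbers reach the average rounded down when the remainder is small: the curve
`(y ^ e, (1 - y) ^ e)` would lie in the `j`-th power of the ideal of the grid, against the
independence of the monomials `y ^ (e k + u) (1 - y) ^ (e l)`.
-/

set_option autoImplicit false
set_option linter.unusedSectionVars false
set_option maxHeartbeats 800000

namespace Cfsg.Agent.Block.SmallFaith

open Finset Polynomial

variable {p : ℕ} [hp : Fact p.Prime]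

/-- A polynomial of small degree with few terms has no root of high multiplicity at `1`. -/
theorem sparse_not_dvd (s : ℕ) :
    ∀ f : (ZMod p)[X], f ≠ 0 → f.natDegree < p → f.support.card ≤ s → ¬ (X - C 1) ^ s ∣ f := by
  induction s with
  | zero =>
    intro f hf _ hc
    exact absurd (card_eq_zero.1 (Nat.le_zero.1 hc)) (fun h => hf (support_eq_empty.1 h))
  | succ s ih =>
    intro f hf hdeg hc hdvd
    set m := f.natTrailingDegree
    obtain ⟨g, hg⟩ : X ^ m ∣ f :=
      Polynomial.X_pow_dvd_iff.2 fun d hd => coeff_eq_zero_of_lt_natTrailingDegree hd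
    have hgc : ∀ d, g.coeff d = f.coeff (d + m) := fun d => by rw [hg, coeff_X_pow_mul]
    have hg0 : g.coeff 0 ≠ 0 := by
      rw [hgc, zero_add]
      exact mem_support_iff.1 (natTrailingDegree_mem_support_of_nonzero hf)
    have hgne : g ≠ 0 := fun h => hg0 (by rw [h, coeff_zero])
    have hgdeg : g.natDegree < p := by
      have h := natDegree_mul (pow_ne_zero m X_ne_zero) hgne
      rw [← hg] at h
      omega
    have hcop : IsCoprime ((X - C 1 : (ZMod p)[X]) ^ (s + 1)) (X ^ m) := by
      refine IsCoprime.pow ?_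
      exact ⟨-1, 1, by simp⟩
    have hdg : (X - C 1) ^ (s + 1) ∣ g := hcop.dvd_of_dvd_mul_left (hg ▸ hdvd)
    have hd' : (X - C 1) ^ s ∣ derivative g := by
      obtain ⟨q, rfl⟩ := hdg
      rw [derivative_mul, derivative_pow_succ, derivative_X_sub_C, mul_one, pow_succ]
      exact dvd_add (dvd_mul_of_dvd_left (dvd_mul_left _ _) _)
        (dvd_mul_of_dvd_left (dvd_mul_right _ _) _)
    have hsupp : (derivative g).support.card ≤ s := by
      have hsub : (derivative g).support.map ⟨fun d => d + 1, fun _ _ h => by simpa using h⟩ ⊆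
          g.support.erase 0 := by
        intro d hd
        obtain ⟨k, hk, rfl⟩ := Finset.mem_map.1 hd
        rw [mem_support_iff, coeff_derivative] at hk
        exact mem_erase.2 ⟨Nat.succ_ne_zero k, mem_support_iff.2 (left_ne_zero_of_mul hk)⟩
      have h1 := card_le_card hsub
      rw [Finset.card_map, card_erase_of_mem (mem_support_iff.2 hg0)] at h1
      have h2 : g.support.card ≤ f.support.card := by
        refine card_le_card_of_injOn (fun d => d + m) (fun d hd => ?_) fun _ _ _ _ h => by simpa using h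
        rw [mem_coe, mem_support_iff, ← hgc]
        exact mem_support_iff.1 hd
      omega
    by_cases hd0 : derivative g = 0
    · have hconst : g.natDegree = 0 := by
        by_contra hne
        have h := congrArg (fun q => coeff q (g.natDegree - 1)) hd0
        simp only [coeff_derivative, coeff_zero] at h
        rw [show g.natDegree - 1 + 1 = g.natDegree by omega] at h
        rcases mul_eq_zero.1 h with h | h
        · exact leadingCoeff_ne_zero.2 hgne h
        · rw [← Nat.cast_succ, ZMod.natCast_eq_zero_iff] at h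
          have := Nat.le_of_dvd (Nat.succ_pos _) h
          omega
      have h := natDegree_le_of_dvd hdg hgne
      rw [natDegree_pow, natDegree_X_sub_C, hconst] at h
      omega
    · exact ih _ hd0 (lt_of_le_of_lt (natDegree_derivative_le g) (by omega)) hsupp hd'

/-- The independence of `y ^ (e k + u) (1 - y) ^ (e l)` for `k, l ≤ r` and `u ≤ j`. -/
theorem indep_lacunary {e j r : ℕ} (hje : j < e) (hcard : (r + 1) * (j + 1) ≤ e)
    (hdeg : e * r + j < p) (q : ℕ → ℕ → (ZMod p)[X]) (hq : ∀ k l, (q k l).natDegree ≤ j)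
    (h : ∑ k ∈ range (r + 1), ∑ l ∈ range (r + 1), q k l * X ^ (e * k) * (1 - X) ^ (e * l) = 0) :
    ∀ k ∈ range (r + 1), ∀ l ∈ range (r + 1), q k l = 0 := by
  classical
  set T : ℕ → (ZMod p)[X] := fun l => ∑ k ∈ range (r + 1), q k l * X ^ (e * k) with hT
  have hTc : ∀ l, ∀ k ∈ range (r + 1), ∀ u, u ≤ j → (T l).coeff (e * k + u) = (q k l).coeff u := by
    intro l k hk u hu
    simp only [hT, finsetSum_coeff, coeff_mul_X_pow']
    rw [sum_eq_single_of_mem k hk fun k' _ hne => ?_, if_pos (Nat.le_add_right _ _),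
      Nat.add_sub_cancel_left]
    split_ifs with hle
    · refine coeff_eq_zero_of_natDegree_lt (lt_of_le_of_lt (hq _ _) ?_)
      rcases lt_or_gt_of_ne hne with hlt | hgt
      · have h1 : e * (k' + 1) ≤ e * k := Nat.mul_le_mul_left e hlt
        rw [mul_add, mul_one] at h1
        omega
      · have h1 : e * (k + 1) ≤ e * k' := Nat.mul_le_mul_left e hgt
        rw [mul_add, mul_one] at h1
        omega
    · rfl
  have hTs : ∀ l, (T l).support ⊆ (range (r + 1) ×ˢ range (j + 1)).image fun x => e * x.1 + x.2 := by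
    intro l n hn
    rw [mem_support_iff] at hn
    simp only [hT, finsetSum_coeff, coeff_mul_X_pow'] at hn
    obtain ⟨k, hk, hne⟩ := exists_ne_zero_of_sum_ne_zero hn
    split_ifs at hne with hle
    · refine mem_image.2 ⟨(k, n - e * k), mem_product.2 ⟨hk, mem_range.2 ?_⟩, by simp only; omega⟩
      exact Nat.lt_succ_of_le ((le_natDegree_of_ne_zero hne).trans (hq _ _))
    · exact absurd rfl hne
  by_contra hno
  push Not at hno
  obtain ⟨k, hk, l, hl, hkl⟩ := hno
  have hex : ∃ l, l ∈ range (r + 1) ∧ T l ≠ 0 := ⟨l, hl, fun hT0 => hkl (Polynomial.ext fun u => by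
    rw [coeff_zero]
    by_cases hu : u ≤ j
    · rw [← hTc l k hk u hu, hT0, coeff_zero]
    · exact coeff_eq_zero_of_natDegree_lt (lt_of_le_of_lt (hq _ _) (by omega)))⟩
  set l₀ := Nat.find hex
  obtain ⟨hl₀, hne⟩ := Nat.find_spec hex
  have hmin : ∀ l ∈ range (r + 1), l < l₀ → T l = 0 := fun l hl hlt => by
    by_contra h'
    exact Nat.find_min hex hlt ⟨hl, h'⟩
  rw [sum_comm] at h
  simp only [← sum_mul] at h
  change ∑ l ∈ range (r + 1), T l * (1 - X) ^ (e * l) = 0 at h
  rw [← add_sum_erase _ _ hl₀] at h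
  have hdvd : (1 - X : (ZMod p)[X]) ^ (e * l₀) * (1 - X) ^ e ∣ (1 - X) ^ (e * l₀) * T l₀ := by
    rw [mul_comm _ (T l₀), eq_neg_of_add_eq_zero_left h, ← pow_add, dvd_neg]
    refine dvd_sum fun l hl => ?_
    obtain ⟨hne', hl'⟩ := mem_erase.1 hl
    rcases lt_or_gt_of_ne hne' with hlt | hgt
    · rw [hmin l hl' hlt, zero_mul]
      exact dvd_zero _
    · refine dvd_mul_of_dvd_right (pow_dvd_pow _ ?_) _
      calc e * l₀ + e = e * (l₀ + 1) := by ring
        _ ≤ e * l := Nat.mul_le_mul_left e hgt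
  have h1X : (1 - X : (ZMod p)[X]) ≠ 0 := fun e0 => by simpa using congrArg (fun q => coeff q 0) e0
  have hd := (mul_dvd_mul_iff_left (pow_ne_zero _ h1X)).1 hdvd
  refine sparse_not_dvd e (T l₀) hne ?_ ?_ ?_
  · obtain ⟨⟨a, b⟩, hab, hn⟩ := mem_image.1 (hTs l₀ (natDegree_mem_support_of_nonzero hne))
    obtain ⟨ha, hb⟩ := mem_product.1 hab
    have h1 := Nat.mul_le_mul_left e (Nat.lt_succ_iff.1 (mem_range.1 ha))
    have h2 := mem_range.1 hb
    simp only at hn h1
    omega
  · refine (card_le_card (hTs l₀)).trans (card_image_le.trans ?_)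
    rw [card_product, card_range, card_range]
    exact hcard
  · refine (pow_dvd_pow_of_dvd ?_ e).trans hd
    exact ⟨-1, by simp⟩

variable (R : Subgroup (ZMod p)ˣ)

/-- The subgroup is the group of the roots of unity of its order. -/
theorem mem_iff_pow (w : (ZMod p)ˣ) : w ∈ R ↔ ((w : ZMod p)) ^ Nat.card R = 1 := by
  classical
  refine ⟨fun h => ?_, fun h => ?_⟩
  · have h1 := congrArg Subtype.val (pow_card_eq_one' (G := R) (x := ⟨w, h⟩))
    rw [SubmonoidClass.coe_pow] at h1
    rw [← Units.val_pow_eq_pow_val, h1]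
    rfl
  · by_contra hw
    set RR : Finset (ZMod p) := (univ : Finset R).map ⟨fun v : R => ((v : (ZMod p)ˣ) : ZMod p),
      fun a b h => Subtype.ext (Units.ext h)⟩ with hRR
    have hsub : insert (w : ZMod p) RR ⊆ (nthRoots (Nat.card R) (1 : ZMod p)).toFinset := by
      intro z hz
      rw [Multiset.mem_toFinset, mem_nthRoots Nat.card_pos]
      rcases mem_insert.1 hz with rfl | hz
      · exact h
      · obtain ⟨v, -, rfl⟩ := Finset.mem_map.1 hz
        have h1 := congrArg Subtype.val (pow_card_eq_one' (G := R) (x := v))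
        rw [SubmonoidClass.coe_pow] at h1
        show ((v : (ZMod p)ˣ) : ZMod p) ^ Nat.card R = 1
        rw [← Units.val_pow_eq_pow_val, h1]
        rfl
    have h1 := (card_le_card hsub).trans ((Multiset.toFinset_card_le _).trans (card_nthRoots _ 1))
    rw [card_insert_of_notMem, hRR, Finset.card_map, card_univ, ← Nat.card_eq_fintype_card] at h1
    · omega
    · intro hm
      obtain ⟨v, -, hv⟩ := Finset.mem_map.1 hm
      exact hw (Units.ext hv ▸ v.2)

theorem class_iff_pow (x y : (ZMod p)ˣ) :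
    (x : (ZMod p)ˣ ⧸ R) = y ↔ (x : ZMod p) ^ Nat.card R = (y : ZMod p) ^ Nat.card R := by
  have hx : ((x⁻¹ : (ZMod p)ˣ) : ZMod p) ^ Nat.card R * (x : ZMod p) ^ Nat.card R = 1 := by
    rw [← mul_pow, Units.inv_mul, one_pow]
  rw [QuotientGroup.eq, mem_iff_pow, Units.val_mul, mul_pow]
  refine ⟨fun h => ?_, fun h => ?_⟩
  · linear_combination (-((x : ZMod p) ^ Nat.card R)) * h + (y : ZMod p) ^ Nat.card R * hx
  · rw [← h, hx]

/-- The powers of the exponent `|R|`. -/
noncomputable def grid : Finset (ZMod p) :=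
  (univ : Finset (ZMod p)ˣ).image fun x : (ZMod p)ˣ => (x : ZMod p) ^ Nat.card R

theorem mem_grid {z : ZMod p} : z ∈ grid R ↔ ∃ x : (ZMod p)ˣ, (x : ZMod p) ^ Nat.card R = z := by
  simp [grid]

theorem card_grid {t : ℕ} (ht : Nat.card R * t + 1 = p) : (grid R).card = t := by
  classical
  let : Fintype ((ZMod p)ˣ ⧸ R) := Fintype.ofFinite _
  have h := R.card_eq_card_quotient_mul_card_subgroup
  rw [Nat.card_eq_fintype_card, ZMod.card_units, Nat.card_eq_fintype_card
    (α := (ZMod p)ˣ ⧸ R)] at h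
  have h' : Fintype.card ((ZMod p)ˣ ⧸ R) * Nat.card R = t * Nat.card R := by
    rw [← h, mul_comm t]; omega
  rw [← Nat.eq_of_mul_eq_mul_right Nat.card_pos h', ← card_univ]
  symm
  refine card_bij (fun (c : (ZMod p)ˣ ⧸ R) _ => ((c.out : (ZMod p)ˣ) : ZMod p) ^ Nat.card R)
    (fun c _ => (mem_grid R).2 ⟨_, rfl⟩) (fun c _ c' _ h => ?_) fun z hz => ?_
  · have h2 := (class_iff_pow R _ _).2 h
    rwa [QuotientGroup.out_eq', QuotientGroup.out_eq'] at h2
  · obtain ⟨x, rfl⟩ := (mem_grid R).1 hz
    exact ⟨x, mem_univ _, (class_iff_pow R _ _).1 (QuotientGroup.out_eq' _)⟩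

theorem prod_grid {t : ℕ} (ht : Nat.card R * t + 1 = p) (htp : t ≠ 0) (z : (ZMod p)[X]) :
    ∏ s ∈ grid R, (z - C s) = z ^ t - 1 := by
  have hmon := monic_X_pow_sub_C (1 : ZMod p) htp
  have hdeg : (X ^ t - C (1 : ZMod p)).natDegree = t := natDegree_X_pow_sub_C
  have hle : (grid R).val ≤ (X ^ t - C (1 : ZMod p)).roots := by
    refine Finset.val_le_iff_val_subset.2 fun s hs => ?_
    rw [mem_roots hmon.ne_zero, IsRoot, eval_sub, eval_pow, eval_X, eval_C, sub_eq_zero]
    obtain ⟨x, rfl⟩ := (mem_grid R).1 hs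
    rw [← pow_mul, show Nat.card R * t = p - 1 by omega]
    exact ZMod.pow_card_sub_one_eq_one x.ne_zero
  have heq := Multiset.eq_of_le_of_card_le hle
    ((card_roots' _).trans (hdeg.le.trans (card_grid R ht).ge))
  have h := prod_multiset_X_sub_C_of_monic_of_roots_card_eq hmon
    (by rw [← heq, hdeg]; exact card_grid R ht)
  rw [← heq, ← Finset.prod_eq_multiset_prod, map_one] at h
  have h2 := congrArg (Polynomial.aeval z) h
  simpa [map_prod, aeval_C] using h2

/-- The equation of the grid in one variable. -/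
noncomputable def gridPoly (i : Fin 2) : MvPolynomial (Fin 2) (ZMod p) :=
  ∏ s ∈ grid R, (MvPolynomial.X i - MvPolynomial.C s)

theorem aeval_gridPoly {t : ℕ} (ht : Nat.card R * t + 1 = p) (htp : t ≠ 0)
    (f : Fin 2 → (ZMod p)[X]) (i : Fin 2) :
    MvPolynomial.aeval f (gridPoly R i) = f i ^ t - 1 := by
  simp only [gridPoly, map_prod, map_sub, MvPolynomial.aeval_X, MvPolynomial.aeval_C,
    Polynomial.algebraMap_eq]
  exact prod_grid R ht htp _

theorem X_sub_C_ne (i : Fin 2) (s : ZMod p) :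
    (MvPolynomial.X i - MvPolynomial.C s : MvPolynomial (Fin 2) (ZMod p)) ≠ 0 := fun h => by
  simpa using congrArg (MvPolynomial.eval fun _ => s + 1) h

theorem totalDegree_prod_X_sub_C (i : Fin 2) (M : Finset (ZMod p)) :
    (∏ s ∈ M, (MvPolynomial.X i - MvPolynomial.C s :
      MvPolynomial (Fin 2) (ZMod p))).totalDegree = M.card := by
  classical
  induction M using Finset.induction_on with
  | empty => simp
  | insert a M ha ih =>
    have h1 : (MvPolynomial.X i - MvPolynomial.C a : MvPolynomial (Fin 2) (ZMod p)).totalDegree = 1 := by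
      refine le_antisymm ((MvPolynomial.totalDegree_sub _ _).trans
        (max_le (MvPolynomial.totalDegree_X _).le (by rw [MvPolynomial.totalDegree_C]; omega))) ?_
      refine le_trans (le_of_eq ?_) (MvPolynomial.le_totalDegree (s := Finsupp.single i 1) ?_)
      · rw [Finsupp.sum_single_index rfl]
      · rw [MvPolynomial.mem_support_iff, MvPolynomial.coeff_sub, MvPolynomial.coeff_X,
          MvPolynomial.coeff_C, if_neg (Finsupp.single_ne_zero.2 one_ne_zero).symm]
        simp
    rw [prod_insert ha, card_insert_of_notMem ha, MvPolynomial.totalDegree_mul_of_isDomain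
      (X_sub_C_ne i a) (prod_ne_zero_iff.2 fun s _ => X_sub_C_ne i s), h1, ih, add_comm]

/-- The substitution of a line through a point above the grid. -/
theorem gridPoly_line {t : ℕ} (ht : Nat.card R * t + 1 = p) (htp : t ≠ 0) (α : (ZMod p)ˣ)
    (u : ZMod p) (i : Fin 2) (f : Fin 2 → (ZMod p)[X])
    (hf : f i = (C (α : ZMod p) + C u * X) ^ Nat.card R) :
    ∃ a : (ZMod p)[X], MvPolynomial.aeval f (gridPoly R i) = X * a ∧
      (α : ZMod p) * a.coeff 0 = -u := by
  have h1 : MvPolynomial.aeval f (gridPoly R i) = (C (α : ZMod p) + C u * X) ^ (p - 1) - 1 := by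
    rw [aeval_gridPoly R ht htp, hf, ← pow_mul, show Nat.card R * t = p - 1 by omega]
  set z := (C (α : ZMod p) + C u * X) ^ (p - 1) - 1 with hz
  have hα := ZMod.pow_card_sub_one_eq_one (p := p) α.ne_zero
  obtain ⟨a, ha⟩ : X ∣ z := by
    rw [X_dvd_iff, coeff_zero_eq_eval_zero]
    simp [hz, hα]
  refine ⟨a, h1.trans ha, ?_⟩
  have h2 : a.coeff 0 = z.coeff (0 + 1) := by rw [ha, coeff_X_mul]
  have h3 : z.coeff (0 + 1) = (derivative z).coeff 0 := by rw [coeff_derivative]; simp
  rw [h2, h3, coeff_zero_eq_eval_zero]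
  simp only [hz, derivative_sub, derivative_one, sub_zero, derivative_pow, derivative_add,
    derivative_C, derivative_mul, derivative_X, zero_mul, zero_add, mul_one, eval_mul, eval_C,
    eval_pow, eval_add, eval_X, mul_zero, add_zero]
  have h4 : (((p - 1 : ℕ) : ZMod p)) = -1 := by
    rw [Nat.cast_sub hp.out.one_le, ZMod.natCast_self, Nat.cast_one, zero_sub]
  have h5 : (α : ZMod p) * (α : ZMod p) ^ (p - 1 - 1) = 1 := by
    rw [← pow_succ', Nat.sub_add_cancel (by have := hp.out.two_le; omega), hα]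
  rw [h4]
  linear_combination (-u) * h5

/-- A polynomial invariant under the scaling of a variable has its exponents divisible. -/
theorem dvd_of_invariant {H : MvPolynomial (Fin 2) (ZMod p)} (g : (ZMod p)ˣ) (i : Fin 2)
    (h : MvPolynomial.aeval (fun n : Fin 2 => if n = i then
        MvPolynomial.C (g : ZMod p) * MvPolynomial.X n else MvPolynomial.X n) H = H)
    {d : Fin 2 →₀ ℕ} (hd : d ∈ H.support) : orderOf g ∣ d i := by
  classical
  have hc : ∀ P : MvPolynomial (Fin 2) (ZMod p), MvPolynomial.coeff d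
      (MvPolynomial.aeval (fun n : Fin 2 => if n = i then
        MvPolynomial.C (g : ZMod p) * MvPolynomial.X n else MvPolynomial.X n) P) =
      (g : ZMod p) ^ (d i) * MvPolynomial.coeff d P := by
    intro P
    induction P using MvPolynomial.induction_on' with
    | monomial u c =>
      have h1 : MvPolynomial.aeval (fun n : Fin 2 => if n = i then
          MvPolynomial.C (g : ZMod p) * MvPolynomial.X n else MvPolynomial.X n)
          (MvPolynomial.monomial u c) =
          MvPolynomial.monomial u ((g : ZMod p) ^ (u i) * c) := by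
        rw [MvPolynomial.aeval_monomial, MvPolynomial.algebraMap_eq, MvPolynomial.monomial_eq,
          MvPolynomial.C_mul, Finsupp.prod_fintype _ _ (fun _ => pow_zero _),
          Finsupp.prod_fintype _ _ (fun _ => pow_zero _), Fin.prod_univ_two, Fin.prod_univ_two,
          MvPolynomial.C_pow]
        revert i
        refine Fin.forall_fin_two.2 ⟨?_, ?_⟩ <;>
          · intro _
            simp [mul_pow]
            ring
      rw [h1, MvPolynomial.coeff_monomial, MvPolynomial.coeff_monomial]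
      split_ifs with h' <;> simp [h']
    | add a b ha hb =>
      rw [map_add, MvPolynomial.coeff_add, ha, hb, MvPolynomial.coeff_add, mul_add]
  have h1 := hc H
  rw [h] at h1
  have h2 : (g : ZMod p) ^ (d i) = 1 :=
    mul_right_cancel₀ (MvPolynomial.mem_support_iff.1 hd) (h1.symm.trans (one_mul _).symm)
  rw [orderOf_dvd_iff_pow_eq_one]
  exact Units.ext (by rw [Units.val_pow_eq_pow_val, h2, Units.val_one])

/-- The descent along the power `e`. -/
theorem exists_descent {e : ℕ} (he : 0 < e) {H : MvPolynomial (Fin 2) (ZMod p)}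
    (hH : ∀ d ∈ H.support, ∀ i, e ∣ d i) :
    ∃ G : MvPolynomial (Fin 2) (ZMod p), G.totalDegree ≤ H.totalDegree / e ∧
      ∀ x y : (ZMod p)[X],
        MvPolynomial.aeval ![x ^ e, y ^ e] G = MvPolynomial.aeval ![x, y] H := by
  refine ⟨∑ d ∈ H.support, MvPolynomial.C (MvPolynomial.coeff d H) *
    (MvPolynomial.X 0 ^ (d 0 / e) * MvPolynomial.X 1 ^ (d 1 / e)),
    MvPolynomial.totalDegree_finsetSum_le fun d hd => ?_, fun x y => ?_⟩
  · refine (MvPolynomial.totalDegree_mul _ _).trans ?_
    rw [MvPolynomial.totalDegree_C, zero_add]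
    refine (MvPolynomial.totalDegree_mul _ _).trans ?_
    rw [MvPolynomial.totalDegree_X_pow, MvPolynomial.totalDegree_X_pow, Nat.le_div_iff_mul_le he,
      add_mul, Nat.div_mul_cancel (hH d hd 0), Nat.div_mul_cancel (hH d hd 1)]
    have h := MvPolynomial.le_totalDegree hd
    rwa [Finsupp.sum_fintype _ _ (fun _ => rfl), Fin.sum_univ_two] at h
  · conv_rhs => rw [H.as_sum]
    rw [map_sum, map_sum]
    refine sum_congr rfl fun d hd => ?_
    rw [MvPolynomial.aeval_monomial, Finsupp.prod_fintype _ _ (fun _ => pow_zero _),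
      Fin.prod_univ_two, map_mul, map_mul, map_pow, map_pow, MvPolynomial.aeval_C,
      MvPolynomial.aeval_X, MvPolynomial.aeval_X]
    simp only [Matrix.cons_val_zero, Matrix.cons_val_one, ← pow_mul,
      Nat.mul_div_cancel' (hH d hd 0), Nat.mul_div_cancel' (hH d hd 1)]

/-- The descended norm of the curve `(y, 1 - y)`. -/
theorem exists_curve_poly {j : ℕ} (hall : ∀ a b, j ≤ N2 R a b) :
    ∃ G : MvPolynomial (Fin 2) (ZMod p), G ≠ 0 ∧ G.totalDegree ≤ Nat.card R ∧
      MvPolynomial.aeval ![(X : (ZMod p)[X]) ^ Nat.card R, (1 - X) ^ Nat.card R] G = 0 ∧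
      ∀ (α β : (ZMod p)ˣ) (u v : ZMod p), X ^ j ∣ MvPolynomial.aeval
        ![(C (α : ZMod p) + C u * X) ^ Nat.card R,
          (C (β : ZMod p) + C v * X) ^ Nat.card R] G := by
  classical
  set e := Nat.card R with he
  have hepos : 0 < e := Nat.card_pos
  set H : MvPolynomial (Fin 2) (ZMod p) := ∏ w : R, (MvPolynomial.X 1 ^ e -
    (1 - MvPolynomial.C ((w : (ZMod p)ˣ) : ZMod p) * MvPolynomial.X 0) ^ e) with hH
  have hHdeg : H.totalDegree ≤ e * e := by
    refine (MvPolynomial.totalDegree_finsetProd _ _).trans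
      ((sum_le_sum (g := fun _ => e) fun w _ => ?_).trans ?_)
    · refine (MvPolynomial.totalDegree_sub _ _).trans (max_le ?_ ?_)
      · exact (MvPolynomial.totalDegree_pow _ _).trans (by rw [MvPolynomial.totalDegree_X, mul_one])
      · refine (MvPolynomial.totalDegree_pow _ _).trans ?_
        refine (Nat.mul_le_mul_left e ((MvPolynomial.totalDegree_sub _ _).trans (max_le ?_ ?_))).trans
          (mul_one e).le
        · simp
        · refine (MvPolynomial.totalDegree_mul _ _).trans ?_
          simp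
    · rw [sum_const, card_univ, smul_eq_mul, he, Nat.card_eq_fintype_card]
  have hinv : ∀ (v : R) (i : Fin 2),
      MvPolynomial.aeval (fun n : Fin 2 => if n = i then
        MvPolynomial.C ((v : (ZMod p)ˣ) : ZMod p) * MvPolynomial.X n else MvPolynomial.X n) H = H := by
    intro v i
    have hv : ((v : (ZMod p)ˣ) : ZMod p) ^ e = 1 := (mem_iff_pow R _).1 v.2
    rw [hH, map_prod]
    revert i
    refine Fin.forall_fin_two.2 ⟨?_, ?_⟩
    · refine Fintype.prod_equiv (Equiv.mulRight v) _ _ fun w => ?_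
      simp [mul_assoc]
    · refine prod_congr rfl fun w _ => ?_
      simp [mul_pow, ← MvPolynomial.C_pow, hv]
  obtain ⟨g, hg⟩ := IsCyclic.exists_generator (α := R)
  have hgo : orderOf (g : (ZMod p)ˣ) = e := by
    rw [Subgroup.orderOf_coe, he, ← orderOf_eq_card_of_forall_mem_zpowers hg]
  obtain ⟨G, hGdeg, hGH⟩ := exists_descent hepos fun d hd i =>
    hgo ▸ dvd_of_invariant (g : (ZMod p)ˣ) i (hinv g i) hd
  refine ⟨G, fun h0 => ?_, hGdeg.trans (Nat.div_le_of_le_mul hHdeg), ?_, fun α β u v => ?_⟩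
  · have h := hGH 0 X
    rw [h0, map_zero, hH, map_prod, eq_comm, prod_eq_zero_iff] at h
    obtain ⟨w, -, hw⟩ := h
    simp at hw
    have h' := congrArg (fun q => coeff q e) hw
    simp [coeff_one, hepos.ne'] at h'
  · rw [hGH, hH, map_prod]
    exact prod_eq_zero (mem_univ (1 : R)) (by simp)
  · rw [hGH, hH, map_prod]
    set N := univ.filter fun w : R => (β : ZMod p) ^ e = (1 - ((w : (ZMod p)ˣ) : ZMod p) * α) ^ e
      with hNdef
    have hN : N2 R (α : (ZMod p)ˣ ⧸ R) β ≤ N.card := by
      rw [N2]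
      refine card_le_card_of_injOn (fun x => if h : x.1 * α⁻¹ ∈ R then ⟨x.1 * α⁻¹, h⟩ else 1) ?_ ?_
      · intro x hx
        obtain ⟨⟨h1, h2⟩, h3⟩ := (mem_filter.1 hx).2
        have hm : x.1 * α⁻¹ ∈ R := by
          rw [mul_comm]
          exact QuotientGroup.eq.1 h1.symm
        simp only [dif_pos hm, mem_coe, hNdef, mem_filter, mem_univ, true_and]
        rw [Units.val_mul, mul_assoc, Units.inv_mul, mul_one, ← h3, add_sub_cancel_left]
        exact (class_iff_pow R _ _).1 h2.symm
      · intro x hx x' hx' hxx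
        obtain ⟨⟨h1, -⟩, h3⟩ := (mem_filter.1 hx).2
        obtain ⟨⟨h1', -⟩, h3'⟩ := (mem_filter.1 hx').2
        have hm : x.1 * α⁻¹ ∈ R := by rw [mul_comm]; exact QuotientGroup.eq.1 h1.symm
        have hm' : x'.1 * α⁻¹ ∈ R := by rw [mul_comm]; exact QuotientGroup.eq.1 h1'.symm
        simp only [dif_pos hm, dif_pos hm', Subtype.mk.injEq, mul_left_inj] at hxx
        refine Prod.ext hxx (Units.ext ?_)
        rw [hxx, ← h3'] at h3
        exact add_left_cancel h3
    refine (pow_dvd_pow X ((hall _ _).trans hN)).trans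
      ((dvd_of_eq (prod_const (X : (ZMod p)[X])).symm).trans
        ((prod_dvd_prod_of_dvd _ _ fun w hw => ?_).trans
          (prod_dvd_prod_of_subset _ _ _ (subset_univ N))))
    rw [X_dvd_iff, coeff_zero_eq_eval_zero]
    have hw' := (mem_filter.1 hw).2
    simp [eval_pow, hw']

theorem eval_zero_aeval (f : Fin 2 → (ZMod p)[X]) (P : MvPolynomial (Fin 2) (ZMod p)) :
    (MvPolynomial.aeval f P).eval 0 = MvPolynomial.eval (fun k => (f k).eval 0) P := by
  induction P using MvPolynomial.induction_on with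
  | C c => simp
  | add f g hf hg => simp [hf, hg]
  | mul_X f n hn => simp [hn]

/-- The coefficients of an expansion along a line vanishing to high order vanish on the grid. -/
theorem grid_step {t m : ℕ} (ht : Nat.card R * t + 1 = p) (htp : t ≠ 0) (hmp : m < p)
    {G : MvPolynomial (Fin 2) (ZMod p)} {Φ : ℕ → MvPolynomial (Fin 2) (ZMod p)}
    (hΦ : G = ∑ i ∈ range (m + 1), Φ i * gridPoly R 0 ^ i * gridPoly R 1 ^ (m - i))
    (hline : ∀ (α β : (ZMod p)ˣ) (u v : ZMod p), X ^ (m + 1) ∣ MvPolynomial.aeval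
      ![(C (α : ZMod p) + C u * X) ^ Nat.card R, (C (β : ZMod p) + C v * X) ^ Nat.card R] G)
    {i : ℕ} (hi : i ∈ range (m + 1)) {x : Fin 2 → ZMod p} (hx : ∀ k, x k ∈ grid R) :
    MvPolynomial.eval x (Φ i) = 0 := by
  obtain ⟨α, hα⟩ := (mem_grid R).1 (hx 0)
  obtain ⟨β, hβ⟩ := (mem_grid R).1 (hx 1)
  have key : ∀ s : ZMod p, ∑ i ∈ range (m + 1), MvPolynomial.eval x (Φ i) * s ^ i = 0 := by
    intro s
    set u : ZMod p := -((α : ZMod p) * s) with hu
    set v : ZMod p := -(β : ZMod p) with hv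
    set f : Fin 2 → (ZMod p)[X] :=
      ![(C (α : ZMod p) + C u * X) ^ Nat.card R, (C (β : ZMod p) + C v * X) ^ Nat.card R] with hf
    obtain ⟨a₀, ha₀, ha₀'⟩ := gridPoly_line R ht htp α u 0 f rfl
    obtain ⟨a₁, ha₁, ha₁'⟩ := gridPoly_line R ht htp β v 1 f rfl
    have ha₀'' : a₀.coeff 0 = s := mul_left_cancel₀ α.ne_zero (by rw [ha₀', hu]; ring)
    have ha₁'' : a₁.coeff 0 = 1 := mul_left_cancel₀ β.ne_zero (by rw [ha₁', hv]; ring)
    have h := hline α β u v
    rw [← hf, hΦ] at h
    simp only [map_sum, map_mul, map_pow, ha₀, ha₁] at h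
    rw [sum_congr rfl (g := fun i => X ^ m *
      (MvPolynomial.aeval f (Φ i) * a₀ ^ i * a₁ ^ (m - i))) fun i hi => by
        obtain ⟨k, rfl⟩ : ∃ k, m = i + k := ⟨m - i, by have := mem_range.1 hi; omega⟩
        rw [Nat.add_sub_cancel_left]
        ring, ← mul_sum, pow_succ] at h
    have h' := (mul_dvd_mul_iff_left (pow_ne_zero m X_ne_zero)).1 h
    rw [X_dvd_iff, coeff_zero_eq_eval_zero, eval_finsetSum] at h'
    simp only [eval_mul, eval_pow, ← coeff_zero_eq_eval_zero, ha₀'', ha₁'', one_pow, mul_one] at h'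
    refine Eq.trans (sum_congr rfl fun i _ => ?_) h'
    rw [coeff_zero_eq_eval_zero, eval_zero_aeval]
    congr 3
    funext k
    revert k
    refine Fin.forall_fin_two.2 ⟨?_, ?_⟩ <;> simp [hf, hα, hβ]
  set Q : (ZMod p)[X] := ∑ i ∈ range (m + 1), C (MvPolynomial.eval x (Φ i)) * X ^ i with hQdef
  have hQ : Q = 0 := by
    refine eq_zero_of_natDegree_lt_card_of_eval_eq_zero Q Function.injective_id
      (fun s => by simpa [hQdef, eval_finsetSum] using key s) ?_
    rw [ZMod.card]
    exact lt_of_le_of_lt (natDegree_sum_le_of_forall_le _ _ (n := m) fun i hi =>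
      (natDegree_C_mul_X_pow_le _ _).trans (Nat.lt_succ_iff.1 (mem_range.1 hi))) hmp
  have h := congrArg (fun q => coeff q i) hQ
  simpa [hQdef, finsetSum_coeff, coeff_C_mul, coeff_X_pow, mem_range.1 hi] using h

/-- A polynomial vanishing on the grid lies in the ideal of the grid, within the degree. -/
theorem grid_split {t m e : ℕ} (ht : Nat.card R * t + 1 = p) (htp : t ≠ 0)
    (hm : t * (m + 1) ≤ e) (f : MvPolynomial (Fin 2) (ZMod p)) (hf : f.totalDegree + t * m ≤ e)
    (hz : ∀ x : Fin 2 → ZMod p, (∀ k, x k ∈ grid R) → MvPolynomial.eval x f = 0) :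
    ∃ U V : MvPolynomial (Fin 2) (ZMod p), U.totalDegree + t * (m + 1) ≤ e ∧
      V.totalDegree + t * (m + 1) ≤ e ∧ f = U * gridPoly R 0 + V * gridPoly R 1 := by
  classical
  obtain ⟨h, hh, hsum⟩ := MvPolynomial.combinatorial_nullstellensatz_exists_linearCombination
    (fun _ : Fin 2 => grid R) (fun _ => card_pos.1 (by rw [card_grid R ht]; omega)) f hz
  have hdeg : ∀ k, (h k).totalDegree + t * (m + 1) ≤ e := by
    intro k
    by_cases h0 : h k = 0
    · rw [h0, MvPolynomial.totalDegree_zero, zero_add]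
      exact hm
    have hk := hh k
    rw [MvPolynomial.totalDegree_mul_of_isDomain (prod_ne_zero_iff.2 fun s _ => X_sub_C_ne k s) h0,
      totalDegree_prod_X_sub_C, card_grid R ht] at hk
    rw [mul_add, mul_one]
    omega
  refine ⟨h 0, h 1, hdeg 0, hdeg 1, ?_⟩
  rw [hsum, Finsupp.linearCombination_apply, Finsupp.sum_fintype,
    Fin.sum_univ_two]
  · rfl
  · exact fun i => zero_smul _ _

/-- The expansion along the ideal of the grid. -/
theorem exists_grid_expansion {t j e : ℕ} (ht : Nat.card R * t + 1 = p) (htp : t ≠ 0) (hjp : j ≤ p)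
    (hje : t * j ≤ e) {G : MvPolynomial (Fin 2) (ZMod p)} (hG : G.totalDegree ≤ e)
    (hline : ∀ (α β : (ZMod p)ˣ) (u v : ZMod p), X ^ j ∣ MvPolynomial.aeval
      ![(C (α : ZMod p) + C u * X) ^ Nat.card R, (C (β : ZMod p) + C v * X) ^ Nat.card R] G) :
    ∀ m, m ≤ j → ∃ Φ : ℕ → MvPolynomial (Fin 2) (ZMod p),
      (∀ i, (Φ i).totalDegree + t * m ≤ e) ∧
        G = ∑ i ∈ range (m + 1), Φ i * gridPoly R 0 ^ i * gridPoly R 1 ^ (m - i) := by
  intro m
  induction m with
  | zero =>
    intro _
    exact ⟨fun _ => G, fun i => by simpa using hG, by simp⟩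
  | succ m ih =>
    intro hm
    obtain ⟨Φ, hΦd, hΦ⟩ := ih (by omega)
    have htm : t * (m + 1) ≤ e := (Nat.mul_le_mul_left t hm).trans hje
    have hsplit : ∀ i, ∃ U V : MvPolynomial (Fin 2) (ZMod p),
        U.totalDegree + t * (m + 1) ≤ e ∧ V.totalDegree + t * (m + 1) ≤ e ∧
          (i ∈ range (m + 1) → Φ i = U * gridPoly R 0 + V * gridPoly R 1) := by
      intro i
      by_cases hi : i ∈ range (m + 1)
      · obtain ⟨U, V, hU, hV, hUV⟩ := grid_split R ht htp htm (Φ i) (hΦd i) fun x hx =>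
          grid_step R ht htp (by omega) hΦ
            (fun α β u v => (pow_dvd_pow X hm).trans (hline α β u v)) hi hx
        exact ⟨U, V, hU, hV, fun _ => hUV⟩
      · exact ⟨0, 0, by simpa using htm, by simpa using htm, fun h => absurd h hi⟩
    choose U V hUd hVd hUV using hsplit
    refine ⟨fun i => (if i = 0 then 0 else U (i - 1)) + (if i ≤ m then V i else 0), fun i => ?_, ?_⟩
    · refine (Nat.add_le_add_right (MvPolynomial.totalDegree_add _ _) _).trans ?_
      rw [← max_add_add_right]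
      refine max_le ?_ ?_ <;> split_ifs <;>
        first
        | exact hUd _
        | exact hVd _
        | (rw [MvPolynomial.totalDegree_zero, zero_add]; exact htm)
    · rw [hΦ, sum_congr rfl fun i hi => by rw [hUV i hi]]
      simp only [add_mul, sum_add_distrib]
      congr 1
      · rw [sum_range_succ' _ (m + 1)]
        simp only [if_true, zero_mul, add_zero, Nat.add_eq_zero_iff, one_ne_zero, and_false,
          if_false, Nat.add_sub_cancel, Nat.add_sub_add_right]
        exact sum_congr rfl fun i _ => by ring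
      · rw [sum_range_succ _ (m + 1), if_neg (by omega : ¬ m + 1 ≤ m), zero_mul, zero_mul, add_zero]
        refine sum_congr rfl fun i hi => ?_
        have him : i ≤ m := Nat.lt_succ_iff.1 (mem_range.1 hi)
        rw [if_pos him, show m + 1 - i = m - i + 1 by omega, pow_succ]
        ring

/-- The expansion of a polynomial vanishing on the curve gives a relation on the curve. -/
theorem curve_relation {t j : ℕ} (ht : Nat.card R * t + 1 = p) (htp : t ≠ 0)
    {G : MvPolynomial (Fin 2) (ZMod p)} {Φ : ℕ → MvPolynomial (Fin 2) (ZMod p)}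
    (hΦ : G = ∑ i ∈ range (j + 1), Φ i * gridPoly R 0 ^ i * gridPoly R 1 ^ (j - i))
    (hG : MvPolynomial.aeval ![(X : (ZMod p)[X]) ^ Nat.card R, (1 - X) ^ Nat.card R] G = 0) :
    ∑ i ∈ range (j + 1), (-1 : (ZMod p)[X]) ^ (j - i) * X ^ (j - i) * (1 - X) ^ i *
      MvPolynomial.aeval ![(X : (ZMod p)[X]) ^ Nat.card R, (1 - X) ^ Nat.card R] (Φ i) = 0 := by
  set γ : Fin 2 → (ZMod p)[X] := ![X ^ Nat.card R, (1 - X) ^ Nat.card R] with hγ
  set W : (ZMod p)[X] := X ^ p - X with hW
  have hW0 : W ≠ 0 := fun h => by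
    have h' := congrArg (fun q => coeff q 1) h
    simp [hW, coeff_X_pow, hp.out.ne_one.symm] at h'
  have h0 : X * MvPolynomial.aeval γ (gridPoly R 0) = W := by
    rw [aeval_gridPoly R ht htp, hγ, Matrix.cons_val_zero, ← pow_mul, mul_sub, mul_one,
      ← pow_succ', ht]
  have h1 : (1 - X) * MvPolynomial.aeval γ (gridPoly R 1) = -W := by
    rw [aeval_gridPoly R ht htp, hγ, Matrix.cons_val_one, Matrix.cons_val_fin_one, ← pow_mul,
      mul_sub, mul_one, ← pow_succ', ht, sub_pow_char, one_pow, hW]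
    ring
  refine (mul_eq_zero.1 (?_ : W ^ j * _ = 0)).resolve_left (pow_ne_zero j hW0)
  have h := congrArg (fun z => X ^ j * (1 - X) ^ j * MvPolynomial.aeval γ z) hΦ
  simp only [hG, mul_zero, map_sum, map_mul, map_pow, mul_sum] at h
  rw [h, mul_sum]
  refine sum_congr rfl fun i hi => ?_
  obtain ⟨k, rfl⟩ : ∃ k, j = i + k := ⟨j - i, by have := mem_range.1 hi; omega⟩
  rw [Nat.add_sub_cancel_left, pow_add, pow_add, pow_add]
  have e1 : W ^ i = X ^ i * MvPolynomial.aeval γ (gridPoly R 0) ^ i := by rw [← mul_pow, h0]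
  have e2 : W ^ k * (-1) ^ k = (1 - X) ^ k * MvPolynomial.aeval γ (gridPoly R 1) ^ k := by
    rw [← mul_pow, ← mul_pow, h1]; ring
  linear_combination (X ^ k * (1 - X) ^ i * MvPolynomial.aeval γ (Φ i) * (W ^ k * (-1) ^ k)) * e1
    + (X ^ i * MvPolynomial.aeval γ (gridPoly R 0) ^ i * X ^ k * (1 - X) ^ i *
        MvPolynomial.aeval γ (Φ i)) * e2

/-- The relation on the curve has no small solution. -/
theorem relation_trivial {e j r : ℕ} (hje : j < e) (hcard : (r + 1) * (j + 1) ≤ e)
    (hdeg : e * r + j < p) {Φ : ℕ → MvPolynomial (Fin 2) (ZMod p)}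
    (hΦd : ∀ i, (Φ i).totalDegree ≤ r)
    (hrel : ∑ i ∈ range (j + 1), (-1 : (ZMod p)[X]) ^ (j - i) * X ^ (j - i) * (1 - X) ^ i *
      MvPolynomial.aeval ![(X : (ZMod p)[X]) ^ e, (1 - X) ^ e] (Φ i) = 0) :
    ∀ i ∈ range (j + 1), Φ i = 0 := by
  classical
  set sd : ℕ → ℕ → Fin 2 →₀ ℕ := fun k l => Finsupp.single 0 k + Finsupp.single 1 l with hsd
  have hbox : ∀ (i : ℕ), ∀ d ∈ (Φ i).support, d 0 < r + 1 ∧ d 1 < r + 1 ∧ d = sd (d 0) (d 1) := by
    intro i d hd
    have h := (MvPolynomial.le_totalDegree hd).trans (hΦd i)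
    rw [Finsupp.sum_fintype _ _ (fun _ => rfl), Fin.sum_univ_two] at h
    refine ⟨by omega, by omega, Finsupp.ext ?_⟩
    refine Fin.forall_fin_two.2 ⟨?_, ?_⟩ <;> simp [hsd]
  have haev : ∀ i, MvPolynomial.aeval ![(X : (ZMod p)[X]) ^ e, (1 - X) ^ e] (Φ i) =
      ∑ k ∈ range (r + 1), ∑ l ∈ range (r + 1),
        C (MvPolynomial.coeff (sd k l) (Φ i)) * X ^ (e * k) * (1 - X) ^ (e * l) := by
    intro i
    conv_lhs => rw [(Φ i).as_sum, map_sum]
    rw [← sum_product', ← sum_subset (s₁ := ((Φ i).support.image fun d => (d 0, d 1)))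
      (s₂ := range (r + 1) ×ˢ range (r + 1)) (f := fun x : ℕ × ℕ =>
        C (MvPolynomial.coeff (sd x.1 x.2) (Φ i)) * X ^ (e * x.1) * (1 - X) ^ (e * x.2)) ?_ ?_]
    · rw [sum_image]
      · refine sum_congr rfl fun d hd => ?_
        rw [MvPolynomial.aeval_monomial, Finsupp.prod_fintype _ _ (fun _ => pow_zero _),
          Fin.prod_univ_two, Polynomial.algebraMap_eq, ← (hbox i d hd).2.2]
        simp [← pow_mul, mul_assoc]
      · intro d hd d' hd' h
        rw [(hbox i d hd).2.2, (hbox i d' hd').2.2]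
        simp only [Prod.mk.injEq] at h
        rw [h.1, h.2]
    · intro x hx
      obtain ⟨d, hd, rfl⟩ := mem_image.1 hx
      exact mem_product.2 ⟨mem_range.2 (hbox i d hd).1, mem_range.2 (hbox i d hd).2.1⟩
    · intro x _ hx
      rw [MvPolynomial.notMem_support_iff.1 fun hm => hx (mem_image.2 ⟨_, hm, ?_⟩)]
      · simp
      · simp [hsd]
  set q : ℕ → ℕ → (ZMod p)[X] := fun k l => ∑ i ∈ range (j + 1),
    C ((-1) ^ (j - i) * MvPolynomial.coeff (sd k l) (Φ i)) * X ^ (j - i) * (1 - X) ^ i with hq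
  have h1X : (1 - X : (ZMod p)[X]).natDegree ≤ 1 :=
    (natDegree_sub_le _ _).trans (max_le (by simp) natDegree_X_le)
  have hqdeg : ∀ k l, (q k l).natDegree ≤ j := fun k l => by
    refine natDegree_sum_le_of_forall_le _ _ fun i hi => ?_
    have hi' := Nat.lt_succ_iff.1 (mem_range.1 hi)
    refine natDegree_mul_le.trans ?_
    have h2 := natDegree_C_mul_X_pow_le
      ((-1 : ZMod p) ^ (j - i) * MvPolynomial.coeff (sd k l) (Φ i)) (j - i)
    have h3 := natDegree_pow_le_of_le i h1X
    omega
  have hqz := indep_lacunary hje hcard hdeg q hqdeg (by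
    refine Eq.trans ?_ hrel
    simp only [haev, mul_sum, hq, sum_mul]
    rw [sum_comm (s := range (j + 1))]
    refine sum_congr rfl fun k _ => ?_
    rw [sum_comm (s := range (j + 1))]
    refine sum_congr rfl fun l _ => sum_congr rfl fun i _ => ?_
    rw [map_mul, map_pow, map_neg, map_one]
    ring)
  intro i hi
  refine MvPolynomial.ext _ _ fun d => ?_
  rw [MvPolynomial.coeff_zero]
  by_contra hne
  obtain ⟨hd0, hd1, hde⟩ := hbox i d (MvPolynomial.mem_support_iff.2 hne)
  have hz := hqz (d 0) (mem_range.2 hd0) (d 1) (mem_range.2 hd1)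
  rw [hde] at hne
  set c : ℕ → ZMod p := fun n => (-1) ^ (j - n) * MvPolynomial.coeff (sd (d 0) (d 1)) (Φ n) with hc
  have hci : ∀ n, n ≤ j → c n = 0 := by
    intro n
    induction n using Nat.strong_induction_on with
    | _ n ih =>
      intro hn
      have h : (1 - X : (ZMod p)[X]) ^ n *
          ∑ i ∈ Finset.Ico n (j + 1), C (c i) * X ^ (j - i) * (1 - X) ^ (i - n) = 0 := by
        rw [← hz, hq, mul_sum]
        simp only
        rw [range_eq_Ico, ← sum_Ico_consecutive _ (Nat.zero_le n) (by omega : n ≤ j + 1),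
          sum_eq_zero (s := Finset.Ico 0 n) fun i hi => ?_, zero_add]
        · refine sum_congr rfl fun i hi => ?_
          have hni := (Finset.mem_Ico.1 hi).1
          have hsp : (1 - X : (ZMod p)[X]) ^ i = (1 - X) ^ n * (1 - X) ^ (i - n) := by
            rw [← pow_add, Nat.add_sub_cancel' hni]
          rw [hsp]
          ring
        · have hi' := Finset.mem_Ico.1 hi
          show C (c i) * _ * _ = 0
          rw [ih i hi'.2 (by omega), map_zero, zero_mul, zero_mul]
      have h1 : (1 - X : (ZMod p)[X]) ≠ 0 := fun e0 => by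
        simpa using congrArg (fun q => coeff q 0) e0
      have h' := congrArg (eval (1 : ZMod p)) ((mul_eq_zero.1 h).resolve_left (pow_ne_zero n h1))
      rw [eval_finsetSum, eval_zero, sum_eq_single_of_mem n (Finset.mem_Ico.2 ⟨le_rfl, by omega⟩)
        fun i hi hin => ?_] at h'
      · simpa using h'
      · have hpos : i - n ≠ 0 := by have := (Finset.mem_Ico.1 hi).1; omega
        simp [zero_pow hpos]
  exact hne ((mul_eq_zero.1 (hci i (Nat.lt_succ_iff.1 (mem_range.1 hi)))).resolve_left
    (pow_ne_zero _ (neg_ne_zero.2 one_ne_zero)))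

/-- Some cyclotomic number is below `j`. -/
theorem exists_small_cell {t j r : ℕ} (ht : Nat.card R * t + 1 = p)
    (hjr : Nat.card R = t * j + r) (hj : 1 ≤ j) (hr : r + 2 ≤ t) :
    ∃ a b, N2 R a b < j := by
  by_contra hall
  push Not at hall
  obtain ⟨G, hG0, hGd, hGγ, hline⟩ := exists_curve_poly R hall
  have hje : j < Nat.card R := by
    have : 2 * j ≤ t * j := Nat.mul_le_mul_right _ (by omega)
    omega
  have hep : Nat.card R < p := by
    have : Nat.card R * 1 ≤ Nat.card R * t := Nat.mul_le_mul_left _ (by omega)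
    omega
  obtain ⟨Φ, hΦd, hΦ⟩ := exists_grid_expansion R ht (by omega) (by omega) (by omega) hGd hline j le_rfl
  have hcard : (r + 1) * (j + 1) ≤ Nat.card R := by
    obtain ⟨s, rfl⟩ : ∃ s, t = r + 2 + s := ⟨t - r - 2, by omega⟩
    rw [hjr]
    nlinarith
  have hdeg : Nat.card R * r + j < p := by
    have : Nat.card R * (r + 1) ≤ Nat.card R * t := Nat.mul_le_mul_left _ (by omega)
    rw [mul_add, mul_one] at this
    omega
  have hz := relation_trivial hje hcard hdeg (fun i => by have := hΦd i; omega)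
    (curve_relation R ht (by omega) hΦ hGγ)
  exact hG0 (hΦ.trans (sum_eq_zero fun i hi => by rw [hz i hi, zero_mul, zero_mul]))

end Cfsg.Agent.Block.SmallFaith
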