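import Mathlib
import Cfsg.Agent.Lib.Block.SmallFaith.Bounds
import Cfsg.Agent.Lib.Block.SmallFaith.Stepanov

/-!
The exceptional characters of degree `p - e` have many conjugates: `e + 3 ≤ t`.
-/

set_option autoImplicit false

namespace Cfsg.Agent.Block.SmallFaith

open scoped ComplexConjugate
open scoped _root_.Classical
open Cfsg Cfsg.Agent.Block Cfsg.Agent.Char Cfsg.Agent.Char.BP Cfsg.Agent.Char.Spec
  Cfsg.Agent.Char.DefectOne Cfsg.Agent.Block.PMinusTwo

set_option linter.unusedSectionVars false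
set_option linter.style.haveILetI false
set_option maxHeartbeats 800000

universe w

variable {G : Type w} [Group G] [Fintype G] {p : ℕ} [hp : Fact p.Prime] {u : G}
  {R : Subgroup (ZMod p)ˣ}

namespace Sit

variable (L : Sit p u R)
include L

/-- The classes of the elements of order `p` correspond to the cosets of `R`. -/
theorem card_order_classes :
    Nat.card {c : ConjClasses G // ∃ g : G, ConjClasses.mk g = c ∧ orderOf g = p} = R.index := by
  refine (Nat.card_eq_of_bijective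
    (fun q : (ZMod p)ˣ ⧸ R => (⟨ConjClasses.mk (pw u ((q.out : (ZMod p)ˣ) : ZMod p)), _, rfl,
      L.orderOf_pw q.out.ne_zero⟩ :
        {c : ConjClasses G // ∃ g : G, ConjClasses.mk g = c ∧ orderOf g = p})) ⟨?_, ?_⟩).symm
  · intro q q' h
    obtain ⟨g, hg⟩ := isConj_iff.1 (ConjClasses.mk_eq_mk_iff_isConj.1 (congrArg Subtype.val h))
    set a := (q.out : (ZMod p)ˣ)
    set b := (q'.out : (ZMod p)ˣ)
    rw [← q.out_eq', ← q'.out_eq', QuotientGroup.eq, L.mem_R]
    refine ⟨g, ?_⟩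
    have h1 : pw u (a : ZMod p) ^ ((a⁻¹ : (ZMod p)ˣ) : ZMod p).val = u := by
      rw [pw_pow L.cardP (Subgroup.mem_zpowers u) L.u_ne, ZMod.natCast_zmod_val, Units.mul_inv,
        L.pw_one']
    conv_lhs => rw [← h1, ← conj_pow, hg, pw_pow L.cardP (Subgroup.mem_zpowers u) L.u_ne,
      ZMod.natCast_zmod_val, ← Units.val_mul, mul_comm]
  · rintro ⟨c, g, rfl, hg⟩
    obtain ⟨k, i, hi, rfl⟩ := L.exists_conj hg
    refine ⟨((Units.mk0 i hi : (ZMod p)ˣ) : (ZMod p)ˣ ⧸ R), Subtype.ext ?_⟩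
    obtain ⟨r, hr⟩ := QuotientGroup.mk_out_eq_mul R (Units.mk0 i hi)
    obtain ⟨g', hg'⟩ := (L.mem_R _).1 r.2
    simp only
    rw [ConjClasses.mk_eq_mk_iff_isConj, hr, Units.val_mul, Units.val_mk0, mul_comm,
      ← L.conj_pw' hg', isConj_iff]
    exact ⟨k * g'⁻¹, by group⟩

end Sit

namespace Zf

variable {ω : Subgroup.center G →* ℂˣ} {y : (ZMod p)ˣ ⧸ R → IrrCharacter G} (Z : Zf p u R ω y)
  (L : Sit p u R)
include Z L

/-- There is a family above the square of the central character. -/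
theorem exists_fam_sq :
    ∃ (Y : (ZMod p)ˣ ⧸ R → IrrCharacter G) (τ : Subgroup.center G →* ℂˣ) (δ : ℤ),
      Fam p u R τ Y δ ∧ ∀ z, τ z = ω z * ω z := by
  obtain ⟨i, hi, hne⟩ : ∃ i : ZMod p, i ≠ 0 ∧ cosum R 1 i ≠ 0 := by
    by_contra hc
    push Not at hc
    have h := sum_cosum_erase R (1 : (ZMod p)ˣ ⧸ R)
    rw [Finset.sum_eq_zero fun i hi => hc i (Finset.ne_of_mem_erase hi), eq_comm, neg_eq_zero,
      Nat.cast_eq_zero] at h
    exact Nat.card_pos.ne' h
  set Φ : G → ℂ := fun g => (y 1 : G → ℂ) g * (y 1 : G → ℂ) g with hΦ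
  have hchar : IsCharacter G Φ := IsChar.mul (IsIrr.isCharacter (y 1).2) (IsIrr.isCharacter (y 1).2)
  have h0 : Φ (pw u i) ≠ 0 := by
    simp only [hΦ, Z.fam.val 1 i hi]
    exact mul_ne_zero (mul_ne_zero (by norm_num) hne) (mul_ne_zero (by norm_num) hne)
  obtain ⟨ψ, -, hψi, hψd⟩ := L.exists_constituent hchar (dvd_of_eq (L.orderOf_pw hi).symm) h0
  obtain ⟨Y, δ, F, -⟩ := exists_fam L ψ hψd
  refine ⟨Y, omega ψ, δ, F, fun z => Units.ext ?_⟩
  have h1 : classInner Φ (ψ : G → ℂ) =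
      ((ω z * ω z : ℂˣ) : ℂ) * conj (omega ψ z : ℂ) * classInner Φ (ψ : G → ℂ) := by
    conv_lhs => simp only [classInner]; rw [← Equiv.sum_comp (Equiv.mulLeft (z : G))]
    conv_rhs => simp only [classInner]; rw [mul_left_comm, Finset.mul_sum]
    refine congrArg _ (Finset.sum_congr rfl fun g _ => ?_)
    simp only [Equiv.coe_mulLeft, hΦ, omega_spec, Z.fam.om, map_mul, Units.val_mul]
    ring
  have h2 : ((ω z * ω z : ℂˣ) : ℂ) * conj (omega ψ z : ℂ) = 1 := by
    refine mul_right_cancel₀ hψi ?_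
    rw [one_mul, ← h1]
  calc (omega ψ z : ℂ) = ((ω z * ω z : ℂˣ) : ℂ) * conj (omega ψ z : ℂ) * (omega ψ z : ℂ) := by
        rw [h2, one_mul]
    _ = _ := by rw [mul_assoc, omega_conj_mul, mul_one]

variable (hsmall : ∀ φ : IrrCharacter G, (φ : G → ℂ) u ≠ (φ : G → ℂ) 1 →
    p ≤ 2 * charDegree (φ : G → ℂ) + 1)
  {t : ℕ} (ht : Nat.card R * t + 1 = p) (ht3 : 3 ≤ t)
  {Y : (ZMod p)ˣ ⧸ R → IrrCharacter G} {τ : Subgroup.center G →* ℂˣ}
  (F : Fam p u R τ Y 1) (hτ : ∀ z, τ z = ω z * ω z)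
include hsmall ht ht3 F hτ

/-- The symmetric and the alternating square leave three values for the remainder. -/
theorem square_bound [Fintype ((ZMod p)ˣ ⧸ R)] (hp2 : p ≠ 2) (hneg : (-1 : (ZMod p)ˣ) ∉ R) {j r : ℕ}
    (hjr : Nat.card R = t * j + r) (hr : r < t) : r + 3 ≤ t := by
  obtain ⟨μ, hμP, hμZ, hμne⟩ := F.exists_weight L hsmall (Z.e_small L hsmall ht ht3)
  obtain ⟨l, hlP, hlZ, hl⟩ := Z.exists_lam L
  obtain ⟨γ, ⟨hγ, -⟩, hS, hA⟩ := Z.wt_sq L hμP hμZ 1 ht hlP hlZ hl hτ hp2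
  rw [hγ hneg, if_neg hneg] at hS hA
  set a : (ZMod p)ˣ ⧸ R := 1
  set q₀ := ((Units.mk0 2 (ne_two hp2) : (ZMod p)ˣ) : (ZMod p)ˣ ⧸ R) * a
  have hne : a ≠ negQ R a := fun h => hneg ((QuotientGroup.eq_one_iff _).1 (by
    simpa [a, negQ] using h.symm))
  have key : ∀ σ : ℤ, ∀ Φ : G → ℂ, IsCharacter G Φ →
      (∀ g, Φ g = ((y a : G → ℂ) g * (y a : G → ℂ) g + (σ : ℂ) * (y a : G → ℂ) (g * g)) / 2) →
      ∀ B : ℤ, 2 * wt u μ Φ = (B : ℂ) →
        ∃ C : ℤ, (∀ q, Even (C + (tri R a a q : ℤ) - if q = q₀ then σ else 0)) ∧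
          0 ≤ (t : ℤ) * C + Nat.card R - σ ∧ (t : ℤ) * C + Nat.card R - σ ≤ B := by
    intro σ Φ hΦc hΦv B hB
    obtain ⟨n, hn⟩ := wt_nat μ hΦc
    have hnB : 2 * (n : ℤ) = B := by
      apply Int.cast_injective (α := ℂ)
      push_cast
      rw [← hn, hB]
    choose M hM using fun q => IsChar.classInner_nat hΦc (IsIrr.isCharacter (Y q).2)
    have hle := sum_mult_le μ hΦc hn Finset.univ Y F.inj.injOn (fun q _ => hμne q) M fun q _ => hM q
    have hle' : ((∑ q, M q : ℕ) : ℤ) ≤ n := by exact_mod_cast hle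
    set f : ZMod p → ℂ := fun i => (cosum R a i * cosum R a i - (σ : ℂ) * cosum R q₀ i) / 2
    have hf : ∀ i : ZMod p, i ≠ 0 → ∀ z : Subgroup.center G,
        Φ (pw u i * (z : G)) = (τ z : ℂ) * f i := by
      intro i hi z
      have hii : i + i ≠ 0 := fun h => mul_ne_zero hi (ne_two hp2) (by linear_combination h)
      rw [hΦv, show pw u i * (z : G) * (pw u i * (z : G)) = pw u (i + i) * ((z * z : Subgroup.center G) : G) by
        rw [← L.pw_add, Subgroup.coe_mul, mul_assoc, ← mul_assoc (z : G),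
          ← Subgroup.mem_center_iff.1 z.2 (pw u i)]
        group, Z.fam.val_center a hi, Z.fam.val_center a hii, map_mul, ← hτ,
        show cosum R a (i + i) = cosum R q₀ i by
          rw [← cosum_smul, Units.val_mk0, mul_two]]
      simp only [f, hτ, Units.val_mul]
      push_cast
      ring
    have hrel : ∀ q, 2 * (M q : ℤ) =
        (2 * (M q₀ : ℤ) - tri R a a q₀ + σ) + tri R a a q - if q = q₀ then σ else 0 := by
      intro q
      have h := F.inner_sub L (IsChar.classFun hΦc) f hf q q₀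
      rw [hM, hM] at h
      have hR : (Nat.card R : ℂ) ≠ 0 := Nat.cast_ne_zero.2 Nat.card_pos.ne'
      have hp0 : (p : ℂ) ≠ 0 := Nat.cast_ne_zero.2 hp.out.ne_zero
      have hs : ∑ i : ZMod p, f i * conj (cosum R q i - cosum R q₀ i) =
          (((p : ℂ) * Nat.card R * tri R a a q - (p : ℂ) * Nat.card R * tri R a a q₀) -
            (σ : ℂ) * ((if q = q₀ then (p : ℂ) * Nat.card R else 0) - (p : ℂ) * Nat.card R)) / 2 := by
        rw [← sum_three, ← sum_three, ← sum_pair q₀ q,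
          ← show ∑ i : ZMod p, cosum R q₀ i * conj (cosum R q₀ i) = (p : ℂ) * Nat.card R by
            rw [sum_pair, if_pos rfl]]
        simp only [f, ← Finset.sum_sub_distrib, Finset.mul_sum, Finset.sum_div]
        exact Finset.sum_congr rfl fun i _ => by rw [map_sub]; ring
      rw [hs] at h
      apply Int.cast_injective (α := ℂ)
      refine mul_left_cancel₀ (mul_ne_zero hp0 hR) ?_
      push_cast at h ⊢
      split_ifs at h ⊢ <;> (field_simp at h; first
        | linear_combination h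
        | linear_combination ((p : ℂ) * Nat.card R) * h)
    refine ⟨2 * (M q₀ : ℤ) - tri R a a q₀ + σ, fun q => ⟨(M q : ℤ), by rw [← hrel q]; ring⟩, ?_⟩
    have hsum : 2 * ((∑ q, M q : ℕ) : ℤ) =
        (t : ℤ) * (2 * (M q₀ : ℤ) - tri R a a q₀ + σ) + Nat.card R - σ := by
      have htot := tri_total R a a
      rw [if_neg hne, add_zero] at htot
      zify at htot
      rw [Nat.cast_sum, Finset.mul_sum, Finset.sum_congr rfl fun q _ => hrel q,
        Finset.sum_sub_distrib, Finset.sum_add_distrib, htot, Finset.sum_const, Finset.card_univ,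
        card_classes R ht, nsmul_eq_mul, Finset.sum_ite_eq', if_pos (Finset.mem_univ _)]
    rw [← hsum]
    exact ⟨by positivity, by linarith⟩
  obtain ⟨C₁, hev₁, hlo₁, hhi₁⟩ := key 1 _ (isChar_symSq (IsIrr.isCharacter (y a).2))
    (fun g => by simp [symSq]) ((t : ℤ) - 2 + 2 * if l * l = μ then 1 else 0) (by
      rw [hS]; push_cast; ring)
  obtain ⟨C₂, hev₂, hlo₂, hhi₂⟩ := key (-1) _ (isChar_altSq (IsIrr.isCharacter (y a).2))
    (fun g => by simp [altSq, sub_eq_add_neg]) ((t : ℤ) - 2) (by rw [hA]; push_cast; ring)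
  have h1 := hev₁ q₀
  have h2 := hev₂ q₀
  rw [if_pos rfl] at h1 h2
  obtain ⟨k, hk⟩ : Even (C₁ + C₂) := by
    obtain ⟨x, hx⟩ := h1
    obtain ⟨x', hx'⟩ := h2
    exact ⟨x + x' - tri R a a q₀, by linarith⟩
  have hB : ((t : ℤ) - 2 + 2 * if l * l = μ then (1 : ℤ) else 0) ≤ t := by split_ifs <;> omega
  rw [hjr] at hlo₁ hhi₁ hlo₂ hhi₂
  push_cast at hlo₁ hhi₁ hlo₂ hhi₂
  have ht' : (3 : ℤ) ≤ t := by exact_mod_cast ht3
  have hr' : (r : ℤ) < t := by exact_mod_cast hr
  have hr0 : (0 : ℤ) ≤ r := Int.natCast_nonneg _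
  by_contra hcon
  have hr3 : (t : ℤ) - 2 ≤ r := by
    have : t ≤ r + 2 := by omega
    have : (t : ℤ) ≤ r + 2 := by exact_mod_cast this
    omega
  have hY : C₂ + j = -1 := by
    rcases lt_trichotomy (C₂ + (j : ℤ)) (-1) with h | h | h
    · have : (t : ℤ) * (C₂ + j) ≤ t * (-2) := mul_le_mul_of_nonneg_left (by omega) (by positivity)
      nlinarith
    · exact h
    · have : (t : ℤ) * 0 ≤ t * (C₂ + j) := mul_le_mul_of_nonneg_left (by omega) (by positivity)
      nlinarith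
  have hrt : (r : ℤ) = t - 1 := by
    have : (t : ℤ) * (C₂ + j) = -t := by rw [hY]; ring
    nlinarith
  have hX : C₁ + j = 0 := by
    rcases lt_trichotomy (C₁ + (j : ℤ)) 0 with h | h | h
    · have : (t : ℤ) * (C₁ + j) ≤ t * (-1) := mul_le_mul_of_nonneg_left (by omega) (by positivity)
      nlinarith
    · exact h
    · have : (t : ℤ) * 1 ≤ t * (C₁ + j) := mul_le_mul_of_nonneg_left (by omega) (by positivity)
      nlinarith
  omega

omit F hτ in
/-- There are at least `e + 3` exceptional characters. -/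
theorem e_add_three_le (hp7 : 7 < p) (hR2 : 2 ≤ Nat.card R) : Nat.card R + 3 ≤ t := by
  rcases eq_or_lt_of_le hR2 with h2 | he
  · rw [← h2] at ht ⊢
    rcases Nat.lt_or_ge t 5 with h5 | h5
    · interval_cases t
      · omega
      · subst ht; exact absurd hp.out (by norm_num)
    · exact h5
  letI : Fintype ((ZMod p)ˣ ⧸ R) := Fintype.ofFinite _
  have hp2 : p ≠ 2 := by omega
  obtain ⟨Y, τ, δ, F, hτ⟩ := Z.exists_fam_sq L
  obtain ⟨δ', K, hP⟩ := Z.exists_pbound L hsmall ht ht3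
  obtain ⟨j, r, hjr, hr⟩ : ∃ j r, Nat.card R = t * j + r ∧ r < t :=
    ⟨_, _, (Nat.div_add_mod _ _).symm, Nat.mod_lt _ (by omega)⟩
  by_cases hneg : (-1 : (ZMod p)ˣ) ∈ R
  · exact (no_even R ht ht3 (by omega) hjr hr hp2 hneg hP
      fun a => Z.squares L hsmall ht ht3 F hτ hp2 hneg a).elim
  obtain ⟨h1, h2⟩ := odd_sign R ht ht3 (by omega) hjr hr hp2 hneg hP (Z.qbound L hsmall ht ht3 F hτ)
  subst h1 h2
  have hr3 := Z.square_bound L hsmall ht ht3 F hτ hp2 hneg hjr hr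
  by_contra hcon
  have hj : 1 ≤ j := by
    by_contra hj
    rw [show j = 0 by omega, mul_zero] at hjr
    omega
  obtain ⟨a, b, hab⟩ := exists_small_cell R ht hjr hj (by omega)
  have := bound_pos R ht ht3 (by omega) hjr hr hP a b
  omega

end Zf

end Cfsg.Agent.Block.SmallFaith
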