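import Mathlib
import Cfsg.Agent.Lib.Block.HalfDeg.Main
import Cfsg.Agent.Lib.Block.HalfDeg.Single
import Cfsg.Agent.Lib.Block.SmallFaith.Psl

/-!
A faithful irreducible character of degree `(p + 1) / 2` forces `PSL(2, p)`.
-/

set_option autoImplicit false
set_option linter.unusedSectionVars false
set_option linter.style.haveILetI false
set_option maxHeartbeats 800000

namespace Cfsg.Agent.Block.SmallFaith

open scoped _root_.Classical
open Cfsg Cfsg.Agent.Block Cfsg.Agent.Block.HalfDeg Cfsg.Agent.Char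

universe w

variable {G : Type w} [Group G] [Fintype G] {p : ℕ} [hp : Fact p.Prime]

/-- A small modular representation moving `u` has an irreducible constituent moving `u`. -/
theorem exists_constituent_small (hp5 : 5 ≤ p) (hsq : ¬ p ^ 2 ∣ Nat.card G)
    (hnn : ∀ H : Subgroup G, H.Normal → Nat.card H ≠ p) {χ : G → ℂ} (hχ : IsCharacter G χ)
    (hfaith : ∀ g, χ g = χ 1 → g = 1) {e : ℕ} (he : χ 1 = e) (hep : e + 2 ≤ p) {u : G}
    (hu : orderOf u = p) {k : Type} [Field k] [CharP k p] {W : Type} [AddCommGroup W] [Module k W]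
    [FiniteDimensional k W] (r : Representation k G W) {n : ℕ} (hn : n ≤ p)
    (hW : Module.finrank k W ≤ n) (hru : r u ≠ 1) :
    ∃ (V : Type) (_ : AddCommGroup V) (_ : Module k V) (_ : FiniteDimensional k V)
      (σ : Representation k G V),
      (∀ S : Submodule k V, (∀ g, ∀ v ∈ S, σ g v ∈ S) → S = ⊥ ∨ S = ⊤) ∧
        Module.finrank k V ≤ n ∧ σ u ≠ 1 ∧ (σ u - 1) ^ n = 0 := by
  by_contra hno
  push Not at hno
  haveI : Nontrivial W := by
    by_contra h
    rw [not_nontrivial_iff_subsingleton] at h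
    exact hru (LinearMap.ext fun x => Subsingleton.elim _ _)
  haveI : CharP (Module.End k W) p :=
    charP_of_injective_algebraMap (algebraMap k (Module.End k W)).injective p
  have hno' : ∀ (V : Type) [AddCommGroup V] [Module k V] [FiniteDimensional k V]
      (σ : Representation k G V),
      (∀ S : Submodule k V, (∀ g, ∀ v ∈ S, σ g v ∈ S) → S = ⊥ ∨ S = ⊤) →
        Module.finrank k V ≤ n → (σ u - 1) ^ n = 0 → σ u = 1 := fun V i1 i2 i3 σ h1 h2 h3 => by
    by_contra h4
    exact hno V i1 i2 i3 σ h1 h2 h4 h3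
  set X := Subgroup.normalClosure ({u} : Set G)
  haveI hXn : X.Normal := Subgroup.normalClosure_normal
  have huX : u ∈ X := Subgroup.subset_normalClosure rfl
  have hexp : ∀ g ∈ X, r (g ^ p) = 1 := by
    intro g hg
    have h := unipotent_of_no_simple_pow (u := u) hno' n W r
      (pow_eq_zero_of_finrank r hu hW) hW le_rfl g hg
    have h' := pow_eq_zero_of_le hn h
    rwa [sub_pow_char_of_commute _ (Commute.one_right (r g)), one_pow, sub_eq_zero, ← map_pow] at h'
  set Kg := MonoidHom.ker r ⊓ X with hKg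
  haveI : Kg.Normal := Subgroup.normal_inf_normal _ _
  have hup : u ^ p = 1 := hu ▸ pow_orderOf_eq_one u
  have hKp : ¬ p ∣ Nat.card Kg := fun h => hru (mem_of_dvd hsq h hup).1
  set Q := X.map (QuotientGroup.mk' Kg) with hQ
  have hQp : IsPGroup p Q := fun q => by
    refine ⟨1, Subtype.ext ?_⟩
    obtain ⟨g, hg, hgq⟩ := q.2
    rw [pow_one, SubmonoidClass.coe_pow, ← hgq, OneMemClass.coe_one, ← map_pow,
      QuotientGroup.mk'_apply, QuotientGroup.eq_one_iff]
    exact ⟨hexp g hg, pow_mem hg p⟩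
  have huK : (u : G ⧸ Kg) ≠ 1 := fun h => hru ((QuotientGroup.eq_one_iff u).1 h).1
  have huQ : orderOf (u : G ⧸ Kg) = p :=
    orderOf_eq_prime (by rw [← QuotientGroup.mk_pow, hup, QuotientGroup.mk_one]) huK
  have hQu : Q = Subgroup.zpowers (u : G ⧸ Kg) := by
    have hle : Subgroup.zpowers (u : G ⧸ Kg) ≤ Q := Subgroup.zpowers_le.2 ⟨u, huX, rfl⟩
    obtain ⟨m, hm⟩ := IsPGroup.iff_card.1 hQp
    refine (Subgroup.eq_of_le_of_card_ge hle ?_).symm
    rw [hm, Nat.card_zpowers, huQ]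
    by_contra hlt
    have h2 : 2 ≤ m := by
      by_contra h2
      exact hlt ((Nat.pow_le_pow_right hp.out.pos (show m ≤ 1 by omega)).trans (pow_one p).le)
    exact hsq ((pow_dvd_pow p h2).trans ((hm ▸ Subgroup.card_subgroup_dvd_card Q).trans
      (Subgroup.card_quotient_dvd_card Kg)))
  refine hnn (Subgroup.zpowers u) ⟨fun x hx g => ?_⟩ (by rw [Nat.card_zpowers, hu])
  obtain ⟨i, rfl⟩ := Subgroup.mem_zpowers_iff.1 hx
  have hgX : g * u * g⁻¹ ∈ X := hXn.conj_mem u huX g
  obtain ⟨j, hj⟩ : ((g * u * g⁻¹ : G) : G ⧸ Kg) ∈ Subgroup.zpowers (u : G ⧸ Kg) :=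
    hQu ▸ ⟨_, hgX, rfl⟩
  simp only at hj
  rw [← QuotientGroup.mk_zpow, QuotientGroup.eq] at hj
  set z := (u ^ j)⁻¹ * (g * u * g⁻¹) with hz
  have hzu : Commute z u := commute_kernel hsq hχ hfaith he hep hKp hu hj
  have e1 : g * u * g⁻¹ = u ^ j * z := by rw [hz, mul_inv_cancel_left]
  have h2 : (u ^ j * z) ^ p = 1 := by rw [← e1, conj_pow, hup, mul_one, mul_inv_cancel]
  rw [((hzu.symm).zpow_left j).mul_pow, ← zpow_natCast, ← zpow_mul, mul_comm j, zpow_mul,
    zpow_natCast, hup, one_zpow, one_mul] at h2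
  have hz1 : z = 1 := orderOf_eq_one_iff.1 (Nat.dvd_one.1
    ((hp.out.coprime_iff_not_dvd.2 hKp) ▸ Nat.dvd_gcd (orderOf_dvd_of_pow_eq_one h2)
      (Subgroup.orderOf_dvd_natCard _ hj)))
  rw [← conj_zpow, e1, hz1, mul_one, ← zpow_mul]
  exact ⟨_, rfl⟩

/-- The degree `(p + 1) / 2`. -/
theorem half_psl (hp7 : 7 < p) (hsq : ¬ p ^ 2 ∣ Nat.card G)
    (hnn : ∀ H : Subgroup G, H.Normal → Nat.card H ≠ p) (ζ : IrrCharacter G)
    (hfaith : ∀ g, (ζ : G → ℂ) g = (ζ : G → ℂ) 1 → g = 1)
    (hdeg : 2 * charDegree (ζ : G → ℂ) = p + 1) {u : G} (hu : orderOf u = p) :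
    Nonempty ((G ⧸ Subgroup.center G) ≃* Matrix.ProjectiveSpecialLinearGroup (Fin 2) (ZMod p)) := by
  have hp11 : 11 ≤ p := by
    by_contra h
    interval_cases p <;> revert hp <;> intro h' <;> exact absurd h'.out (by norm_num)
  set d := charDegree (ζ : G → ℂ)
  have hodd : p % 2 = 1 := (Nat.Prime.eq_two_or_odd hp.out).resolve_left (by omega)
  have hχ : IsCharacter G (ζ : G → ℂ) := IsIrr.isCharacter ζ.2
  have he : (ζ : G → ℂ) 1 = (d : ℂ) := charDeg_spec' ζ
  have hXirr := closure_irr (by omega : p ≠ 2) hsq hnn ζ hfaith (by omega) hu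
  have hsyl : ¬ p ∣ (Subgroup.zpowers u).index := fun h => hsq (by
    rw [← (Subgroup.zpowers u).card_mul_index, Nat.card_zpowers, hu, pow_two]
    exact mul_dvd_mul_left p h)
  obtain ⟨k, _, _, V, _, _, _, σ, hirr, hVd, hσu⟩ := exists_simple hsq hnn hχ hfaith he hu
  by_cases hlow : (σ u - 1) ^ (d - 1) = 0
  · exact main_of_simple hsq hnn hχ hfaith he (by omega) (by omega) hu hXirr σ hirr (by omega) hσu
      hlow (by omega)
  have hdim : Module.finrank k V = d := by
    by_contra hne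
    exact hlow (pow_eq_zero_of_finrank σ hu (by omega))
  obtain ⟨H, E, F, T⟩ := exists_trip_of_nilpotent σ hu hsyl hirr hσu
    (pow_eq_zero_of_finrank σ hu hVd) (by omega) (by omega) (by omega)
  have hEd : E ^ (d - 1) ≠ 0 := by
    intro h
    refine hlow ?_
    obtain ⟨q, hq, -, hqE⟩ := ex_sub_one (p := p) (K := k) T.nil
    have hc : Commute q E := by
      have h' := commute_lg (p := p) (K := k) hq
      rwa [lg_ex T.nil (by omega)] at h'
    rw [← T.exp, hqE, hc.symm.mul_pow, h, zero_mul]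
  obtain ⟨W, r, hW, hru⟩ := exists_small hu hsyl hirr T hdim (by omega) hp7 hEd
  obtain ⟨V', _, _, _, σ', hirr', hV', hσu', hσa'⟩ :=
    exists_constituent_small (p := p) (by omega) hsq hnn hχ hfaith he (by omega) hu r (n := 5) (by omega) hW hru
  exact main_of_simple hsq hnn hχ hfaith he (by omega) (by omega) hu hXirr σ' hirr' (by omega) hσu'
    hσa' (by omega)

end Cfsg.Agent.Block.SmallFaith
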