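import Mathlib
import Cfsg.Agent.Lib.Block.SmallFaith.Half
import Cfsg.Agent.Lib.Block.SmallFaith.Bounds

/-!
The faithful irreducible characters of degree below `p - 1` of a group with a Sylow subgroup of
order `p` that is not normal.
-/

set_option autoImplicit false
set_option linter.unusedSectionVars false
set_option linter.style.haveILetI false
set_option maxHeartbeats 800000

namespace Cfsg.Agent.Block.SmallFaith

open scoped _root_.Classical
open Cfsg Cfsg.Agent.Block Cfsg.Agent.Char Cfsg.Agent.Char.Spec Cfsg.Agent.Char.DefectOne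
  Cfsg.Agent.Block.PMinusTwo

universe w

variable {G : Type w} [Group G] [Fintype G] {p : ℕ} [hp : Fact p.Prime]

theorem not_sq_dvd (P : Sylow p G) (hP : Nat.card P = p) : ¬ p ^ 2 ∣ Nat.card G := by
  intro h
  rw [← (P : Subgroup G).card_mul_index, hP, pow_two] at h
  exact P.not_dvd_index (Nat.dvd_of_mul_dvd_mul_left hp.out.pos h)

theorem no_normal_order (P : Sylow p G) (hP : Nat.card P = p) (hnn : ¬ (P : Subgroup G).Normal) :
    ∀ H : Subgroup G, H.Normal → Nat.card H ≠ p := by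
  intro H hH hHp
  have hle : H ≤ P := fun x hx => by
    have hPg : IsPGroup p H := IsPGroup.of_card (n := 1) (by rw [hHp, pow_one])
    obtain ⟨S, hS⟩ := hPg.exists_le_sylow
    obtain ⟨g, hg⟩ := MulAction.exists_smul_eq G S P
    have hx' : g⁻¹ * x * g ∈ (S : Subgroup G) := hS (by
      simpa using hH.conj_mem x hx g⁻¹)
    rw [← hg]
    exact ⟨g⁻¹ * x * g, hx', by show g * (g⁻¹ * x * g) * g⁻¹ = x; group⟩
  exact hnn (Subgroup.eq_of_le_of_card_ge hle (by rw [hHp]; exact hP.le) ▸ hH)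

theorem center_regular (hnn : ∀ H : Subgroup G, H.Normal → Nat.card H ≠ p) :
    ¬ p ∣ Nat.card (Subgroup.center G) := by
  intro h
  obtain ⟨w, hw⟩ := exists_prime_orderOf_dvd_card' p h
  refine hnn (Subgroup.zpowers (w : G)) ⟨fun x hx g => ?_⟩
    (by rw [Nat.card_zpowers, Subgroup.orderOf_coe, hw])
  rwa [Subgroup.mem_center_iff.1 (Subgroup.zpowers_le.2 w.2 hx) g, mul_inv_cancel_right]

/-- The cases. -/
theorem exists_cases (hp7 : 7 < p) (P : Sylow p G) (hP : Nat.card P = p)
    (hnn : ¬ (P : Subgroup G).Normal) (ζ : IrrCharacter G)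
    (hfaith : ∀ g, (ζ : G → ℂ) g = (ζ : G → ℂ) 1 → g = 1)
    (hdeg : charDegree (ζ : G → ℂ) + 2 ≤ p) :
    ∃ (u : G) (R : Subgroup (ZMod p)ˣ), Sit p u R ∧
      ((Nonempty ((G ⧸ Subgroup.center G) ≃* Matrix.ProjectiveSpecialLinearGroup (Fin 2) (ZMod p)) ∧
          2 * Nat.card R + 1 = p ∧
          (2 * charDegree (ζ : G → ℂ) + 1 = p ∨ 2 * charDegree (ζ : G → ℂ) = p + 1)) ∨
        ∃ (ω : Subgroup.center G →* ℂˣ) (y : (ZMod p)ˣ ⧸ R → IrrCharacter G) (t : ℕ),
          Zf p u R ω y ∧ Nat.card R * t + 1 = p ∧ 3 ≤ t ∧ 2 ≤ Nat.card R ∧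
          charDegree (ζ : G → ℂ) + Nat.card R = p) := by
  have hsq := not_sq_dvd P hP
  have hn := no_normal_order P hP hnn
  have hχ : IsCharacter G (ζ : G → ℂ) := IsIrr.isCharacter ζ.2
  have he : (ζ : G → ℂ) 1 = (charDegree (ζ : G → ℂ) : ℂ) := charDeg_spec' ζ
  obtain ⟨u, hu, hsyl, hFM⟩ := exists_start (by omega) P hP hnn ζ hfaith hdeg
  rcases hFM with ⟨⟨m, a, hm, hcard, ha⟩, hdegS⟩ | ⟨R, q₀, L, hde, hR2, hval⟩
  · obtain ⟨k, _, _, V, _, _, _, σ, hirr, hVd, hσu, hσa⟩ :=
      HalfDeg.exists_simple_pow hsq hn hχ hfaith he hu hm hcard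
    obtain ⟨iso⟩ := HalfDeg.main_of_simple hsq hn hχ hfaith he hdeg (by omega) hu
      (closure_irr (by omega) hsq hn ζ hfaith hdeg hu) σ hirr (by omega) hσu hσa ha
    obtain ⟨hcent, hconj⟩ := psl_local (by omega) hsq (center_regular hn) iso hu
    let S : Subgroup (ZMod p)ˣ := (powMonoidHom 2 : (ZMod p)ˣ →* (ZMod p)ˣ).range
    have hS : ∀ r, r ∈ S ↔ IsSquare r := fun r =>
      ⟨fun ⟨b, hb⟩ => ⟨b, by rw [← hb, powMonoidHom_apply, sq]⟩,
        fun ⟨b, hb⟩ => ⟨b, by rw [powMonoidHom_apply, sq, ← hb]⟩⟩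
    have hSm : ∀ r, r ∈ S ↔ ∃ g : G, g * u * g⁻¹ = pw u (r : ZMod p) := fun r =>
      (hS r).trans (hconj r).symm
    have hcardS := card_squares (by omega) S hS
    refine ⟨u, S, ⟨hu, hsyl, center_regular hn, hcent, hSm⟩, Or.inl ⟨⟨iso⟩, hcardS, Or.inl ?_⟩⟩
    rw [hdegS hcent S hSm]
    exact hcardS
  · refine ⟨u, R, L, ?_⟩
    have hidx := R.card_mul_index
    rw [Nat.card_eq_fintype_card (α := (ZMod p)ˣ), ZMod.card_units] at hidx
    have ht : Nat.card R * R.index + 1 = p := by omega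
    have hRpos : 0 < Nat.card R := Nat.card_pos
    rcases Nat.lt_or_ge R.index 3 with ht2 | ht3
    · have h2 : R.index = 2 := by
        by_contra h
        have : Nat.card R * R.index ≤ Nat.card R * 1 := Nat.mul_le_mul_left _ (by omega)
        omega
      rw [h2] at ht
      exact Or.inl ⟨half_psl hp7 hsq hn ζ hfaith (by omega) hu, by omega, Or.inr (by omega)⟩
    · obtain ⟨y, δ, F, hor⟩ := exists_fam L ζ fun hd => by
        have := Nat.le_of_dvd (charDeg_pos ζ) hd
        omega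
      have hsum : ∑ i ∈ Finset.univ.erase (0 : ZMod p), (ζ : G → ℂ) (pw u i) = (Nat.card R : ℂ) := by
        rw [Finset.sum_congr rfl fun i hi => hval i (Finset.ne_of_mem_erase hi),
          Finset.sum_neg_distrib, sum_cosum_erase, neg_neg]
      rcases hor with ⟨q, hq⟩ | ⟨c, hc, hconst⟩
      · have h1 := F.sum_erase q
        rw [hq, hsum] at h1
        have hδ : δ = -1 := by
          rcases F.sign with h | h
          · exfalso
            rw [h] at h1
            push_cast at h1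
            have : (Nat.card R : ℂ) = 0 := by linear_combination h1 / 2
            exact Nat.card_pos.ne' (Nat.cast_eq_zero.1 this)
          · exact h
        refine Or.inr ⟨omega ζ, y, R.index, ⟨hδ ▸ F, fun q' => ?_⟩, ht, ht3, ?_, hde⟩
        · rw [F.charDeg_eq q' q, hq, hde]
        · omega
      · exfalso
        rw [Finset.sum_congr rfl fun i hi => hconst i (Finset.ne_of_mem_erase hi), Finset.sum_const,
          Finset.card_erase_of_mem (Finset.mem_univ _), Finset.card_univ, ZMod.card,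
          nsmul_eq_mul] at hsum
        have h2 : ((p - 1 : ℕ) : ℤ) * c = (Nat.card R : ℤ) := by
          apply Int.cast_injective (α := ℂ)
          push_cast
          exact hsum
        rcases hc with rfl | rfl <;> omega

end Cfsg.Agent.Block.SmallFaith
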